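/-
Project TO: total orthogonality of `Sp`, `O^±`, `Ω^±` over finite fields of characteristic 2.
Definitions and the interface statements of the independent pieces.
-/
import Cfsg.Agent.Cls.WittDecomp
import Cfsg.Agent.Cls.OrthOmega

set_option autoImplicit false

namespace CL.TOr

open Module

universe u

/-- An "even structure" on the idempotent `e`: a copy of the `2 × 2` matrix units with unit `e` commuting with `S`. -/
def EvS {A : Type*} [Ring A] (S : Set A) (e : A) : Prop :=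
  ∃ a b : A, e * a = a ∧ a * e = a ∧ e * b = b ∧ b * e = b ∧ a * a = 0 ∧ a * b + b * a = e ∧
    ∀ s ∈ S, s * a = a * s ∧ s * b = b * s

/-- `σ` is a representation of `K` on the image of the idempotent `σ 1`, and `ω` is a skew form, non-degenerate on
that image, for which `σ (τ g⁻¹)` is the adjoint of `σ g`. -/
structure Skew {K : Type*} [Group K] (τ : K →* K) {V : Type*} [AddCommGroup V] [Module ℂ V]
    (σ : K →ₙ* End ℂ V) (ω : LinearMap.BilinForm ℂ V) : Prop where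
  skew : ∀ x y, ω x y = -ω y x
  adj : ∀ g x y, ω (σ g x) y = ω x (σ (τ g⁻¹) y)
  nd : ∀ x, σ 1 x = x → (∀ y, ω x y = 0) → x = 0

/-- Twisted total orthogonality: every module with a `τ`-twisted invariant skew form is a double. -/
def TO (K : Type*) [Group K] (τ : K →* K) : Prop :=
  ∀ (V : Type) [AddCommGroup V] [Module ℂ V] [FiniteDimensional ℂ V] (σ : K →ₙ* End ℂ V)
    (ω : LinearMap.BilinForm ℂ V), Skew τ σ ω → EvS (Set.range σ) (σ 1)

/-- The idempotent of the character `χ` for the "representation" `n` of the additive group `M`. -/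
noncomputable def Ech {A M : Type*} [Ring A] [Algebra ℂ A] [AddCommGroup M] (n : M → A) (χ : AddChar M ℂ) : A :=
  (Nat.card M : ℂ)⁻¹ • ∑ᶠ x : M, χ (-x) • n x

theorem Ech_eq {A M : Type*} [Ring A] [Algebra ℂ A] [AddCommGroup M] [Fintype M] (n : M → A) (χ : AddChar M ℂ) :
    Ech n χ = (Nat.card M : ℂ)⁻¹ • ∑ x : M, χ (-x) • n x := by
  rw [Ech, finsum_eq_sum_of_fintype]

section Lin

variable {E W : Type*} [Field E] [AddCommGroup W] [Module E W]

open Classical in
/-- The automorphism `1 + f` for `f² = 0`. -/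
noncomputable def un (f : End E W) : W ≃ₗ[E] W :=
  if h : f * f = 0 then
    LinearEquiv.ofLinear (1 + f) (1 - f)
      (by rw [← End.mul_eq_comp, add_mul, mul_sub, mul_sub, h, ← End.one_eq_id]; simp)
      (by rw [← End.mul_eq_comp, sub_mul, mul_add, mul_add, h, ← End.one_eq_id]; simp)
  else 1

theorem un_apply {f : End E W} (h : f * f = 0) (x : W) : un f x = x + f x := by
  rw [un, dif_pos h]; rfl

theorem un_coe {f : End E W} (h : f * f = 0) : (un f : End E W) = 1 + f := by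
  ext x; simp [un_apply h]

theorem un_zero : un (0 : End E W) = 1 := by
  ext x; simp [un_apply]

/-- The maps from the image of `q` to the image of `p`. -/
def Ug (p q : End E W) : AddSubgroup (End E W) where
  carrier := {f | p * f * q = f}
  zero_mem' := by simp
  add_mem' {a b} ha hb := by
    simp only [Set.mem_setOf_eq] at *
    rw [mul_add, add_mul, ha, hb]
  neg_mem' {a} ha := by
    simp only [Set.mem_setOf_eq] at *
    rw [mul_neg, neg_mul, ha]

theorem mem_Ug {p q f : End E W} : f ∈ Ug p q ↔ p * f * q = f := Iff.rfl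

theorem Ug_mul {p q f g : End E W} (hqp : q * p = 0) (hf : f ∈ Ug p q) (hg : g ∈ Ug p q) : f * g = 0 := by
  rw [← mem_Ug.1 hf, ← mem_Ug.1 hg]
  calc p * f * q * (p * g * q) = p * f * (q * p) * g * q := by simp only [mul_assoc]
    _ = 0 := by rw [hqp]; simp

theorem un_add {p q f g : End E W} (hqp : q * p = 0) (hf : f ∈ Ug p q) (hg : g ∈ Ug p q) :
    un (f + g) = un f * un g := by
  ext x
  have h := LinearMap.congr_fun (Ug_mul hqp hf hg) x
  simp only [End.mul_apply, LinearMap.zero_apply] at h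
  rw [LinearEquiv.mul_apply, un_apply (Ug_mul hqp (add_mem hf hg) (add_mem hf hg)), un_apply (Ug_mul hqp hf hf),
    un_apply (Ug_mul hqp hg hg), map_add, h, LinearMap.add_apply]
  abel

/-- `τ` is the inverse-transpose automorphism for the form `β`. -/
def IsInvT (β : LinearMap.BilinForm E W) (τ : (W ≃ₗ[E] W) →* (W ≃ₗ[E] W)) : Prop :=
  ∀ g x y, β (g x) (τ g y) = β x y

/-- A non-degenerate symmetric bilinear form. -/
structure Sym (β : LinearMap.BilinForm E W) : Prop where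
  symm : ∀ x y, β x y = β y x
  nd : ∀ x, (∀ y, β x y = 0) → x = 0

variable (E W) in
/-- The theorem for `GL(W)`. -/
def GLTO : Prop :=
  ∀ β : LinearMap.BilinForm E W, Sym β → ∀ τ, IsInvT β τ → TO (W ≃ₗ[E] W) τ

/-- Direct sum of automorphisms of complementary subspaces. -/
noncomputable def glue (A C : Submodule E W) (h : IsCompl A C) :
    (A ≃ₗ[E] A) × (C ≃ₗ[E] C) →* (W ≃ₗ[E] W) where
  toFun g := ((A.prodEquivOfIsCompl C h).symm.trans (g.1.prodCongr g.2)).trans (A.prodEquivOfIsCompl C h)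
  map_one' := LinearEquiv.ext fun x => (A.prodEquivOfIsCompl C h).apply_symm_apply x
  map_mul' g g' := by ext x; simp

theorem glue_add {A C : Submodule E W} (h : IsCompl A C) (g : (A ≃ₗ[E] A) × (C ≃ₗ[E] C)) (a : A) (c : C) :
    glue A C h g (a + c) = g.1 a + g.2 c := by
  have : (a : W) + c = A.prodEquivOfIsCompl C h (a, c) := rfl
  rw [this]
  simp [glue]

theorem glue_left {A C : Submodule E W} (h : IsCompl A C) (g : (A ≃ₗ[E] A) × (C ≃ₗ[E] C)) (a : A) :
    glue A C h g a = g.1 a := by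
  simpa using glue_add h g a 0

theorem glue_right {A C : Submodule E W} (h : IsCompl A C) (g : (A ≃ₗ[E] A) × (C ≃ₗ[E] C)) (c : C) :
    glue A C h g c = g.2 c := by
  simpa using glue_add h g 0 c

theorem exists_add_of_isCompl {A C : Submodule E W} (h : IsCompl A C) (x : W) : ∃ (a : A) (c : C), x = a + c := by
  obtain ⟨⟨a, c⟩, rfl⟩ := (A.prodEquivOfIsCompl C h).surjective x
  exact ⟨a, c, rfl⟩

/-- The restriction of an automorphism to an invariant subspace. -/
noncomputable def resEq [FiniteDimensional E W] (g : W ≃ₗ[E] W) (A : Submodule E W) (h : ∀ a ∈ A, g a ∈ A) :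
    A ≃ₗ[E] A :=
  LinearEquiv.ofInjectiveEndo ((g : W →ₗ[E] W).restrict h)
    (fun a b hab => Subtype.ext (g.injective (congrArg Subtype.val hab)))

theorem resEq_apply [FiniteDimensional E W] (g : W ≃ₗ[E] W) (A : Submodule E W) (h : ∀ a ∈ A, g a ∈ A) (a : A) :
    (resEq g A h a : W) = g a := rfl

theorem glue_resEq [FiniteDimensional E W] {A C : Submodule E W} (h : IsCompl A C) (g : W ≃ₗ[E] W)
    (hA : ∀ a ∈ A, g a ∈ A) (hC : ∀ c ∈ C, g c ∈ C) : glue A C h (resEq g A hA, resEq g C hC) = g := by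
  ext x
  obtain ⟨a, c, rfl⟩ := exists_add_of_isCompl h x
  rw [glue_add, map_add]
  rfl

end Lin

section Herm

variable {E V : Type*} [Field E] [AddCommGroup V] [Module E V]

/-- A non-degenerate hermitian form for the involution `s` (the identity is allowed); semilinear in the first slot. -/
structure Herm (s : E →+* E) (B : V →ₛₗ[s] V →ₗ[E] E) : Prop where
  invol : ∀ a, s (s a) = a
  symm : ∀ x y, s (B x y) = B y x
  nd : ∀ x, (∀ y, B x y = 0) → x = 0

variable {s : E →+* E}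

/-- The isometry group. -/
def UG (B : V →ₛₗ[s] V →ₗ[E] E) : Subgroup (V ≃ₗ[E] V) where
  carrier := {g | ∀ x y, B (g x) (g y) = B x y}
  mul_mem' {a b} ha hb x y := by rw [LinearEquiv.mul_apply, LinearEquiv.mul_apply, ha, hb]
  one_mem' _ _ := rfl
  inv_mem' {a} ha x y := by
    have := ha (a⁻¹ x) (a⁻¹ y)
    rw [← LinearEquiv.mul_apply, ← LinearEquiv.mul_apply, mul_inv_cancel] at this
    exact this.symm

theorem mem_UG {B : V →ₛₗ[s] V →ₗ[E] E} {g : V ≃ₗ[E] V} : g ∈ UG B ↔ ∀ x y, B (g x) (g y) = B x y := Iff.rfl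

/-- The stabiliser of a vector. -/
def fixv (v : V) : Subgroup (V ≃ₗ[E] V) where
  carrier := {g | g v = v}
  mul_mem' {a b} ha hb := by
    simp only [Set.mem_setOf_eq] at *
    rw [LinearEquiv.mul_apply, hb, ha]
  one_mem' := rfl
  inv_mem' {a} ha := by
    simp only [Set.mem_setOf_eq] at *
    conv_lhs => rw [← ha]
    rw [← LinearEquiv.mul_apply, inv_mul_cancel]; rfl

theorem mem_fixv {v : V} {g : V ≃ₗ[E] V} : g ∈ fixv (E := E) v ↔ g v = v := Iff.rfl

/-- A conjugation: a semilinear involution which conjugates the form. -/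
structure IsCj (B : V →ₛₗ[s] V →ₗ[E] E) (t : V →+ V) : Prop where
  smul : ∀ (c : E) x, t (c • x) = s c • t x
  invol : ∀ x, t (t x) = x
  form : ∀ x y, B (t x) (t y) = s (B x y)

/-- `τ` is conjugation by `t` on the linear group `K`. -/
def IsCjAut (t : V →+ V) {K : Subgroup (V ≃ₗ[E] V)} (τ : K →* K) : Prop :=
  ∀ (g : K) x, (τ g : V ≃ₗ[E] V) (t x) = t ((g : V ≃ₗ[E] V) x)

/-- Total orthogonality of a linear group, twisted by the conjugation `t`. -/
def TOc (K : Subgroup (V ≃ₗ[E] V)) (t : V →+ V) : Prop :=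
  ∀ τ : K →* K, IsCjAut t τ → TO K τ

/-- `Q` is a `b`-invariant quadratic refinement of `B`. -/
def Ref (B : V →ₛₗ[s] V →ₗ[E] E) (b : V ≃ₗ[E] V) (Q : V → E) : Prop :=
  (∀ x y, Q (x + y) = Q x + Q y + B x y) ∧ ∀ x, Q (b x) = Q x

/-- The trace-like cocycle of the Heisenberg group. -/
def kap (B : V →ₛₗ[s] V →ₗ[E] E) (γ : E) (x y : V) : E := γ * B y x + s γ * B x y

end Herm

/-! ### Interface statements -/

/-- Howlett–Lehrer for `GL(W)`. -/
def HLThm : Prop :=
  ∀ (E W : Type u) [Field E] [Finite E] [AddCommGroup W] [Module E W] [FiniteDimensional E W]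
    (V : Type) [AddCommGroup V] [Module ℂ V] (σ : (W ≃ₗ[E] W) →ₙ* End ℂ V) (p q : End E W),
    p * p = p → q * q = q → p * q = 0 → q * p = 0 → ∀ v : V, (∀ f ∈ Ug p q, σ (un f) v = v) →
      Ech (fun f : Ug q p => σ (un (f : End E W))) 1 v = 0 → v = 0

/-- The Weil representation of a unitary group in characteristic 2, built inside any module of the Jacobi group. -/
def WeilThm : Prop :=
  ∀ (E W : Type u) [Field E] [Finite E] [CharP E 2] [AddCommGroup W] [Module E W] [FiniteDimensional E W]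
    (s : E →+* E) (B : W →ₛₗ[s] W →ₗ[E] E), Herm s B → s ≠ RingHom.id E → ∀ γ : E, γ + s γ = 1 →
    ∀ ζ : E → ℂ, (∀ a b, s a = a → s b = b → ζ (a + b) = ζ a * ζ b) → ζ 0 = 1 → (∃ c, s c = c ∧ ζ c ≠ 1) →
    ∀ (V : Type) [AddCommGroup V] [Module ℂ V] (N : W → End ℂ V) (G : UG B →ₙ* End ℂ V),
      N 0 = G 1 → (∀ x y, N x * N y = ζ (kap B γ x y) • N (x + y)) →
      (∀ (g : UG B) x, G g * N x = N ((g : W ≃ₗ[E] W) x) * G g) →
      ∃ (S : UG B →ₙ* End ℂ V) (lam : ℕ → ℂ), S 1 = G 1 ∧ (∀ g x, S g * N x = N x * S g) ∧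
        (∀ g, S g = lam (Nat.card {x : W // (g : W ≃ₗ[E] W) x = x}) • ∑ᶠ x : W, ζ (B x x) • (N x * G g * N x)) ∧
        ∀ a : End ℂ V, G 1 * a = a → a * G 1 = a → (∀ x, N x * a = a * N x) → (∀ g, S g * a = a * S g) →
          ∀ g, G g * a = a * G g

/-- The centraliser of an element of odd order of `GL(W)`. -/
def GLDich : Prop :=
  ∀ (E W : Type u) [Field E] [Finite E] [CharP E 2] [AddCommGroup W] [Module E W] [FiniteDimensional E W]
    (b : W ≃ₗ[E] W), Odd (orderOf b) →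
    (∃ c : E, ∀ x, b x = c • x) ∨
    (∃ A C : Submodule E W, IsCompl A C ∧ A ≠ ⊥ ∧ C ≠ ⊥ ∧
      ∀ g : W ≃ₗ[E] W, g * b = b * g → (∀ a ∈ A, g a ∈ A) ∧ ∀ c ∈ C, g c ∈ C) ∨
    (∃ (E' : Type u) (_ : Field E') (_ : Finite E') (_ : CharP E' 2) (_ : Module E' W) (_ : FiniteDimensional E' W)
      (φ : (W ≃ₗ[E'] W) →* (W ≃ₗ[E] W)) (β' : LinearMap.BilinForm E' W) (β : LinearMap.BilinForm E W),
      finrank E' W < finrank E W ∧ (∀ g x, φ g x = g x) ∧ (∀ g : W ≃ₗ[E] W, g * b = b * g → g ∈ φ.range) ∧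
      Sym β' ∧ Sym β ∧ ∀ x y x' y', β' x y = β' x' y' → β x y = β x' y')

/-- The centraliser of an isometry of odd order. -/
def TriThm : Prop :=
  ∀ (E V : Type u) [Field E] [Finite E] [CharP E 2] [AddCommGroup V] [Module E V] [FiniteDimensional E V]
    (s : E →+* E) (B : V →ₛₗ[s] V →ₗ[E] E), Herm s B → ∀ b : V ≃ₗ[E] V, b ∈ UG B → Odd (orderOf b) →
    (∃ c : E, ∀ x, b x = c • x) ∨
    (∃ A C : Submodule E V, IsCompl A C ∧ A ≠ ⊥ ∧ C ≠ ⊥ ∧ (∀ a ∈ A, ∀ c ∈ C, B a c = 0) ∧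
      (∀ x, b x = x → x ∈ A) ∧ ∀ g : V ≃ₗ[E] V, g * b = b * g → (∀ a ∈ A, g a ∈ A) ∧ ∀ c ∈ C, g c ∈ C) ∨
    ((∀ x, b x = x → x = 0) ∧
      ∃ (X : Submodule E V) (β : LinearMap.BilinForm E X) (τ : (X ≃ₗ[E] X) →* (X ≃ₗ[E] X))
        (φ : (X ≃ₗ[E] X) →* UG B) (t : V →+ V),
        2 * finrank E X = finrank E V ∧ Sym β ∧ IsInvT β τ ∧ IsCj B t ∧
        (∀ g x, (φ (τ g) : V ≃ₗ[E] V) (t x) = t ((φ g : V ≃ₗ[E] V) x)) ∧
        (∀ k : UG B, (k : V ≃ₗ[E] V) * b = b * k → k ∈ φ.range) ∧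
        (∀ g, ∀ x ∈ X, (φ g : V ≃ₗ[E] V) x ∈ X) ∧ (∀ x ∈ X, t x ∈ X → x = 0) ∧ (∀ x ∈ X, ∀ y ∈ X, B x y = 0) ∧
        ∀ Q, Ref B b Q → (∀ x ∈ X, Q x = 0) ∧ (∀ x, Q (t x) = Q x) ∧ ∀ g x, Q ((φ g : V ≃ₗ[E] V) x) = Q x) ∨
    ((∀ x, b x = x → x = 0) ∧
      ∃ (E' : Type u) (_ : Field E') (_ : Finite E') (_ : CharP E' 2) (_ : Module E' V) (_ : FiniteDimensional E' V)
        (s' : E' →+* E') (B' : V →ₛₗ[s'] V →ₗ[E'] E') (φ : UG B' →* UG B) (b' : E'),
        Herm s' B' ∧ s' ≠ RingHom.id E' ∧ finrank E' V < finrank E V ∧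
        (∀ x, b x = b' • x) ∧ b' * s' b' = 1 ∧
        (∀ g x, (φ g : V ≃ₗ[E] V) x = (g : V ≃ₗ[E'] V) x) ∧
        (∀ k : UG B, (k : V ≃ₗ[E] V) * b = b * k → k ∈ φ.range) ∧
        (∀ t, IsCj B' t → IsCj B t ∧ ∀ Q, Ref B b Q → ∀ x, Q (t x) = Q x) ∧
        (s = RingHom.id E → ∃ d, Nat.card E' = Nat.card E ^ (2 * d)) ∧
        ∀ Q, Ref B b Q → ∀ g x, Q ((φ g : V ≃ₗ[E] V) x) = Q x)

/-- Every isometry of a non-degenerate quadratic space of characteristic 2 is real. -/
def ORealAll : Prop :=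
  ∀ (F V : Type u) [Field F] [Finite F] [CharP F 2] [AddCommGroup V] [Module F V] [FiniteDimensional F V]
    (Q : QuadraticForm F V), (QuadraticMap.polarBilin Q).Nondegenerate → ∀ g : Cls.OG Q, IsConj g g⁻¹

/-- A unipotent isometry of a space of dimension `2n` is inverted by an isometry of Dickson invariant `n`. -/
def UniReal : Prop :=
  ∀ (F V : Type u) [Field F] [Finite F] [CharP F 2] [AddCommGroup V] [Module F V] [FiniteDimensional F V]
    (Q : QuadraticForm F V) (hQ : (QuadraticMap.polarBilin Q).Nondegenerate) (g : Cls.OG Q) (k : ℕ),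
    g ^ 2 ^ k = 1 → ∃ t : Cls.OG Q, t * g * t⁻¹ = g⁻¹ ∧ Cls.dickson hQ t = (-1) ^ (finrank F V / 2)

end CL.TOr
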