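/-
Project TO: ring-level lemmas on even structures (gluing, Fourier decomposition).
-/
import Cfsg.Agent.TOr.Defs

set_option autoImplicit false

namespace CL.TOr

open Module

section Ring

variable {A : Type*} [Ring A]

theorem EvS.of_comm {S S' : Set A} {e : A} (h : EvS S e)
    (hS : ∀ a, e * a = a → a * e = a → (∀ s ∈ S, s * a = a * s) → ∀ s ∈ S', s * a = a * s) : EvS S' e := by
  obtain ⟨a, b, h1, h2, h3, h4, h5, h6, h7⟩ := h
  exact ⟨a, b, h1, h2, h3, h4, h5, h6, fun s hs =>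
    ⟨hS a h1 h2 (fun s hs => (h7 s hs).1) s hs, hS b h3 h4 (fun s hs => (h7 s hs).2) s hs⟩⟩

theorem EvS.mono {S S' : Set A} {e : A} (h : EvS S e) (hS : S' ⊆ S) : EvS S' e :=
  h.of_comm fun _ _ _ ha s hs => ha s (hS hs)

theorem evS_zero (S : Set A) : EvS S 0 :=
  ⟨0, 0, by simp, by simp, by simp, by simp, by simp, by simp, fun _ _ => by simp⟩

/-- Cutting an even structure by an idempotent that commutes with it. -/
theorem EvS.cut {S S' : Set A} {e f : A} (h : EvS S e) (hff : f * f = f) (hef : e * f = f)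
    (hf : ∀ a, e * a = a → a * e = a → (∀ s ∈ S, s * a = a * s) → f * a = a * f)
    (hS : ∀ a, e * a = a → a * e = a → (∀ s ∈ S, s * a = a * s) → ∀ s ∈ S', s * (a * f) = a * f * s) :
    EvS S' f := by
  obtain ⟨a, b, h1, h2, h3, h4, h5, h6, h7⟩ := h
  have ha := hf a h1 h2 (fun s hs => (h7 s hs).1)
  have hb := hf b h3 h4 (fun s hs => (h7 s hs).2)
  refine ⟨a * f, b * f, ?_, ?_, ?_, ?_, ?_, ?_, fun s hs =>
    ⟨hS a h1 h2 (fun s hs => (h7 s hs).1) s hs, hS b h3 h4 (fun s hs => (h7 s hs).2) s hs⟩⟩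
  · rw [← mul_assoc, ha, mul_assoc, hff]
  · rw [mul_assoc, hff]
  · rw [← mul_assoc, hb, mul_assoc, hff]
  · rw [mul_assoc, hff]
  · rw [mul_assoc, ← mul_assoc f, ha, ← mul_assoc, ← mul_assoc, h5]; simp
  · have e1 : a * f * (b * f) = a * b * f := by rw [mul_assoc, ← mul_assoc f, hb, mul_assoc b, hff, mul_assoc]
    have e2 : b * f * (a * f) = b * a * f := by rw [mul_assoc, ← mul_assoc f, ha, mul_assoc a, hff, mul_assoc]
    rw [e1, e2, ← add_mul, h6, hef]

variable {H : Type*} [Group H]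

theorem sig_one_mul (σ : H →ₙ* A) (h : H) : σ 1 * σ h = σ h := by rw [← map_mul, one_mul]

theorem sig_mul_one (σ : H →ₙ* A) (h : H) : σ h * σ 1 = σ h := by rw [← map_mul, mul_one]

theorem sig_inv_mul (σ : H →ₙ* A) (h : H) : σ h⁻¹ * σ h = σ 1 := by rw [← map_mul, inv_mul_cancel]

theorem sig_mul_inv (σ : H →ₙ* A) (h : H) : σ h * σ h⁻¹ = σ 1 := by rw [← map_mul, mul_inv_cancel]

/-- An even structure commuting with generators commutes with the group they generate. -/
theorem EvS.closure (σ : H →ₙ* A) {X : Set H} (h : EvS (σ '' X) (σ 1)) :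
    EvS (σ '' (Subgroup.closure X : Set H)) (σ 1) := by
  refine h.of_comm fun a h1 h2 ha => ?_
  rintro _ ⟨g, hg, rfl⟩
  induction hg using Subgroup.closure_induction with
  | mem x hx => exact ha _ ⟨x, hx, rfl⟩
  | one => rw [h1, h2]
  | mul x y _ _ hx hy => rw [map_mul, mul_assoc, hy, ← mul_assoc, hx, mul_assoc]
  | inv x _ hx =>
    calc σ x⁻¹ * a = σ x⁻¹ * (a * σ 1) := by rw [h2]
      _ = σ x⁻¹ * (a * σ x) * σ x⁻¹ := by rw [← sig_mul_inv σ x]; simp only [mul_assoc]
      _ = a * σ x⁻¹ := by rw [← hx, ← mul_assoc, sig_inv_mul, h1]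

/-- The restriction of a representation along a homomorphism. -/
def cmp {H' : Type*} [Group H'] (σ : H →ₙ* A) (φ : H' →* H) : H' →ₙ* A where
  toFun g := σ (φ g)
  map_mul' g h := by rw [map_mul, map_mul]

theorem cmp_apply {H' : Type*} [Group H'] (σ : H →ₙ* A) (φ : H' →* H) (g : H') : cmp σ φ g = σ (φ g) := rfl

theorem cmp_one {H' : Type*} [Group H'] (σ : H →ₙ* A) (φ : H' →* H) : cmp σ φ 1 = σ 1 := by
  rw [cmp_apply, map_one]

/-- A representation cut by a commuting idempotent. -/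
def cutS (σ : H →ₙ* A) (f : A) (hff : f * f = f) (hf : ∀ g, σ g * f = f * σ g) : H →ₙ* A where
  toFun g := σ g * f
  map_mul' g h := by rw [map_mul, mul_assoc, mul_assoc, ← mul_assoc f, ← hf, mul_assoc, hff]

theorem cutS_apply (σ : H →ₙ* A) (f : A) (hff : f * f = f) (hf : ∀ g, σ g * f = f * σ g) (g : H) :
    cutS σ f hff hf g = σ g * f := rfl

/-- Gluing of even structures along an orthogonal family of idempotents permuted by the group. -/
theorem glue_ev {I : Type*} [Fintype I] [MulAction H I] (σ : H →ₙ* A) (E : I → A)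
    (horth : ∀ i j, i ≠ j → E i * E j = 0) (hidem : ∀ i, E i * E i = E i) (hsum : ∑ i, E i = σ 1)
    (hact : ∀ h i, σ h * E i = E (h • i) * σ h)
    (hEv : ∀ i, ∃ g : H, EvS ((fun h => σ h * E (g • i)) '' {h | h • g • i = g • i}) (E (g • i))) :
    EvS (Set.range σ) (σ 1) := by
  classical
  have hE1 : ∀ i, σ 1 * E i = E i := fun i => by
    rw [← hsum, Finset.sum_mul, Finset.sum_eq_single i (fun j _ hj => horth j i hj) (by simp), hidem]
  have hE2 : ∀ i, E i * σ 1 = E i := fun i => by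
    rw [← hsum, Finset.mul_sum, Finset.sum_eq_single i (fun j _ hj => horth i j hj.symm) (by simp), hidem]
  -- good representatives
  let q : I → MulAction.orbitRel.Quotient H I := Quotient.mk _
  choose g0 hg0 using hEv
  let r : MulAction.orbitRel.Quotient H I → I := fun c => g0 c.out • c.out
  have hr : ∀ i, ∃ g : H, g • r (q i) = i := fun i => by
    have : (MulAction.orbitRel H I).r (q i).out i := Quotient.exact (Quotient.out_eq (q i))
    obtain ⟨g, hg⟩ := this
    refine ⟨g⁻¹ * (g0 (q i).out)⁻¹, ?_⟩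
    simp only [r, mul_smul, inv_smul_smul]
    rw [← hg, inv_smul_smul]
  choose g hg using hr
  have hq : ∀ (h : H) i, q (h • i) = q i := fun h i => Quotient.sound ⟨h, rfl⟩
  have hEv' : ∀ c, EvS ((fun h => σ h * E (r c)) '' {h | h • r c = r c}) (E (r c)) := fun c => hg0 c.out
  choose a b h1 h2 h3 h4 h5 h6 h7 using hEv'
  -- transport
  let T : (MulAction.orbitRel.Quotient H I → A) → I → A := fun x i => σ (g i) * x (q i) * σ (g i)⁻¹
  have hact' : ∀ h i, E i * σ h⁻¹ = σ h⁻¹ * E (h • i) := fun h i => by rw [hact, inv_smul_smul]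
  have T1 : ∀ x, (∀ c, E (r c) * x c = x c) → ∀ i, E i * T x i = T x i := fun x hx i => by
    simp only [T]
    have := hact (g i) (r (q i))
    rw [hg] at this
    rw [← mul_assoc, ← mul_assoc, ← this, mul_assoc (σ _), hx]
  have T2 : ∀ x, (∀ c, x c * E (r c) = x c) → ∀ i, T x i * E i = T x i := fun x hx i => by
    simp only [T]
    have := hact' (g i) (r (q i))
    rw [hg] at this
    rw [mul_assoc, ← this, ← mul_assoc, mul_assoc (σ _), hx]
  have Tmul : ∀ x y, (∀ c, E (r c) * y c = y c) → ∀ i, T x i * T y i = T (fun c => x c * y c) i :=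
    fun x y hy i => by
      simp only [T]
      have : σ 1 * y (q i) = y (q i) := by rw [← hy, ← mul_assoc, hE1]
      calc σ (g i) * x (q i) * σ (g i)⁻¹ * (σ (g i) * y (q i) * σ (g i)⁻¹)
          = σ (g i) * x (q i) * ((σ (g i)⁻¹ * σ (g i)) * y (q i)) * σ (g i)⁻¹ := by simp only [mul_assoc]
        _ = _ := by rw [sig_inv_mul, this]; simp only [mul_assoc]
  have Tact : ∀ x, (∀ c, E (r c) * x c = x c) → (∀ c, x c * E (r c) = x c) →
      (∀ c h, h • r c = r c → σ h * E (r c) * x c = x c * (σ h * E (r c))) →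
      ∀ h i, σ h * T x i = T x (h • i) * σ h := fun x hx hx' hc h i => by
    simp only [T, hq]
    set k := (g (h • i))⁻¹ * h * g i with hk
    have hk' : k • r (q i) = r (q i) := by
      rw [hk, mul_smul, mul_smul, hg, inv_smul_eq_iff, ← hq h i, hg]
    have hc' : σ k * x (q i) = x (q i) * σ k := by
      have := hc _ k hk'
      rw [mul_assoc, hx, hact, hk', ← mul_assoc, hx'] at this
      exact this
    have e1 : h * g i = g (h • i) * k := by rw [hk]; group
    have e2 : k * (g i)⁻¹ = (g (h • i))⁻¹ * h := by rw [hk]; group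
    calc σ h * (σ (g i) * x (q i) * σ (g i)⁻¹) = σ (h * g i) * x (q i) * σ (g i)⁻¹ := by
          rw [map_mul]; simp only [mul_assoc]
      _ = σ (g (h • i)) * (σ k * x (q i)) * σ (g i)⁻¹ := by rw [e1, map_mul]; simp only [mul_assoc]
      _ = σ (g (h • i)) * x (q i) * σ (k * (g i)⁻¹) := by rw [hc', map_mul σ k]; simp only [mul_assoc]
      _ = _ := by rw [e2, map_mul]; simp only [mul_assoc]
  have Tsum : ∀ x y, (∀ c, x c * E (r c) = x c) → (∀ c, E (r c) * y c = y c) →
      (∑ i, T x i) * (∑ i, T y i) = ∑ i, T (fun c => x c * y c) i := fun x y hx hy => by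
    rw [Finset.sum_mul]
    refine Finset.sum_congr rfl fun i _ => ?_
    rw [Finset.mul_sum, Finset.sum_eq_single i (fun j _ hj => ?_) (by simp), Tmul x y hy]
    rw [← T2 x hx i, ← T1 y hy j, mul_assoc, ← mul_assoc (E i), horth i j hj.symm]; simp
  have Tcomm : ∀ x, (∀ h i, σ h * T x i = T x (h • i) * σ h) → ∀ h, σ h * ∑ i, T x i = (∑ i, T x i) * σ h :=
    fun x hx h => by
      rw [Finset.mul_sum, Finset.sum_mul]
      simp only [hx]
      exact Equiv.sum_comp (MulAction.toPerm h) (fun i => T x i * σ h)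
  have L : ∀ x, (∀ c, E (r c) * x c = x c) → σ 1 * ∑ i, T x i = ∑ i, T x i := fun x hx => by
    rw [Finset.mul_sum]
    exact Finset.sum_congr rfl fun i _ => by rw [← T1 x hx i, ← mul_assoc, hE1]
  have R : ∀ x, (∀ c, x c * E (r c) = x c) → (∑ i, T x i) * σ 1 = ∑ i, T x i := fun x hx => by
    rw [Finset.sum_mul]
    exact Finset.sum_congr rfl fun i _ => by rw [← T2 x hx i, mul_assoc, hE2]
  refine ⟨∑ i, T a i, ∑ i, T b i, L a h1, R a h2, L b h3, R b h4, ?_, ?_, ?_⟩
  · rw [Tsum a a h2 h1]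
    simp [T, h5]
  · rw [Tsum a b h2 h3, Tsum b a h4 h1, ← Finset.sum_add_distrib, ← hsum]
    refine Finset.sum_congr rfl fun i _ => ?_
    simp only [T]
    rw [← add_mul, ← mul_add, h6, hact, hg, mul_assoc, sig_mul_inv, hE2]
  · rintro _ ⟨h, rfl⟩
    exact ⟨Tcomm a (Tact a h1 h2 fun c h hh => (h7 c _ ⟨h, hh, rfl⟩).1) h,
      Tcomm b (Tact b h3 h4 fun c h hh => (h7 c _ ⟨h, hh, rfl⟩).2) h⟩

end Ring

section Fourier

variable {A : Type*} [Ring A] [Algebra ℂ A] {M : Type*} [AddCommGroup M] [Finite M] {n : M → A}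

theorem n_mul_Ech (nadd : ∀ x y, n (x + y) = n x * n y) (χ : AddChar M ℂ) (x : M) :
    n x * Ech n χ = χ x • Ech n χ := by
  letI := Fintype.ofFinite M
  rw [Ech_eq, mul_smul_comm, smul_comm (χ x), Finset.mul_sum, Finset.smul_sum (r := χ x)]
  congr 1
  rw [← Equiv.sum_comp (Equiv.addLeft x) (fun y => χ x • χ (-y) • n y)]
  refine Finset.sum_congr rfl fun y _ => ?_
  rw [mul_smul_comm, ← nadd, smul_smul, ← AddChar.map_add_eq_mul]
  simp

theorem Ech_mul_n (nadd : ∀ x y, n (x + y) = n x * n y) (χ : AddChar M ℂ) (x : M) :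
    Ech n χ * n x = χ x • Ech n χ := by
  rw [← n_mul_Ech nadd]
  letI := Fintype.ofFinite M
  rw [Ech_eq, mul_smul_comm, smul_mul_assoc, Finset.mul_sum, Finset.sum_mul]
  congr 1
  refine Finset.sum_congr rfl fun y _ => ?_
  rw [mul_smul_comm, smul_mul_assoc, ← nadd, ← nadd, add_comm]

/-- `Ech n χ` acts as the identity on the left of an element of its eigenspace. -/
theorem Ech_mul_of_eigen (χ : AddChar M ℂ) {y : A} (h : ∀ x, n x * y = χ x • y) : Ech n χ * y = y := by
  letI := Fintype.ofFinite M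
  have hM : (Nat.card M : ℂ) ≠ 0 := by exact_mod_cast Nat.card_pos.ne'
  rw [Ech_eq, smul_mul_assoc, Finset.sum_mul]
  simp only [smul_mul_assoc, h, smul_smul, ← AddChar.map_add_eq_mul, neg_add_cancel, AddChar.map_zero_eq_one,
    one_smul, Finset.sum_const, Finset.card_univ]
  rw [← Nat.cast_smul_eq_nsmul ℂ, smul_smul, ← Nat.card_eq_fintype_card, inv_mul_cancel₀ hM, one_smul]

theorem mul_Ech_of_eigen (χ : AddChar M ℂ) {y : A} (h : ∀ x, y * n x = χ x • y) : y * Ech n χ = y := by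
  letI := Fintype.ofFinite M
  have hM : (Nat.card M : ℂ) ≠ 0 := by exact_mod_cast Nat.card_pos.ne'
  rw [Ech_eq, mul_smul_comm, Finset.mul_sum]
  simp only [mul_smul_comm, h, smul_smul, ← AddChar.map_add_eq_mul, neg_add_cancel, AddChar.map_zero_eq_one,
    one_smul, Finset.sum_const, Finset.card_univ]
  rw [← Nat.cast_smul_eq_nsmul ℂ, smul_smul, ← Nat.card_eq_fintype_card, inv_mul_cancel₀ hM, one_smul]

theorem Ech_idem (nadd : ∀ x y, n (x + y) = n x * n y) (χ : AddChar M ℂ) : Ech n χ * Ech n χ = Ech n χ :=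
  Ech_mul_of_eigen χ (n_mul_Ech nadd χ)

theorem zero_mul_Ech (nadd : ∀ x y, n (x + y) = n x * n y) (χ : AddChar M ℂ) : n 0 * Ech n χ = Ech n χ := by
  rw [n_mul_Ech nadd, AddChar.map_zero_eq_one, one_smul]

theorem Ech_mul_zero (nadd : ∀ x y, n (x + y) = n x * n y) (χ : AddChar M ℂ) : Ech n χ * n 0 = Ech n χ := by
  rw [Ech_mul_n nadd, AddChar.map_zero_eq_one, one_smul]

theorem Ech_orth (nadd : ∀ x y, n (x + y) = n x * n y) {χ χ' : AddChar M ℂ} (h : χ ≠ χ') :
    Ech n χ * Ech n χ' = 0 := by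
  obtain ⟨x, hx⟩ := DFunLike.ne_iff.1 h
  have h1 : Ech n χ * n x * Ech n χ' = χ x • (Ech n χ * Ech n χ') := by rw [Ech_mul_n nadd, smul_mul_assoc]
  rw [mul_assoc, n_mul_Ech nadd, mul_smul_comm, ← sub_eq_zero, ← sub_smul] at h1
  have h2 := congrArg ((χ' x - χ x)⁻¹ • ·) h1
  simpa [smul_smul, inv_mul_cancel₀ (sub_ne_zero.2 hx.symm)] using h2

/-- Anything that commutes with all `n x` commutes with `Ech n χ`. -/
theorem comm_Ech (χ : AddChar M ℂ) {y : A} (h : ∀ x, y * n x = n x * y) : y * Ech n χ = Ech n χ * y := by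
  letI := Fintype.ofFinite M
  rw [Ech_eq, mul_smul_comm, smul_mul_assoc, Finset.mul_sum, Finset.sum_mul]
  simp only [mul_smul_comm, smul_mul_assoc, h]

/-- Transport of `Ech` along an additive equivalence. -/
theorem mul_Ech_equiv {M' : Type*} [AddCommGroup M'] {n' : M' → A} (e : M ≃+ M') {y : A}
    (h : ∀ x, y * n x = n' (e x) * y) {χ : AddChar M ℂ} {χ' : AddChar M' ℂ} (hχ : ∀ x, χ' (e x) = χ x) :
    y * Ech n χ = Ech n' χ' * y := by
  letI := Fintype.ofFinite M
  letI := Fintype.ofEquiv M e.toEquiv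
  rw [Ech_eq, Ech_eq, mul_smul_comm, smul_mul_assoc, Finset.mul_sum, Finset.sum_mul, Nat.card_congr e.toEquiv]
  congr 1
  refine Fintype.sum_equiv e.toEquiv _ _ fun x => ?_
  rw [mul_smul_comm, smul_mul_assoc, h, ← hχ, map_neg]; rfl

theorem sum_Ech (n : M → A) : ∑ χ : AddChar M ℂ, Ech n χ = n 0 := by
  classical
  letI := Fintype.ofFinite M
  have hM : (Nat.card M : ℂ) ≠ 0 := by exact_mod_cast Nat.card_pos.ne'
  simp only [Ech_eq]
  rw [← Finset.smul_sum, Finset.sum_comm]
  simp only [← Finset.sum_smul, AddChar.sum_apply_eq_ite, neg_eq_zero]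
  rw [Finset.sum_eq_single 0 (fun x _ hx => by simp [hx]) (by simp), if_pos rfl, smul_smul,
    ← Nat.card_eq_fintype_card, inv_mul_cancel₀ hM, one_smul]

/-- The action on characters. -/
@[reducible] def charAct {H : Type*} [Group H] (act : H → M →+ M) (h1 : ∀ x, act 1 x = x)
    (hm : ∀ g h x, act (g * h) x = act g (act h x)) : MulAction H (AddChar M ℂ) where
  smul h χ := χ.compAddMonoidHom (act h⁻¹)
  one_smul χ := by
    ext x
    change χ (act 1⁻¹ x) = χ x
    rw [inv_one, h1]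
  mul_smul g h χ := by
    ext x
    change χ (act (g * h)⁻¹ x) = χ (act h⁻¹ (act g⁻¹ x))
    rw [mul_inv_rev, hm]

/-- Clifford theory for an abelian normal subgroup, for even structures. -/
theorem fourier {H : Type*} [Group H] (σ : H →ₙ* A) (n0 : n 0 = σ 1) (nadd : ∀ x y, n (x + y) = n x * n y)
    (act : H → M →+ M) (h1 : ∀ x, act 1 x = x) (hm : ∀ g h x, act (g * h) x = act g (act h x))
    (hact : ∀ h x, σ h * n x = n (act h x) * σ h)
    (hEv : ∀ χ : AddChar M ℂ, ∃ (g : H) (χ' : AddChar M ℂ), (∀ x, χ' (act g x) = χ x) ∧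
      EvS ((fun h => σ h * Ech n χ') '' {h | ∀ x, χ' (act h x) = χ' x}) (Ech n χ')) :
    EvS (Set.range σ) (σ 1) := by
  letI := charAct act h1 hm
  have hs : ∀ (h : H) (χ : AddChar M ℂ) x, (h • χ) (act h x) = χ x := fun h χ x => by
    change χ (act h⁻¹ (act h x)) = χ x
    rw [← hm, inv_mul_cancel, h1]
  let e : H → M ≃+ M := fun h =>
    { toFun := act h
      invFun := act h⁻¹
      left_inv := fun x => by rw [← hm, inv_mul_cancel, h1]
      right_inv := fun x => by rw [← hm, mul_inv_cancel, h1]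
      map_add' := map_add _ }
  refine glue_ev σ (Ech n) (fun _ _ h => Ech_orth nadd h) (Ech_idem nadd) (by rw [sum_Ech, n0])
    (fun h χ => mul_Ech_equiv (e h) (hact h) (hs h χ)) fun χ => ?_
  obtain ⟨g, χ', h1, h2⟩ := hEv χ
  have : g • χ = χ' := by
    ext x
    obtain ⟨y, rfl⟩ := (e g).surjective x
    exact (hs g χ y).trans (h1 y).symm
  refine ⟨g, ?_⟩
  rw [this]
  refine h2.mono (Set.image_mono fun h hh x => ?_)
  have hh' : h • χ' = χ' := hh
  rw [← hs h χ' x, hh']

/-- The same when every character is treated directly. -/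
theorem fourier' {H : Type*} [Group H] (σ : H →ₙ* A) (n0 : n 0 = σ 1) (nadd : ∀ x y, n (x + y) = n x * n y)
    (act : H → M →+ M) (h1 : ∀ x, act 1 x = x) (hm : ∀ g h x, act (g * h) x = act g (act h x))
    (hact : ∀ h x, σ h * n x = n (act h x) * σ h)
    (hEv : ∀ χ : AddChar M ℂ, EvS ((fun h => σ h * Ech n χ) '' {h | ∀ x, χ (act h x) = χ x}) (Ech n χ)) :
    EvS (Set.range σ) (σ 1) :=
  fourier σ n0 nadd act h1 hm hact fun χ => ⟨1, χ, fun x => by rw [h1], hEv χ⟩

/-- The case of a central subgroup. -/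
theorem fourier_central {H : Type*} [Group H] (σ : H →ₙ* A) (n0 : n 0 = σ 1)
    (nadd : ∀ x y, n (x + y) = n x * n y) (hact : ∀ h x, σ h * n x = n x * σ h)
    (hEv : ∀ χ : AddChar M ℂ, EvS (Set.range fun h => σ h * Ech n χ) (Ech n χ)) :
    EvS (Set.range σ) (σ 1) :=
  fourier' σ n0 nadd (fun _ => AddMonoidHom.id M) (fun _ => rfl) (fun _ _ _ => rfl) hact
    fun χ => (hEv χ).mono (Set.image_subset_range _ _)

/-- Operators that are scalar multiples of given ones (on `e`) commute with the even structure. -/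
theorem EvS.of_smul {S S' : Set A} {e : A} (h : EvS S e) (hS : ∀ s ∈ S', ∃ (c : ℂ), ∃ s₀ ∈ S, s = c • s₀) :
    EvS S' e := by
  refine h.of_comm fun a _ _ ha s hs => ?_
  obtain ⟨c, s₀, h0, rfl⟩ := hS s hs
  rw [smul_mul_assoc, ha s₀ h0, mul_smul_comm]

end Fourier

end CL.TOr
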