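/-
Project TO: adjoints, restriction / twisting / cutting of skew modules.
-/
import Cfsg.Agent.TOr.Core1

set_option autoImplicit false

namespace CL.TOr

open Module

section Adj

variable {V : Type*} [AddCommGroup V] [Module ℂ V] {ω : LinearMap.BilinForm ℂ V}

/-- `b` is an adjoint of `a` for the form `ω`. -/
def Adj (ω : LinearMap.BilinForm ℂ V) (a b : End ℂ V) : Prop := ∀ x y, ω (a x) y = ω x (b y)

theorem Adj.mul {a a' b b' : End ℂ V} (h : Adj ω a a') (h' : Adj ω b b') : Adj ω (a * b) (b' * a') :=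
  fun x y => by rw [End.mul_apply, h, h', End.mul_apply]

theorem Adj.smul {a a' : End ℂ V} (h : Adj ω a a') (c : ℂ) : Adj ω (c • a) (c • a') :=
  fun x y => by simp [h x y]

theorem Adj.add {a a' b b' : End ℂ V} (h : Adj ω a a') (h' : Adj ω b b') : Adj ω (a + b) (a' + b') :=
  fun x y => by simp [h x y, h' x y]

theorem Adj.sub {a a' b b' : End ℂ V} (h : Adj ω a a') (h' : Adj ω b b') : Adj ω (a - b) (a' - b') :=
  fun x y => by simp [h x y, h' x y]

theorem adj_one : Adj ω 1 1 := fun _ _ => rfl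

theorem Adj.sum {I : Type*} (s : Finset I) {a a' : I → End ℂ V} (h : ∀ i ∈ s, Adj ω (a i) (a' i)) :
    Adj ω (∑ i ∈ s, a i) (∑ i ∈ s, a' i) := fun x y => by
  simp only [LinearMap.sum_apply, map_sum]
  exact Finset.sum_congr rfl fun i hi => h i hi x y

theorem Adj.symm (hω : ∀ x y, ω x y = -ω y x) {a b : End ℂ V} (h : Adj ω a b) : Adj ω b a :=
  fun x y => by rw [hω, ← h, ← hω]

/-- The adjoint of `Ech`. -/
theorem Adj.ech {M M' : Type*} [AddCommGroup M] [AddCommGroup M'] [Finite M] {n : M → End ℂ V} {n' : M' → End ℂ V}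
    (e : M ≃+ M') (h : ∀ x, Adj ω (n x) (n' (e x))) {χ : AddChar M ℂ} {χ' : AddChar M' ℂ}
    (hχ : ∀ x, χ' (e x) = χ x) : Adj ω (Ech n χ) (Ech n' χ') := by
  letI := Fintype.ofFinite M
  letI := Fintype.ofEquiv M e.toEquiv
  rw [Ech_eq, Ech_eq, Nat.card_congr e.toEquiv, ← Equiv.sum_comp e.toEquiv]
  refine Adj.smul (Adj.sum _ fun x _ => ?_) _
  have : χ' (-e.toEquiv x) = χ (-x) := by rw [← hχ, map_neg e]; rfl
  rw [this]
  exact (h x).smul _

/-- An operator absorbed by its adjoint is self-adjoint. -/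
theorem Adj.self_of_absorb (hω : ∀ x y, ω x y = -ω y x) {e e' : End ℂ V} (h : Adj ω e e') (h1 : e' * e = e) : Adj ω e e := by
  have h2 : Adj ω (e' * e) (e' * e) := (h.symm hω).mul h
  rw [h1] at h2
  exact h2

end Adj

section Skew

variable {K : Type*} [Group K] {τ : K →* K} {V : Type*} [AddCommGroup V] [Module ℂ V]
  {σ : K →ₙ* End ℂ V} {ω : LinearMap.BilinForm ℂ V}

theorem Skew.adj' (h : Skew τ σ ω) (g : K) : Adj ω (σ g) (σ (τ g⁻¹)) := h.adj g

theorem Skew.adj_one (h : Skew τ σ ω) : Adj ω (σ 1) (σ 1) := by simpa using h.adj' 1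

/-- Any representation living on a part of the module. -/
theorem Skew.sub (h : Skew τ σ ω) {K₁ : Type*} [Group K₁] {τ₁ : K₁ →* K₁} {σ₁ : K₁ →ₙ* End ℂ V}
    (h1 : σ 1 * σ₁ 1 = σ₁ 1) (hadj : ∀ g, Adj ω (σ₁ g) (σ₁ (τ₁ g⁻¹))) : Skew τ₁ σ₁ ω where
  skew := h.skew
  adj := hadj
  nd x hx := h.nd x (by rw [← hx, ← End.mul_apply, h1])

theorem Skew.cmp (h : Skew τ σ ω) {K₁ : Type*} [Group K₁] {τ₁ : K₁ →* K₁} (φ : K₁ →* K)
    (hφ : ∀ g, φ (τ₁ g) = τ (φ g)) : Skew τ₁ (cmp σ φ) ω :=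
  h.sub (by rw [cmp_one, sig_one_mul]) fun g => by
    rw [cmp_apply, cmp_apply, hφ, map_inv φ]; exact h.adj' _

/-- Cutting by a self-adjoint commuting idempotent. -/
theorem Skew.cut (h : Skew τ σ ω) (f : End ℂ V) (hff : f * f = f) (hf : ∀ g, σ g * f = f * σ g)
    (hadj : Adj ω f f) : Skew τ (cutS σ f hff hf) ω :=
  h.sub (by rw [cutS_apply, ← mul_assoc, sig_one_mul]) fun g => by
    rw [cutS_apply, cutS_apply, hf (τ _)]; exact (h.adj' g).mul hadj

/-- The twisted form. -/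
def twF (ω : LinearMap.BilinForm ℂ V) (a : End ℂ V) : LinearMap.BilinForm ℂ V := ω.compl₂ a

theorem twF_apply (a : End ℂ V) (x y : V) : twF ω a x y = ω x (a y) := rfl

theorem Skew.twist (h : Skew τ σ ω) (k : K) (hk : k * τ k = 1) {τ' : K →* K} (hτ' : ∀ g, τ' g = k * τ g * k⁻¹) :
    Skew τ' σ (twF ω (σ k⁻¹)) where
  skew x y := by
    rw [twF_apply, twF_apply, h.skew y, h.adj, neg_neg, inv_inv, eq_inv_of_mul_eq_one_right hk]
  adj g x y := by
    rw [twF_apply, twF_apply, h.adj, ← End.mul_apply, ← End.mul_apply, ← map_mul, ← map_mul, hτ']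
    congr 3; group
  nd x hx h0 := h.nd x hx fun y => by
    have := h0 (σ k y)
    rwa [twF_apply, ← End.mul_apply, sig_inv_mul, ← h.adj_one, hx] at this

/-- The automorphism `τ` followed by conjugation with `k`. -/
def twA (τ : K →* K) (k : K) : K →* K := (MulAut.conj k).toMonoidHom.comp τ

theorem twA_apply (k g : K) : twA τ k g = k * τ g * k⁻¹ := rfl

theorem Skew.twist' (h : Skew τ σ ω) (k : K) (hk : k * τ k = 1) : Skew (twA τ k) σ (twF ω (σ k⁻¹)) :=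
  h.twist k hk fun _ => rfl

variable {W : Type} [AddCommGroup W] [Module ℂ W] [FiniteDimensional ℂ W]
  {ρ : K →ₙ* End ℂ W} {η : LinearMap.BilinForm ℂ W} {K₁ : Type*} [Group K₁] {τ₁ : K₁ →* K₁}

/-- Using total orthogonality of a group mapping to `K`. -/
theorem TO.ev (hT : TO K₁ τ₁) (h : Skew τ ρ η) (φ : K₁ →* K) (hφ : ∀ g, φ (τ₁ g) = τ (φ g)) :
    EvS (ρ '' (φ.range : Set K)) (ρ 1) := by
  have := hT W _ _ (h.cmp φ hφ)
  rw [cmp_one] at this
  refine this.mono ?_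
  rintro _ ⟨_, ⟨g, rfl⟩, rfl⟩
  exact ⟨g, rfl⟩

/-- The same after a twist. -/
theorem TO.ev_tw (hT : TO K₁ τ₁) (h : Skew τ ρ η) (φ : K₁ →* K) (k : K) (hk : k * τ k = 1)
    (hφ : ∀ g, φ (τ₁ g) = k * τ (φ g) * k⁻¹) : EvS (ρ '' (φ.range : Set K)) (ρ 1) :=
  hT.ev (h.twist' k hk) φ hφ

/-- The same on a self-adjoint idempotent commuting with the image. -/
theorem TO.ev_cut (hT : TO K₁ τ₁) (h : Skew τ ρ η) (φ : K₁ →* K) (hφ : ∀ g, φ (τ₁ g) = τ (φ g))
    {f : End ℂ W} (hff : f * f = f) (h1 : ρ 1 * f = f) (hf : ∀ g, ρ (φ g) * f = f * ρ (φ g)) (hadj : Adj η f f) :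
    EvS (Set.range fun g => ρ (φ g) * f) f := by
  have : EvS (Set.range fun g => ρ (φ g) * f) (ρ (φ 1) * f) := hT W _ _ ((h.cmp φ hφ).cut f hff hf hadj)
  rwa [map_one, h1] at this

theorem TO.of_surj (hT : TO K₁ τ₁) (φ : K₁ →* K) (hs : Function.Surjective φ) (hφ : ∀ g, φ (τ₁ g) = τ (φ g)) :
    TO K τ := fun _ _ _ _ _ _ h => by
  refine (hT.ev h φ hφ).mono ?_
  rintro _ ⟨g, rfl⟩
  exact ⟨g, hs g, rfl⟩

theorem TO.twist {τ' : K →* K} (hT : TO K τ') (k : K) (hk : k * τ k = 1) (hτ' : ∀ g, τ' g = k * τ g * k⁻¹) :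
    TO K τ := fun _ _ _ _ _ _ h => hT _ _ _ (h.twist k hk hτ')

end Skew

end CL.TOr
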