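/-
Project TO: total orthogonality and irreducible representations.
-/
import Cfsg.Agent.TOr.Core2
import Cfsg.Agent.Char.Brauer
import Cfsg.Agent.Char.FSParity
import Cfsg.Agent.Char.Orth2
import Cfsg.Agent.Char.Prod
import Cfsg.Agent.Char.Schur

set_option autoImplicit false

namespace CL.TOr

open Module Cfsg CL.Char

section Forms

variable {K : Type*} [Group K] {τ : K →* K} {U : Type*} [AddCommGroup U] [Module ℂ U]

/-- A `τ`-twisted invariant form. -/
def TInv (τ : K →* K) (ρ : Representation ℂ K U) (β : LinearMap.BilinForm ℂ U) : Prop :=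
  ∀ g x y, β (ρ g x) y = β x (ρ (τ g⁻¹) y)

/-- Every irreducible module carries a non-zero symmetric twisted invariant form. -/
def SymIrr (K : Type*) [Group K] (τ : K →* K) : Prop :=
  ∀ (U : Type) [AddCommGroup U] [Module ℂ U] [FiniteDimensional ℂ U] (ρ : Representation ℂ K U), ρ.IsIrreducible →
    ∃ β : LinearMap.BilinForm ℂ U, β ≠ 0 ∧ (∀ x y, β x y = β y x) ∧ TInv τ ρ β

variable {ρ : Representation ℂ K U} {β γ : LinearMap.BilinForm ℂ U}

theorem rep_sub (hρ : ρ.IsIrreducible) (W : Submodule ℂ U) (hW : ∀ g, ∀ v ∈ W, ρ g v ∈ W) : W = ⊥ ∨ W = ⊤ :=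
  (eq_bot_or_eq_top (⟨W, fun g _ hv => hW g _ hv⟩ : Subrepresentation ρ)).imp
    (congrArg Subrepresentation.toSubmodule) (congrArg Subrepresentation.toSubmodule)

theorem TInv.inj (hρ : ρ.IsIrreducible) (h0 : β ≠ 0) (h : TInv τ ρ β) : Function.Injective β :=
  LinearMap.ker_eq_bot.1 ((rep_sub hρ (LinearMap.ker β) fun g v hv => LinearMap.mem_ker.2 (LinearMap.ext fun y => by
    rw [h, LinearMap.mem_ker.1 hv]; rfl)).resolve_right fun e => h0 (LinearMap.ker_eq_top.1 e))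

variable [FiniteDimensional ℂ U]

theorem TInv.equiv (hρ : ρ.IsIrreducible) (h0 : β ≠ 0) (h : TInv τ ρ β) :
    ∃ e : U ≃ₗ[ℂ] Dual ℂ U, ∀ x, e x = β x :=
  ⟨LinearMap.linearEquivOfInjective β (h.inj hρ h0) Subspace.dual_finrank_eq.symm, fun _ => rfl⟩

theorem TInv.scalar (hρ : ρ.IsIrreducible) (h0 : β ≠ 0) (h : TInv τ ρ β) (h' : TInv τ ρ γ) :
    ∃ c : ℂ, ∀ x y, γ x y = c * β x y := by
  obtain ⟨e, he⟩ := h.equiv hρ h0
  have k : ∀ x, β (e.symm (γ x)) = γ x := fun x => by rw [← he, e.apply_symm_apply]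
  obtain ⟨c, hc⟩ := schur_exists_smul_one ρ ((e.symm : Dual ℂ U →ₗ[ℂ] U) ∘ₗ γ) fun g => LinearMap.ext fun x =>
    h.inj hρ h0 (LinearMap.ext fun y => by
      change β (e.symm (γ (ρ g x))) y = β (ρ g (e.symm (γ x))) y
      rw [k, h, k, h'])
  refine ⟨c, fun x y => ?_⟩
  have : e.symm (γ x) = c • x := LinearMap.congr_fun hc x
  rw [← k, this, map_smul]; rfl

theorem TInv.skew_zero (hρ : ρ.IsIrreducible) (h0 : β ≠ 0) (hs : ∀ x y, β x y = β y x) (h : TInv τ ρ β)
    (h' : TInv τ ρ γ) (hγ : ∀ x y, γ x y = -γ y x) (x y : U) : γ x y = 0 := by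
  obtain ⟨c, hc⟩ := h.scalar hρ h0 h'
  have := hγ x y
  rw [hc y x, ← hs, ← hc] at this
  linear_combination this / 2

theorem TInv.char (hρ : ρ.IsIrreducible) (h0 : β ≠ 0) (h : TInv τ ρ β) (g : K) :
    ρ.character (τ g) = ρ.character g⁻¹ := by
  obtain ⟨e, he⟩ := h.equiv hρ h0
  have := Representation.char_iso (Representation.Equiv.mk (ρ := ρ)
    (σ := Representation.dual (ρ.comp τ : Representation ℂ K U)) e fun g => LinearMap.ext fun x =>
      LinearMap.ext fun y => by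
        change e (ρ g x) y = e x (ρ (τ g⁻¹) y)
        rw [he, he, h])
  rw [congrFun this g⁻¹, Representation.char_dual, inv_inv]
  rfl

end Forms

section Trace

variable {K : Type*} [Group K] {τ : K →* K} {V : Type*} [AddCommGroup V] [Module ℂ V]

theorem sig_mem_range (σ : K →ₙ* End ℂ V) (g : K) (x : V) : σ g x ∈ LinearMap.range (σ 1) :=
  ⟨σ g x, by rw [← End.mul_apply, sig_one_mul]⟩

/-- The representation on the image of `σ 1`. -/
def resRep (σ : K →ₙ* End ℂ V) : Representation ℂ K (LinearMap.range (σ 1)) where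
  toFun g := (σ g).restrict fun x _ => sig_mem_range σ g x
  map_one' := by
    ext ⟨_, x, rfl⟩
    change σ 1 (σ 1 x) = σ 1 x
    rw [← End.mul_apply, sig_one_mul]
  map_mul' g h := by
    ext x
    change σ (g * h) x = σ g (σ h x)
    rw [map_mul]; rfl

variable [FiniteDimensional ℂ V]

theorem isCharacter_trace (σ : K →ₙ* End ℂ V) : IsCharacter K fun g => LinearMap.trace ℂ V (σ g) := by
  have := isCharacter_character (resRep σ)
  convert this using 1
  ext g
  exact (LinearMap.trace_restrict_eq_of_forall_mem _ _ (sig_mem_range σ g)).symm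

theorem half_char {σ : K →ₙ* End ℂ V} (h : EvS (Set.range σ) (σ 1)) :
    IsCharacter K fun g => LinearMap.trace ℂ V (σ g) / 2 := by
  obtain ⟨a, b, h1, -, -, -, h5, h6, h7⟩ := h
  have ha : ∀ g, σ g * a = a * σ g := fun g => (h7 _ ⟨g, rfl⟩).1
  have hb : ∀ g, σ g * b = b * σ g := fun g => (h7 _ ⟨g, rfl⟩).2
  have hp : a * b * (a * b) = a * b := by
    have : a * b * a = a := by
      calc a * b * a = (a * b + b * a) * a := by rw [add_mul, mul_assoc b, h5, mul_zero, add_zero]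
        _ = a := by rw [h6, h1]
    rw [← mul_assoc, this]
  have := isCharacter_trace (cutS σ (a * b) hp fun g => by rw [← mul_assoc, ha, mul_assoc, hb, mul_assoc])
  convert this using 2 with g
  have e : LinearMap.trace ℂ V (σ g * (b * a)) = LinearMap.trace ℂ V (σ g * (a * b)) := by
    rw [← mul_assoc, LinearMap.trace_mul_comm ℂ _ a, ← mul_assoc, ← ha, mul_assoc]
  have e' : LinearMap.trace ℂ V (σ g) = LinearMap.trace ℂ V (σ g * (a * b)) + LinearMap.trace ℂ V (σ g * (b * a)) := by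
    rw [← map_add, ← mul_add, h6, sig_mul_one]
  rw [cutS_apply, e', e]
  ring

end Trace

theorem EvS.add {A : Type*} [Ring A] {S : Set A} {e f : A} (h : EvS S e) (h' : EvS S f) (hef : e * f = 0)
    (hfe : f * e = 0) : EvS S (e + f) := by
  obtain ⟨a, b, h1, h2, h3, h4, h5, h6, h7⟩ := h
  obtain ⟨c, d, k1, k2, k3, k4, k5, k6, k7⟩ := h'
  have z : ∀ {e f x y : A}, e * f = 0 → x * e = x → f * y = y → x * y = 0 := fun {e f x y} p q r => by
    rw [← q, ← r, mul_assoc, ← mul_assoc e, p, zero_mul, mul_zero]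
  have l : ∀ {e f y : A}, e * f = 0 → f * y = y → e * y = 0 := fun {e f y} p r => by
    rw [← r, ← mul_assoc, p, zero_mul]
  have r : ∀ {e f x : A}, e * f = 0 → x * e = x → x * f = 0 := fun {e f x} p q => by
    rw [← q, mul_assoc, p, mul_zero]
  refine ⟨a + c, b + d, ?_, ?_, ?_, ?_, ?_, ?_, fun s hs => ⟨?_, ?_⟩⟩
  · rw [add_mul, mul_add, mul_add, h1, k1, l hef k1, l hfe h1, add_zero, zero_add]
  · rw [add_mul, mul_add, mul_add, h2, k2, r hef h2, r hfe k2, add_zero, zero_add]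
  · rw [add_mul, mul_add, mul_add, h3, k3, l hef k3, l hfe h3, add_zero, zero_add]
  · rw [add_mul, mul_add, mul_add, h4, k4, r hef h4, r hfe k4, add_zero, zero_add]
  · rw [add_mul, mul_add, mul_add, h5, k5, z hef h2 k1, z hfe k2 h1]; simp
  · rw [add_mul, add_mul, mul_add, mul_add, mul_add, mul_add, z hef h2 k3, z hfe k2 h3, z hef h4 k1, z hfe k4 h1,
      ← h6, ← k6]
    abel
  · rw [mul_add, add_mul, (h7 s hs).1, (k7 s hs).1]
  · rw [mul_add, add_mul, (h7 s hs).2, (k7 s hs).2]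

variable {K : Type*} [Group K] [Finite K] {τ : K →* K}

section Step

variable {V : Type*} [AddCommGroup V] [Module ℂ V] {σ : K →ₙ* End ℂ V} {ω : LinearMap.BilinForm ℂ V}
  {U : Type*} [AddCommGroup U] [Module ℂ U] [FiniteDimensional ℂ U] {ρ : Representation ℂ K U}
  {β : LinearMap.BilinForm ℂ U}

/-- Splitting off a hyperbolic pair of copies of an irreducible constituent. -/
theorem rep_step (h : Skew τ σ ω) (hρ : ρ.IsIrreducible) (h0 : β ≠ 0) (hs : ∀ x y, β x y = β y x) (hβ : TInv τ ρ β)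
    (i : U →ₗ[ℂ] V) (hi : ∀ g x, σ g (i x) = i (ρ g x)) (inj : Function.Injective i) :
    ∃ f : End ℂ V, f * f = f ∧ (∀ g, σ g * f = f * σ g) ∧ σ 1 * f = f ∧ Adj ω f f ∧ f ≠ 0 ∧
      EvS (Set.range σ) f := by
  letI := Fintype.ofFinite K
  have hK : (Fintype.card K : ℂ) ≠ 0 := by exact_mod_cast Fintype.card_ne_zero
  obtain ⟨e, he⟩ := hβ.equiv hρ h0
  have binj := hβ.inj hρ h0
  obtain ⟨P, hP⟩ : ∃ P : (U →ₗ[ℂ] V) → V →ₗ[ℂ] U, ∀ j v u, β (P j v) u = ω v (j u) :=
    ⟨fun j => (e.symm : Dual ℂ U →ₗ[ℂ] U) ∘ₗ ω.compl₂ j, fun j v u => by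
      change β (e.symm _) u = _
      rw [← he, e.apply_symm_apply]; rfl⟩
  have eqv : ∀ j : U →ₗ[ℂ] V, (∀ g x, σ g (j x) = j (ρ g x)) → ∀ g v, P j (σ g v) = ρ g (P j v) :=
    fun j hj g v => binj (LinearMap.ext fun u => by rw [hP, h.adj, hj, hβ, hP])
  have zero : ∀ j : U →ₗ[ℂ] V, (∀ g x, σ g (j x) = j (ρ g x)) → ∀ x, P j (j x) = 0 := fun j hj x =>
    binj (LinearMap.ext fun u => by
      rw [hP, map_zero]
      exact hβ.skew_zero hρ h0 hs (γ := ω.compl₁₂ j j) (fun g x y => by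
        change ω (j (ρ g x)) (j y) = ω (j x) (j (ρ (τ g⁻¹) y))
        rw [← hj, ← hj, h.adj]) (fun x y => h.skew _ _) x u)
  have hnt := nontrivial_of_isIrreducible ρ
  obtain ⟨u0, hu0⟩ := exists_ne (0 : U)
  have surj : LinearMap.range (P i) = ⊤ := (rep_sub hρ _ (by
    rintro g _ ⟨v, rfl⟩
    exact ⟨_, eqv i hi g v⟩)).resolve_left fun e0 => hu0 (inj (by
      rw [map_zero]
      refine h.nd _ (by rw [hi, map_one]; rfl) fun y => ?_
      rw [h.skew, ← hP, LinearMap.range_eq_bot.1 e0]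
      simp))
  obtain ⟨j0, hj0⟩ := (P i).exists_rightInverse_of_surjective surj
  obtain ⟨j, hj, hij⟩ : ∃ j : U →ₗ[ℂ] V, (∀ g x, σ g (j x) = j (ρ g x)) ∧ ∀ x, P i (j x) = x := by
    refine ⟨(Fintype.card K : ℂ)⁻¹ • ∑ g, σ g ∘ₗ j0 ∘ₗ ρ g⁻¹, fun g x => ?_, fun x => ?_⟩
    · simp only [LinearMap.smul_apply, LinearMap.sum_apply, LinearMap.comp_apply, map_smul, map_sum]
      congr 1
      rw [← Equiv.sum_comp (Equiv.mulLeft g) fun k => σ k (j0 (ρ k⁻¹ (ρ g x)))]
      refine Finset.sum_congr rfl fun k _ => ?_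
      rw [Equiv.coe_mulLeft, map_mul, End.mul_apply, ← End.mul_apply (ρ _) (ρ g), ← map_mul, mul_inv_rev,
        inv_mul_cancel_right]
    · have : ∀ y, P i (j0 y) = y := fun y => LinearMap.congr_fun hj0 y
      have k : ∀ g, ρ g (ρ g⁻¹ x) = x := fun g => by rw [← End.mul_apply, ← map_mul, mul_inv_cancel, map_one]; rfl
      simp only [LinearMap.smul_apply, LinearMap.sum_apply, LinearMap.comp_apply, map_smul, map_sum, eqv i hi, this, k,
        Finset.sum_const, Finset.card_univ]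
      rw [← Nat.cast_smul_eq_nsmul ℂ, smul_smul, inv_mul_cancel₀ hK, one_smul]
  have hji : ∀ x, P j (i x) = -x := fun x => binj (LinearMap.ext fun u => by
    rw [hP, h.skew, ← hP, hij, map_neg, hs]; rfl)
  have ii := zero i hi
  have jj := zero j hj
  have i1 : ∀ x, σ 1 (i x) = i x := fun x => by rw [hi, map_one]; rfl
  have j1 : ∀ x, σ 1 (j x) = j x := fun x => by rw [hj, map_one]; rfl
  refine ⟨j ∘ₗ P i - i ∘ₗ P j, ?_, fun g => ?_, ?_, fun v w => ?_, fun e0 => ?_,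
    i ∘ₗ P i, -(j ∘ₗ P j), ?_, ?_, ?_, ?_, ?_, ?_, ?_⟩
  · ext v; simp [ii, jj, hij, hji]
  · ext v; simp [hi, hj, eqv i hi, eqv j hj]
  · ext v; simp [i1, j1]
  · simp only [LinearMap.sub_apply, LinearMap.comp_apply, map_sub]
    rw [h.skew (j _), h.skew (i _), ← hP, ← hP, ← hP, ← hP, hs (P j w), hs (P i w)]
    ring
  · have := LinearMap.congr_fun e0 (i u0)
    simp only [LinearMap.sub_apply, LinearMap.comp_apply, ii, hji, map_zero, map_neg, zero_sub, neg_neg,
      LinearMap.zero_apply] at this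
    exact hu0 (inj (this.trans (map_zero i).symm))
  · ext v; simp [ii, hji]
  · ext v; simp [ii, hij]
  · ext v; simp [jj, hij]
  · ext v; simp [jj, hji]
  · ext v; simp [ii]
  · ext v; simp [hij, hji, sub_eq_neg_add]
  · rintro _ ⟨g, rfl⟩
    constructor
    · ext v; simp [hi, eqv i hi]
    · ext v; simp [hj, eqv j hj]

end Step

theorem SymIrr.to (hS : SymIrr K τ) : TO K τ := by
  intro V _ _ _ σ ω h
  generalize hn : finrank ℂ (LinearMap.range (σ 1)) = n
  induction n using Nat.strong_induction_on generalizing σ with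
  | _ n ih =>
  by_cases h1 : σ 1 = 0
  · rw [h1]; exact evS_zero _
  have : Nontrivial (LinearMap.range (σ 1)) :=
    Submodule.nontrivial_iff_ne_bot.2 fun e => h1 (LinearMap.range_eq_bot.1 e)
  obtain ⟨U, hU⟩ := exists_irreducible_subrep (resRep σ)
  obtain ⟨β, h0, hs, hβ⟩ := hS _ U.toRepresentation hU
  obtain ⟨f, f1, f2, f3, f4, f5, f6⟩ := rep_step h hU h0 hs hβ
    ((LinearMap.range (σ 1)).subtype ∘ₗ U.toSubmodule.subtype) (fun _ _ => rfl)
    (Subtype.val_injective.comp Subtype.val_injective)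
  have f3' : f * σ 1 = f := by rw [← f2, f3]
  have g1 : f * (σ 1 - f) = 0 := by rw [mul_sub, f3', f1, sub_self]
  have g2 : (σ 1 - f) * f = 0 := by rw [sub_mul, f3, f1, sub_self]
  have g3 : σ 1 * (σ 1 - f) = σ 1 - f := by rw [mul_sub, sig_one_mul, f3]
  have g4 : (σ 1 - f) * (σ 1 - f) = σ 1 - f := by rw [sub_mul, g1, g3, sub_zero]
  have g5 : ∀ g, σ g * (σ 1 - f) = (σ 1 - f) * σ g := fun g => by
    rw [mul_sub, sub_mul, f2, sig_one_mul, sig_mul_one]
  have lt : LinearMap.range (cutS σ _ g4 g5 1) < LinearMap.range (σ 1) := by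
    refine lt_of_le_of_ne ?_ fun e => f5 (LinearMap.ext fun x => ?_)
    · rintro _ ⟨x, rfl⟩
      exact ⟨_, rfl⟩
    · have : f x ∈ LinearMap.range (σ 1) := ⟨f x, by rw [← End.mul_apply, f3]⟩
      rw [← e, cutS_apply, g3] at this
      obtain ⟨y, hy⟩ := this
      rw [← f1, End.mul_apply, ← hy, ← End.mul_apply, g1]
      rfl
  have k := ih _ (hn ▸ Submodule.finrank_lt_finrank_of_lt lt) (cutS σ _ g4 g5) (h.cut _ g4 g5 (h.adj_one.sub f4)) rfl
  rw [cutS_apply, g3] at k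
  have := f6.add (k.of_comm (S' := Set.range σ) fun a a1 a2 a3 => by
    rintro _ ⟨g, rfl⟩
    have := a3 _ ⟨g, rfl⟩
    rwa [cutS_apply, mul_assoc, a1, g5, ← mul_assoc, a2] at this) g1 g2
  rwa [add_sub_cancel] at this

theorem symIrr_of_even [Fintype K] (hτ : ∀ g, τ (τ g) = g)
    (h : ∀ (V : Type) [AddCommGroup V] [Module ℂ V] [FiniteDimensional ℂ V] (σ : K →ₙ* End ℂ V)
      (ω : LinearMap.BilinForm ℂ V), Skew τ σ ω → ∀ χ, IsIrrCharacter K χ →
        ∃ n : ℤ, classInner (fun g => LinearMap.trace ℂ V (σ g)) χ = 2 * n) : SymIrr K τ := by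
  intro U _ _ _ ρ hρ
  have hχ := isIrrCharacter_character ρ
  let D : Representation ℂ K (Dual ℂ U) := Representation.dual (ρ.comp τ : Representation ℂ K U)
  have hτ' : ∀ g, τ (τ g⁻¹)⁻¹ = g := fun g => by rw [← map_inv, inv_inv, hτ]
  let ω : LinearMap.BilinForm ℂ (U × Dual ℂ U) := LinearMap.mk₂ ℂ (fun x y => y.2 x.1 - x.2 y.1)
    (fun _ _ _ => by simp; ring) (fun _ _ _ => by simp; ring) (fun _ _ _ => by simp; ring)
    (fun _ _ _ => by simp; ring)
  obtain ⟨n, hn⟩ := h (U × Dual ℂ U) (ρ.prod D).toMulHom ω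
    ⟨fun x y => (neg_sub _ _).symm, fun g x y => by
      change y.2 (ρ g x.1) - x.2 (ρ (τ g⁻¹) y.1) = y.2 (ρ (τ (τ g⁻¹)⁻¹) x.1) - x.2 (ρ (τ g⁻¹) y.1)
      rw [hτ'], fun x _ hx => Prod.ext ((Module.forall_dual_apply_eq_zero_iff ℂ _).1 fun φ => by
        simpa [ω] using hx (0, φ)) (LinearMap.ext fun u => by simpa [ω] using hx (u, 0))⟩ _ hχ
  have e : classInner (ρ.prod D).character ρ.character = 2 * n := hn
  rw [character_prod, classInner_add_left, hχ.classInner_self, classInner_character] at e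
  have : Nontrivial (Representation.IntertwiningMap ρ D) := by
    refine (Module.finrank_pos_iff (R := ℂ)).1 (Nat.pos_of_ne_zero fun e0 => ?_)
    rw [e0] at e
    have : (1 : ℤ) = 2 * n := by exact_mod_cast (by simpa using e : (1 : ℂ) = 2 * n)
    omega
  obtain ⟨F, hF⟩ := exists_ne (0 : Representation.IntertwiningMap ρ D)
  let γ : LinearMap.BilinForm ℂ U := F.toLinearMap
  have γ0 : γ ≠ 0 := fun e0 => hF (Representation.IntertwiningMap.ext e0)
  have γ1 : TInv τ ρ γ := fun g x y => LinearMap.congr_fun (LinearMap.congr_fun (F.isIntertwining' g) x) y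
  refine ⟨γ + γ.flip, fun e0 => ?_, fun x y => add_comm _ _, fun g x y => ?_⟩
  · obtain ⟨m, hm⟩ := h U ρ.toMulHom γ ⟨fun x y => eq_neg_of_add_eq_zero_left
      (LinearMap.congr_fun (LinearMap.congr_fun e0 x) y), γ1, fun x _ hx =>
        γ1.inj hρ γ0 (LinearMap.ext fun y => (hx y).trans (by simp))⟩ _ hχ
    have : (1 : ℤ) = 2 * m := by exact_mod_cast hχ.classInner_self.symm.trans hm
    omega
  · change γ (ρ g x) y + γ y (ρ g x) = γ x (ρ (τ g⁻¹) y) + γ (ρ (τ g⁻¹) y) x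
    rw [γ1, γ1, hτ']

theorem TO.symIrr (hτ : ∀ g, τ (τ g) = g) (h : TO K τ) : SymIrr K τ := by
  letI := Fintype.ofFinite K
  refine symIrr_of_even hτ fun V _ _ _ σ ω hσ χ hχ => ?_
  obtain ⟨n, hn⟩ := (half_char (h V σ ω hσ)).exists_nat_classInner hχ.isCharacter
  refine ⟨n, ?_⟩
  rw [Int.cast_natCast, ← hn, ← classInner_smul_left]
  congr 1
  ext g
  simp only [Pi.smul_apply, smul_eq_mul]
  ring

/-- Brauer induction at the prime 2. -/
theorem TO.of_brauer (hτ : ∀ g, τ (τ g) = g)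
    (h : ∀ (V : Type) [AddCommGroup V] [Module ℂ V] [FiniteDimensional ℂ V] (σ : K →ₙ* End ℂ V)
      (ω : LinearMap.BilinForm ℂ V), Skew τ σ ω → ∀ (b : K) (S : Subgroup K), Odd (orderOf b) → IsPGroup 2 S →
        (∀ s ∈ S, s * b = b * s) → EvS (σ '' insert b (S : Set K)) (σ 1)) : TO K τ := by
  letI := Fintype.ofFinite K
  refine (symIrr_of_even hτ fun V _ _ _ σ ω hσ χ hχ => ?_).to
  have hc := isCharacter_trace σ
  obtain ⟨m, hm, hg⟩ := brauer_characterization_local Nat.prime_two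
    (θ := fun g => LinearMap.trace ℂ V (σ g) / 2) (fun g k => congrArg (· / 2) (hc.isClassFunction g k))
    fun E ⟨x, hx, hco, k, hk⟩ => by
      obtain ⟨P⟩ : Nonempty (Sylow 2 E) := inferInstance
      have htop : Subgroup.zpowers x ⊔ (P : Subgroup E) = ⊤ := by
        refine Subgroup.index_eq_one.1 (Nat.eq_one_of_dvd_coprimes
          (Nat.Coprime.pow_left k ((Nat.Prime.coprime_iff_not_dvd Nat.prime_two).2 P.not_dvd_index)) ?_ ?_)
        · exact hk ▸ Subgroup.index_dvd_of_le le_sup_left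
        · exact Subgroup.index_dvd_of_le le_sup_right
      have ev := (h V σ ω hσ x ((P : Subgroup E).map E.subtype)
        (by rw [Subgroup.orderOf_coe]; exact Nat.coprime_two_right.1 hco) (P.isPGroup'.map _) (by
          rintro _ ⟨s, -, rfl⟩
          exact congrArg Subtype.val (Subgroup.mem_center_iff.1 hx s))).closure
      refine (half_char (σ := cmp σ E.subtype) ?_).isGeneralizedCharacter
      rw [cmp_one]
      refine ev.mono ?_
      rintro _ ⟨y, rfl⟩
      refine ⟨y, ?_, rfl⟩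
      have : (⊤ : Subgroup E) ≤ (Subgroup.closure (insert (x : K) ((P : Subgroup E).map E.subtype : Set K))).comap
          E.subtype := by
        rw [← htop]
        exact sup_le (Subgroup.zpowers_le.2 (Subgroup.subset_closure (Set.mem_insert _ _))) fun s hs =>
          Subgroup.subset_closure (Set.mem_insert_of_mem _ ⟨s, hs, rfl⟩)
      exact this (Subgroup.mem_top y)
  obtain ⟨a, ha⟩ := hg.exists_int_classInner hχ.isGeneralizedCharacter
  obtain ⟨n, hn⟩ := hc.exists_nat_classInner hχ.isCharacter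
  have e : ((m : ℂ) • fun g => LinearMap.trace ℂ V (σ g) / 2) = ((m : ℂ) / 2) • fun g => LinearMap.trace ℂ V (σ g) := by
    ext g
    simp only [Pi.smul_apply, smul_eq_mul]
    ring
  rw [e, classInner_smul_left, hn] at ha
  have e2 : m * n = 2 * a := by
    have : (m : ℂ) * n = 2 * a := by linear_combination 2 * ha
    exact_mod_cast this
  obtain ⟨c, hc'⟩ : (2 : ℤ) ∣ n := (Int.prime_two.dvd_or_dvd ⟨a, e2⟩).resolve_left hm
  exact ⟨c, by rw [hn]; exact_mod_cast hc'⟩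

theorem TO.prod {K' : Type*} [Group K'] [Finite K'] {τ' : K' →* K'} (hτ : ∀ g, τ (τ g) = g)
    (hτ' : ∀ g, τ' (τ' g) = g) (h : TO K τ) (h' : TO K' τ') : TO (K × K') (τ.prodMap τ') := by
  refine SymIrr.to fun U _ _ _ ρ hρ => ?_
  obtain ⟨_, _, ⟨n, ρ1, h1, rfl⟩, ⟨n', ρ2, h2, rfl⟩, e⟩ := (isIrrCharacter_character ρ).exists_prod
  obtain ⟨β1, a0, a1, a2⟩ := h.symIrr hτ _ ρ1 h1
  obtain ⟨β2, b0, b1, b2⟩ := h'.symIrr hτ' _ ρ2 h2
  obtain ⟨φ⟩ := nonempty_equiv_of_isIrreducible_of_character_eq ρ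
    (Representation.tprod (ρ1.comp (MonoidHom.fst K K') : Representation ℂ (K × K') _)
      (ρ2.comp (MonoidHom.snd K K') : Representation ℂ (K × K') _)) (by rw [Representation.char_tensor, e]; rfl)
  have hφ : ∀ g x, φ.toLinearEquiv (ρ g x) = TensorProduct.map (ρ1 g.1) (ρ2 g.2) (φ.toLinearEquiv x) := fun g x =>
    LinearMap.congr_fun (φ.isIntertwining' g) x
  generalize φ.toLinearEquiv = ψ at hφ
  have t : ∀ x y z w, β1.tmul β2 (x ⊗ₜ y) (z ⊗ₜ w) = β2 y w * β1 x z := fun _ _ _ _ => rfl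
  refine ⟨(β1.tmul β2).compl₁₂ ψ.toLinearMap ψ.toLinearMap, fun e0 => ?_, fun x y => ?_, fun g x y => ?_⟩
  · obtain ⟨x, hx⟩ := DFunLike.ne_iff.1 a0
    obtain ⟨z, hz⟩ := DFunLike.ne_iff.1 hx
    obtain ⟨y, hy⟩ := DFunLike.ne_iff.1 b0
    obtain ⟨w, hw⟩ := DFunLike.ne_iff.1 hy
    have : β1.tmul β2 (ψ (ψ.symm (x ⊗ₜ y))) (ψ (ψ.symm (z ⊗ₜ w))) = 0 :=
      LinearMap.congr_fun (LinearMap.congr_fun e0 _) _
    rw [ψ.apply_symm_apply, ψ.apply_symm_apply, t] at this
    exact mul_ne_zero hw hz this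
  · exact (LinearMap.IsSymm.tmul (B₁ := β1) (B₂ := β2) ⟨a1⟩ ⟨b1⟩).eq (ψ x) (ψ y)
  · change β1.tmul β2 (ψ (ρ g x)) (ψ y) = β1.tmul β2 (ψ x) (ψ (ρ _ y))
    rw [hφ, hφ]
    generalize ψ x = x
    generalize ψ y = y
    induction x using TensorProduct.induction_on with
    | zero => simp
    | add x x' k k' => simp only [map_add, LinearMap.add_apply, k, k']
    | tmul x z =>
      induction y using TensorProduct.induction_on with
      | zero => simp
      | add y y' k k' => simp only [map_add, k, k']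
      | tmul y w =>
        rw [TensorProduct.map_tmul, TensorProduct.map_tmul, t, t, a2, b2]
        rfl

/-- Abelian groups with inversion. -/
theorem TO.of_comm (hc : ∀ g h : K, g * h = h * g) (hτ : ∀ g, τ g = g⁻¹) : TO K τ := by
  refine SymIrr.to fun U _ _ _ ρ hρ => ?_
  have hnt := nontrivial_of_isIrreducible ρ
  obtain ⟨u, hu⟩ := exists_ne (0 : U)
  obtain ⟨φ, hφ⟩ : ∃ φ : Dual ℂ U, φ u ≠ 0 := not_forall.1 fun e => hu ((Module.forall_dual_apply_eq_zero_iff ℂ u).1 e)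
  refine ⟨(LinearMap.mul ℂ ℂ).compl₁₂ φ φ, fun e => mul_ne_zero hφ hφ
    (LinearMap.congr_fun (LinearMap.congr_fun e u) u), fun x y => mul_comm (φ x) (φ y), fun g x y => ?_⟩
  obtain ⟨c, hc'⟩ := schur_exists_smul_one ρ (ρ g) fun k => by rw [← map_mul, ← map_mul, hc]
  rw [hτ, inv_inv, hc']
  simp

/-- Adding an element that centralises the image and is inverted by `τ`. -/
theorem TO.ev_insert {G : Type*} [Group G] [Finite G] {θ : G →* G} {V : Type} [AddCommGroup V] [Module ℂ V]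
    [FiniteDimensional ℂ V] {σ : G →ₙ* End ℂ V} {ω : LinearMap.BilinForm ℂ V} (hτ : ∀ g, τ (τ g) = g) (hT : TO K τ)
    (h : Skew θ σ ω) (φ : K →* G) (hφ : ∀ g, φ (τ g) = θ (φ g)) (b : G) (hb : ∀ g, φ g * b = b * φ g)
    (hθ : θ b = b⁻¹) : EvS (σ '' insert b (φ.range : Set G)) (σ 1) := by
  have hc : ∀ x y : Subgroup.zpowers b, x * y = y * x := by
    rintro ⟨_, i, rfl⟩ ⟨_, j, rfl⟩
    exact Subtype.ext (zpow_mul_comm b i j)
  let τ0 : Subgroup.zpowers b →* Subgroup.zpowers b := MonoidHom.mk' (·⁻¹) fun x y => by rw [mul_inv_rev, hc]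
  have := ((TO.of_comm (τ := τ0) hc fun _ => rfl).prod (fun g => inv_inv g) hτ hT).ev h
    (MonoidHom.noncommCoprod (Subgroup.zpowers b).subtype φ (by
      rintro ⟨_, i, rfl⟩ g
      exact (Commute.zpow_right (hb g) i).symm)) (by
      rintro ⟨⟨_, i, rfl⟩, g⟩
      change (b ^ i)⁻¹ * φ (τ g) = θ (b ^ i * φ g)
      rw [map_mul, map_zpow, hθ, hφ, inv_zpow])
  refine this.mono (Set.image_mono ?_)
  rintro _ (rfl | ⟨g, rfl⟩)
  · exact ⟨(⟨_, Subgroup.mem_zpowers _⟩, 1), by simp⟩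
  · exact ⟨(1, g), by simp⟩

theorem TO.isConj (hτ : ∀ g, τ (τ g) = g) (h : TO K τ) (g : K) : IsConj (τ g) g⁻¹ := by
  refine (isConj_iff_forall_irr _ _).2 ?_
  rintro ⟨_, n, ρ, hρ, rfl⟩
  obtain ⟨β, h0, -, hβ⟩ := h.symIrr hτ _ ρ hρ
  exact hβ.char hρ h0 g

theorem TO.indicator (h : TO K (MonoidHom.id K)) {χ : K → ℂ} (hχ : IsIrrCharacter K χ) :
    (Nat.card K : ℂ)⁻¹ * ∑ᶠ g : K, χ (g * g) = 1 := by
  letI := Fintype.ofFinite K
  rw [fsInd_finsum]
  obtain ⟨n, ρ, hρ, rfl⟩ := id hχ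
  obtain ⟨β, h0, hs, hβ⟩ := h.symIrr (fun _ => rfl) _ ρ hρ
  have hinv : ∀ g, ρ.character g⁻¹ = ρ.character g := fun g => (hβ.char hρ h0 g).symm
  refine (fsInd_of_real hχ fun g => (fs_im_eq_zero_iff hχ.isCharacter g).2 (hinv g)).resolve_right fun e => ?_
  obtain ⟨⟨X, hX, hX0⟩, hT⟩ := fsp_form ρ hinv
  have hd := fs_det_ne_zero ρ hX hX0
  have hu : IsUnit X.det := isUnit_iff_ne_zero.2 hd
  have h1 : X.transpose = -X := by rw [hT X hX, e, neg_smul, one_smul]
  have h2 : X⁻¹.transpose = -X⁻¹ := by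
    rw [Matrix.transpose_nonsing_inv, h1]
    exact Matrix.inv_eq_right_inv (by rw [neg_mul_neg, Matrix.mul_nonsing_inv _ hu])
  have k : ∀ g x y, Matrix.toBilin' X⁻¹ (ρ g x) (ρ g y) = Matrix.toBilin' X⁻¹ x y := fun g x y => by
    rw [Matrix.toBilin'_apply', Matrix.toBilin'_apply', ← fsMat_mulVec, ← fsMat_mulVec,
      ← Matrix.vecMul_transpose, ← Matrix.dotProduct_mulVec, Matrix.mulVec_mulVec,
      Matrix.mulVec_mulVec, fsp_inv_invariant ρ hX hd g]
  have z := hβ.skew_zero hρ h0 hs (γ := Matrix.toBilin' X⁻¹) (fun g x y => by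
    rw [← k g x, ← End.mul_apply, ← map_mul, MonoidHom.id_apply, mul_inv_cancel, map_one]; rfl) fun x y => by
    rw [Matrix.toBilin'_apply', Matrix.toBilin'_apply', Matrix.dotProduct_mulVec, ← Matrix.mulVec_transpose, h2,
      Matrix.neg_mulVec, neg_dotProduct, dotProduct_comm]
  have : X⁻¹ = 0 := Matrix.toBilin'.map_eq_zero_iff.1 (LinearMap.ext fun x => LinearMap.ext fun y => z x y)
  exact hX0 (by rw [← Matrix.one_mul X, ← Matrix.mul_nonsing_inv _ hu, this]; simp)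

end CL.TOr
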