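/-
Project TO: inverse transpose automorphisms, conjugations and orthogonal sums.
-/
import Cfsg.Agent.TOr.Defs

set_option autoImplicit false
set_option linter.unusedSectionVars false

namespace CL.TOr

open Module

section Sym

variable {E W : Type*} [Field E] [AddCommGroup W] [Module E W] [FiniteDimensional E W]
  {β β' : LinearMap.BilinForm E W} {τ τ' : (W ≃ₗ[E] W) →* (W ≃ₗ[E] W)} {A C : Submodule E W}

theorem sym_basis {ι : Type*} [Fintype ι] [DecidableEq ι] (b : Module.Basis ι E W) (w : Equiv.Perm ι)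
    (hw : ∀ i, w (w i) = i) : ∃ β : LinearMap.BilinForm E W, Sym β ∧ ∀ x y, β x y = ∑ i, b.coord i x * b.coord (w i) y := by
  let β : LinearMap.BilinForm E W := ∑ i, (LinearMap.mul E E).compl₁₂ (b.coord i) (b.coord (w i))
  have h : ∀ x y, β x y = ∑ i, b.coord i x * b.coord (w i) y := fun x y => by simp [β, LinearMap.sum_apply]
  refine ⟨β, ⟨fun x y => ?_, fun x hx => b.forall_coord_eq_zero_iff.1 fun i => ?_⟩, h⟩
  · rw [h, h, ← Equiv.sum_comp w]
    simp only [hw, mul_comm]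
  · simpa [h, Finsupp.single_apply, eq_comm] using hx (b (w i))

theorem exists_sym0 : ∃ β : LinearMap.BilinForm E W, Sym β :=
  let ⟨β, h, _⟩ := sym_basis (Module.finBasis E W) 1 fun _ => rfl; ⟨β, h⟩

theorem Sym.ext (hβ : Sym β) {y y' : W} (h : ∀ x, β x y = β x y') : y = y' :=
  sub_eq_zero.1 (hβ.nd _ fun x => by rw [hβ.symm, map_sub, h, sub_self])

theorem Sym.exists_equiv (hβ : Sym β) : ∃ e : W ≃ₗ[E] Dual E W, ∀ x y, e x y = β x y :=
  ⟨LinearEquiv.ofBijective (β : W →ₗ[E] Dual E W) ⟨LinearMap.ker_eq_bot.1 (LinearMap.ker_eq_bot'.2 fun x hx =>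
    hβ.nd x (LinearMap.congr_fun hx)), Cls.exists_repr_of_nondeg (σ := RingHom.id E) (fun _ => rfl) β hβ.nd⟩,
    fun _ _ => rfl⟩

theorem exists_invT (hβ : Sym β) : ∃ τ, IsInvT β τ := by
  obtain ⟨e, he⟩ := hβ.exists_equiv
  have key : ∀ (g : W ≃ₗ[E] W) x y, β (g x) ((e.trans (g.symm.dualMap.trans e.symm)) y) = β x y := fun g x y => by
    rw [hβ.symm, ← he, hβ.symm, ← he]
    simp
  exact ⟨MonoidHom.mk' (fun g => e.trans (g.symm.dualMap.trans e.symm)) fun g h => LinearEquiv.ext fun y =>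
    hβ.ext fun x => by
      obtain ⟨x, rfl⟩ := (g * h).surjective x
      rw [key, LinearEquiv.mul_apply, LinearEquiv.mul_apply, key, key], key⟩

theorem IsInvT.eq_of (hβ : Sym β) (hτ : IsInvT β τ) {g g' : W ≃ₗ[E] W} (h : ∀ x y, β (g x) (g' y) = β x y) :
    τ g = g' :=
  LinearEquiv.ext fun y => hβ.ext fun x => by
    obtain ⟨x, rfl⟩ := g.surjective x
    rw [hτ, h]

theorem IsInvT.invol (hβ : Sym β) (hτ : IsInvT β τ) (g : W ≃ₗ[E] W) : τ (τ g) = g :=
  hτ.eq_of hβ fun x y => by rw [hβ.symm, hτ, hβ.symm]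

theorem Sym.twist (hβ : Sym β) (hβ' : Sym β') (hτ : IsInvT β τ) (hτ' : IsInvT β' τ') :
    ∃ k, k * τ k = 1 ∧ ∀ g, τ' g = k * τ g * k⁻¹ := by
  obtain ⟨e, he⟩ := hβ.exists_equiv
  obtain ⟨e', he'⟩ := hβ'.exists_equiv
  have key : ∀ x y, β' x ((e.trans e'.symm) y) = β x y := fun x y => by
    rw [hβ'.symm, ← he', hβ.symm, ← he]
    simp
  generalize e.trans e'.symm = k at key
  have h1 : ∀ y, k (k⁻¹ y) = y := k.apply_symm_apply
  refine ⟨k, mul_eq_one_iff_inv_eq.2 (hτ.eq_of hβ fun x y => ?_).symm, fun g => hτ'.eq_of hβ' fun x y => ?_⟩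
  · rw [← key, h1, hβ'.symm, key, hβ.symm]
  · rw [LinearEquiv.mul_apply, LinearEquiv.mul_apply, key, hτ, ← key, h1]

theorem sym_glue {βA : LinearMap.BilinForm E A} {βC : LinearMap.BilinForm E C} (h : IsCompl A C) (hA : Sym βA)
    (hC : Sym βC) : ∃ β : LinearMap.BilinForm E W, Sym β ∧
      ∀ (a a' : A) (c c' : C), β (a + c) (a' + c') = βA a a' + βC c c' := by
  let e := (A.prodEquivOfIsCompl C h).symm.toLinearMap
  let β : LinearMap.BilinForm E W := βA.compl₁₂ (LinearMap.fst E _ _ ∘ₗ e) (LinearMap.fst E _ _ ∘ₗ e) +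
    βC.compl₁₂ (LinearMap.snd E _ _ ∘ₗ e) (LinearMap.snd E _ _ ∘ₗ e)
  have he : ∀ (a : A) (c : C), e (a + c) = (a, c) := fun a c => (A.prodEquivOfIsCompl C h).symm_apply_apply (a, c)
  have key : ∀ (a a' : A) (c c' : C), β (a + c) (a' + c') = βA a a' + βC c c' := fun a a' c c' => by
    simp only [β, LinearMap.add_apply, LinearMap.compl₁₂_apply, LinearMap.comp_apply, he, LinearMap.fst_apply,
      LinearMap.snd_apply]
  refine ⟨β, ⟨fun x y => ?_, fun x hx => ?_⟩, key⟩
  · obtain ⟨a, c, rfl⟩ := exists_add_of_isCompl h x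
    obtain ⟨a', c', rfl⟩ := exists_add_of_isCompl h y
    rw [key, key, hA.symm, hC.symm]
  · obtain ⟨a, c, rfl⟩ := exists_add_of_isCompl h x
    rw [hA.nd a fun y => by simpa using (key a y c 0).symm.trans (hx _),
      hC.nd c fun y => by simpa using (key a 0 c y).symm.trans (hx _)]
    simp

theorem IsInvT.glue {βA : LinearMap.BilinForm E A} {βC : LinearMap.BilinForm E C} {τA : (A ≃ₗ[E] A) →* (A ≃ₗ[E] A)}
    {τC : (C ≃ₗ[E] C) →* (C ≃ₗ[E] C)} (h : IsCompl A C) (hβ : Sym β)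
    (hsum : ∀ (a a' : A) (c c' : C), β (a + c) (a' + c') = βA a a' + βC c c') (hA : IsInvT βA τA) (hC : IsInvT βC τC)
    (hτ : IsInvT β τ) (g : (A ≃ₗ[E] A) × (C ≃ₗ[E] C)) : τ (TOr.glue A C h g) = TOr.glue A C h (τA g.1, τC g.2) :=
  hτ.eq_of hβ fun x y => by
    obtain ⟨a, c, rfl⟩ := exists_add_of_isCompl h x
    obtain ⟨a', c', rfl⟩ := exists_add_of_isCompl h y
    rw [glue_add, glue_add, hsum, hsum, hA, hC]

theorem Sym.restrict (hβ : Sym β) (h : IsCompl A C) (ho : ∀ a ∈ A, ∀ c ∈ C, β a c = 0) :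
    Sym (β.restrict A) ∧ Sym (β.restrict C) := by
  refine ⟨⟨fun x y => hβ.symm x y, fun x hx => Subtype.ext (hβ.nd x fun y => ?_)⟩,
    ⟨fun x y => hβ.symm x y, fun x hx => Subtype.ext (hβ.nd x fun y => ?_)⟩⟩ <;>
    obtain ⟨a, c, rfl⟩ := exists_add_of_isCompl h y
  · rw [map_add, ho _ x.2 _ c.2, add_zero]; exact hx a
  · rw [map_add, hβ.symm, ho _ a.2 _ x.2, zero_add]; exact hx c

end Sym

section Herm

variable {E V : Type*} [Field E] [AddCommGroup V] [Module E V] {s : E →+* E} {B : V →ₛₗ[s] V →ₗ[E] E}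
  {A C : Submodule E V} {t t' : V →+ V}

theorem Herm.flip_zero (hB : Herm s B) {x y : V} (h : B x y = 0) : B y x = 0 := by rw [← hB.symm, h, map_zero]

theorem Herm.nd_right (hB : Herm s B) (y : V) (h : ∀ x, B x y = 0) : y = 0 := hB.nd y fun x => hB.flip_zero (h x)

theorem Herm.restrict (hB : Herm s B) (h : IsCompl A C) (ho : ∀ a ∈ A, ∀ c ∈ C, B a c = 0) :
    Herm s (B.domRestrict₁₂ A A) ∧ Herm s (B.domRestrict₁₂ C C) := by
  refine ⟨⟨hB.invol, fun x y => hB.symm x y, fun x hx => Subtype.ext (hB.nd x fun y => ?_)⟩,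
    ⟨hB.invol, fun x y => hB.symm x y, fun x hx => Subtype.ext (hB.nd x fun y => ?_)⟩⟩ <;>
    obtain ⟨a, c, rfl⟩ := exists_add_of_isCompl h y
  · rw [map_add, ho _ x.2 _ c.2, add_zero]; exact hx a
  · rw [map_add, hB.flip_zero (ho _ a.2 _ x.2), zero_add]; exact hx c

/-- The orthogonal complement. -/
def perp (B : V →ₛₗ[s] V →ₗ[E] E) (A : Submodule E V) : Submodule E V where
  carrier := {y | ∀ a ∈ A, B a y = 0}
  zero_mem' _ _ := map_zero _
  add_mem' hx hy a ha := by rw [map_add, hx a ha, hy a ha, add_zero]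
  smul_mem' c x hx a ha := by rw [map_smul, hx a ha, smul_zero]

theorem mem_perp {y : V} : y ∈ perp B A ↔ ∀ a ∈ A, B a y = 0 := Iff.rfl

theorem B_add (hB : Herm s B) (ho : ∀ a ∈ A, ∀ c ∈ C, B a c = 0) (a a' : A) (c c' : C) :
    B (a + c) (a' + c') = B a a' + B c c' := by
  simp [ho _ a.2 _ c'.2, hB.flip_zero (ho _ a'.2 _ c.2)]

/-- Direct sum of isometries of orthogonal complements. -/
noncomputable def glueU (hB : Herm s B) (h : IsCompl A C) (ho : ∀ a ∈ A, ∀ c ∈ C, B a c = 0) :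
    UG (B.domRestrict₁₂ A A) × UG (B.domRestrict₁₂ C C) →* UG B :=
  ((glue A C h).comp ((Subgroup.subtype _).prodMap (Subgroup.subtype _))).codRestrict _ fun g x y => by
    obtain ⟨a, c, rfl⟩ := exists_add_of_isCompl h x
    obtain ⟨a', c', rfl⟩ := exists_add_of_isCompl h y
    rw [MonoidHom.comp_apply, glue_add, glue_add, B_add hB ho, B_add hB ho]
    exact congrArg₂ (· + ·) (g.1.2 a a') (g.2.2 c c')

theorem glueU_coe (hB : Herm s B) (h : IsCompl A C) (ho : ∀ a ∈ A, ∀ c ∈ C, B a c = 0)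
    (g : UG (B.domRestrict₁₂ A A) × UG (B.domRestrict₁₂ C C)) :
    (glueU hB h ho g : V ≃ₗ[E] V) = glue A C h (g.1, g.2) := rfl

theorem mem_range_glueU [FiniteDimensional E V] (hB : Herm s B) (h : IsCompl A C) (ho : ∀ a ∈ A, ∀ c ∈ C, B a c = 0)
    (k : UG B) (hA : ∀ a ∈ A, k.1 a ∈ A) (hC : ∀ c ∈ C, k.1 c ∈ C) :
    ∃ g, glueU hB h ho g = k ∧ (∀ a : A, (g.1.1 a : V) = k.1 a) ∧ ∀ c : C, (g.2.1 c : V) = k.1 c :=
  ⟨(⟨resEq k.1 A hA, fun x y => k.2 x y⟩, ⟨resEq k.1 C hC, fun x y => k.2 x y⟩), Subtype.ext (glue_resEq h k.1 hA hC),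
    fun _ => rfl, fun _ => rfl⟩

/-- The composite of two conjugations with a linear map in between. -/
def cjl (hB : Herm s B) (ht : IsCj B t) (ht' : IsCj B t') (g : V ≃ₗ[E] V) : V ≃ₗ[E] V where
  toFun x := t' (g (t x))
  invFun x := t (g.symm (t' x))
  map_add' x y := by simp only [map_add]
  map_smul' c x := by rw [ht.smul, map_smul, ht'.smul, hB.invol, RingHom.id_apply]
  left_inv x := by simp only [ht'.invol, g.symm_apply_apply, ht.invol]
  right_inv x := by simp only [ht.invol, g.apply_symm_apply, ht'.invol]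

/-- Conjugation by `t`. -/
noncomputable def cj (hB : Herm s B) (ht : IsCj B t) : (V ≃ₗ[E] V) →* (V ≃ₗ[E] V) :=
  MonoidHom.mk' (cjl hB ht ht) fun g _ => LinearEquiv.ext fun _ => congrArg (fun y => t (g y)) (ht.invol _).symm

theorem cj_apply (hB : Herm s B) (ht : IsCj B t) (g : V ≃ₗ[E] V) (x : V) : cj hB ht g x = t (g (t x)) := rfl

theorem exists_cjAut (hB : Herm s B) (ht : IsCj B t) (K : Subgroup (V ≃ₗ[E] V)) (hK : ∀ g ∈ K, cj hB ht g ∈ K) :
    ∃ τ : K →* K, IsCjAut t τ :=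
  ⟨((cj hB ht).comp K.subtype).codRestrict K fun g => hK g g.2, fun g x => congrArg (fun y => t (g.1 y)) (ht.invol x)⟩

theorem cj_mem_UG (hB : Herm s B) (ht : IsCj B t) {g : V ≃ₗ[E] V} (hg : g ∈ UG B) : cj hB ht g ∈ UG B := fun x y => by
  rw [cj_apply, cj_apply, ht.form, hg, ht.form, hB.invol]

theorem cj_mem_fixv (hB : Herm s B) (ht : IsCj B t) {v : V} (hv : t v = v) {g : V ≃ₗ[E] V} (hg : g ∈ fixv v) :
    cj hB ht g ∈ fixv (E := E) v := by
  rw [mem_fixv, cj_apply, hv, mem_fixv.1 hg, hv]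

theorem exists_cjAut_UG (hB : Herm s B) (ht : IsCj B t) : ∃ τ : UG B →* UG B, IsCjAut t τ :=
  exists_cjAut hB ht _ fun _ => cj_mem_UG hB ht

theorem exists_cjAut_fix (hB : Herm s B) (ht : IsCj B t) {v : V} (hv : t v = v) :
    ∃ τ : ↥(UG B ⊓ fixv v) →* ↥(UG B ⊓ fixv v), IsCjAut t τ :=
  exists_cjAut hB ht _ fun _ hg => ⟨cj_mem_UG hB ht hg.1, cj_mem_fixv hB ht hv hg.2⟩

variable {K : Subgroup (V ≃ₗ[E] V)} {τ τ' : K →* K}

theorem IsCjAut.eq_of (ht : IsCj B t) (hτ : IsCjAut t τ) {g g' : K} (h : ∀ x, g'.1 (t x) = t (g.1 x)) : τ g = g' :=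
  Subtype.ext (LinearEquiv.ext fun x => by rw [← ht.invol x, hτ, h])

theorem IsCjAut.invol (ht : IsCj B t) (hτ : IsCjAut t τ) (g : K) : τ (τ g) = g :=
  hτ.eq_of ht fun x => by rw [← ht.invol x, hτ, ht.invol, ht.invol]

theorem IsCj.twist (hB : Herm s B) (ht : IsCj B t) (ht' : IsCj B t') : ∃ k : UG B, ∀ x, k.1 (t x) = t' x :=
  ⟨⟨cjl hB ht ht' 1, fun x y => (ht'.form _ _).trans ((congrArg s (ht.form x y)).trans (hB.invol _))⟩,
    fun x => congrArg t' (ht.invol x)⟩

theorem IsCjAut.twist (ht : IsCj B t) (ht' : IsCj B t') {K : Subgroup (V ≃ₗ[E] V)} {τ τ' : K →* K} (hτ : IsCjAut t τ)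
    (hτ' : IsCjAut t' τ') (k : K) (hk : ∀ x, k.1 (t x) = t' x) : k * τ k = 1 ∧ ∀ g, τ' g = k * τ g * k⁻¹ := by
  refine ⟨Subtype.ext (LinearEquiv.ext fun x => ?_), fun g => hτ'.eq_of ht' fun x => ?_⟩
  · change k.1 ((τ k).1 x) = x
    rw [← ht.invol x, hτ, hk, ← ht.invol (t x), hk, ht'.invol, ht.invol, ht.invol]
  · change k.1 ((τ g).1 (k.1.symm (t' x))) = _
    rw [← hk, k.1.symm_apply_apply, hτ, hk]

theorem glue_cj {tA : A →+ A} {tC : C →+ C} (hB : Herm s B) (h : IsCompl A C) (ho : ∀ a ∈ A, ∀ c ∈ C, B a c = 0)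
    (htA : IsCj (B.domRestrict₁₂ A A) tA) (htC : IsCj (B.domRestrict₁₂ C C) tC) :
    ∃ t, IsCj B t ∧ (∀ a : A, t a = tA a) ∧ ∀ c : C, t c = tC c := by
  let e := (A.prodEquivOfIsCompl C h).toAddEquiv
  let t : V →+ V := e.toAddMonoidHom.comp ((tA.prodMap tC).comp e.symm.toAddMonoidHom)
  have key : ∀ (a : A) (c : C), t (a + c) = tA a + tC c := fun a c =>
    congrArg (fun p => e (tA.prodMap tC p)) (e.symm_apply_apply (a, c))
  refine ⟨t, ⟨fun r x => ?_, fun x => ?_, fun x y => ?_⟩, fun a => by simpa using key a 0, fun c => by simpa using key 0 c⟩ <;>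
    obtain ⟨a, c, rfl⟩ := exists_add_of_isCompl h x
  · rw [smul_add, ← A.coe_smul, ← C.coe_smul, key, key, htA.smul, htC.smul, smul_add, A.coe_smul, C.coe_smul]
  · rw [key, key, htA.invol, htC.invol]
  · obtain ⟨a', c', rfl⟩ := exists_add_of_isCompl h y
    rw [key, key, B_add hB ho, B_add hB ho, map_add]
    exact congrArg₂ (· + ·) (htA.form a a') (htC.form c c')

theorem cj_of_basis {ι : Type*} [Fintype ι] (hB : Herm s B) (b : Module.Basis ι E V)
    (hb : ∀ i j, s (B (b i) (b j)) = B (b i) (b j)) : ∃ t, IsCj B t ∧ ∀ i, t (b i) = b i := by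
  classical
  let t : V →+ V := AddMonoidHom.mk' (fun x => ∑ i, s (b.repr x i) • b i) fun x y => by
    simp [add_smul, Finset.sum_add_distrib]
  have h1 : ∀ x, t x = ∑ i, s (b.repr x i) • b i := fun _ => rfl
  refine ⟨t, ⟨fun c x => by simp [h1, Finset.smul_sum, mul_smul], fun x => ?_, fun x y => ?_⟩,
    fun i => by simp [h1, Finsupp.single_apply, apply_ite s, ite_smul]⟩
  · rw [h1 (t x), h1 x]
    simp [Finsupp.single_apply, hB.invol]
  · conv_rhs => rw [← b.sum_repr x, ← b.sum_repr y]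
    simp only [h1, map_sum, LinearMap.sum_apply, LinearMap.map_smulₛₗ, LinearMap.smul_apply, smul_eq_mul, map_mul, hb,
      RingHom.id_apply]

theorem cj_line (hB : Herm s B) {w : V} (hw : B w w ≠ 0) :
    ∃ tA, IsCj (B.domRestrict₁₂ (Submodule.span E {w}) (Submodule.span E {w})) tA ∧ ∀ a, a.1 = w → tA a = a := by
  have h0 : w ≠ 0 := fun e => hw (by simp [e])
  let b := (Module.Basis.singleton Unit E).map (LinearEquiv.toSpanNonzeroSingleton E V w h0)
  have hb : ∀ i, (b i : V) = w := fun i => by simp [b]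
  obtain ⟨t, h1, h2⟩ := cj_of_basis (B := B.domRestrict₁₂ (Submodule.span E {w}) (Submodule.span E {w}))
    ⟨hB.invol, fun x y => hB.symm x y, fun x hx => by
      obtain ⟨c, hc⟩ := Submodule.mem_span_singleton.1 x.2
      have := hx (b ())
      rw [LinearMap.domRestrict₁₂_apply, hb, ← hc, LinearMap.map_smulₛₗ, LinearMap.smul_apply, smul_eq_mul,
        mul_eq_zero, map_eq_zero] at this
      exact Subtype.ext (by rw [← hc, this.resolve_right hw, zero_smul]; rfl)⟩ b fun i j => by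
      simp only [LinearMap.domRestrict₁₂_apply, hb, hB.symm]
  exact ⟨t, h1, fun a ha => (Subtype.ext ((hb ()).trans ha.symm) : b () = a) ▸ h2 ()⟩

variable [FiniteDimensional E V]

theorem Herm.finrank_perp (hB : Herm s B) (A : Submodule E V) : finrank E A + finrank E (perp B A) = finrank E V := by
  let b := Module.finBasis E A
  have hb : LinearIndependent E (fun i => (b i : V)) := b.linearIndependent.map' A.subtype (by simp)
  have hli : LinearIndependent E (fun i => (B (b i) : Module.Dual E V)) := by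
    rw [Fintype.linearIndependent_iff]
    intro c hc i
    have h1 : B (∑ j, s (c j) • (b j : V)) = 0 := by
      rw [map_sum]
      simpa [LinearMap.map_smulₛₗ, hB.invol] using hc
    have h3 := Fintype.linearIndependent_iff.mp hb (fun j => s (c j)) (hB.nd _ fun y => by rw [h1]; rfl) i
    rw [← hB.invol (c i), h3, map_zero]
  have h2 := Subspace.finrank_add_finrank_dualCoannihilator_eq
    (Submodule.span E (Set.range (fun i => (B (b i : V) : Module.Dual E V))))
  have h3 : (Submodule.span E (Set.range (fun i => (B (b i : V) : Module.Dual E V)))).dualCoannihilator = perp B A := by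
    ext v
    rw [Submodule.mem_dualCoannihilator, mem_perp]
    refine ⟨fun hv w hw => ?_, fun hv φ hφ => ?_⟩
    · have := congrArg A.subtype (b.sum_repr ⟨w, hw⟩)
      rw [map_sum] at this
      rw [← show _ = w from this, map_sum, LinearMap.sum_apply]
      refine Finset.sum_eq_zero fun i _ => ?_
      rw [map_smul, LinearMap.map_smulₛₗ, LinearMap.smul_apply, A.subtype_apply, hv _ (Submodule.subset_span ⟨i, rfl⟩),
        smul_zero]
    · induction hφ using Submodule.span_induction with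
      | mem φ hφ => obtain ⟨i, rfl⟩ := hφ; exact hv _ (b i).2
      | zero => rfl
      | add s t _ _ hs ht => simp [hs, ht]
      | smul a s _ hs => simp [hs]
  rw [h3, finrank_span_eq_card hli] at h2
  simpa using h2

theorem Herm.perp_perp (hB : Herm s B) (A : Submodule E V) : perp B (perp B A) = A := by
  have h1 := hB.finrank_perp A
  have h2 := hB.finrank_perp (perp B A)
  exact (Submodule.eq_of_le_of_finrank_eq (show A ≤ perp B (perp B A) from fun x hx y hy => hB.flip_zero (hy x hx))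
    (by omega)).symm

theorem Herm.isCompl_perp (hB : Herm s B) (hA : ∀ a ∈ A, (∀ a' ∈ A, B a' a = 0) → a = 0) : IsCompl A (perp B A) := by
  have hd : Disjoint A (perp B A) := Submodule.disjoint_def.2 hA
  refine ⟨hd, codisjoint_iff.mpr (Submodule.eq_top_of_finrank_eq ?_)⟩
  have h1 := hB.finrank_perp A
  have h2 := Submodule.finrank_sup_add_finrank_inf_eq A (perp B A)
  rw [disjoint_iff.mp hd, finrank_bot] at h2
  omega

theorem Herm.exists_ne (hB : Herm s B) (hs : s ≠ RingHom.id E) [CharP E 2] [Nontrivial V] : ∃ w, B w w ≠ 0 := by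
  by_contra h
  push Not at h
  obtain ⟨a, ha⟩ := DFunLike.ne_iff.1 hs
  obtain ⟨x, hx⟩ := _root_.exists_ne (0 : V)
  have key : ∀ y, s (B x y) = B x y := fun y => by
    have := h (x + y)
    simp only [map_add, LinearMap.add_apply, h, zero_add, add_zero, ← hB.symm x y] at this
    exact CharTwo.add_eq_zero.1 this
  refine hx (hB.nd x fun y => by_contra fun hy => ha (mul_right_cancel₀ hy ?_))
  simpa [key y] using key (a • y)

theorem Herm.isCompl_line (hB : Herm s B) {w : V} (hw : B w w ≠ 0) :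
    IsCompl (Submodule.span E {w}) (perp B (Submodule.span E {w})) :=
  hB.isCompl_perp fun a ha h => by
    obtain ⟨c, rfl⟩ := Submodule.mem_span_singleton.1 ha
    have := h w (Submodule.mem_span_singleton_self w)
    rw [map_smul, smul_eq_mul, mul_eq_zero] at this
    rw [this.resolve_right hw, zero_smul]

end Herm

universe v

theorem exists_cj_aux {E : Type*} [Field E] [CharP E 2] {s : E →+* E} (hs : s ≠ RingHom.id E) (n : ℕ) :
    ∀ (V : Type v) [AddCommGroup V] [Module E V] [FiniteDimensional E V] (B : V →ₛₗ[s] V →ₗ[E] E), Herm s B →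
      finrank E V = n → ∃ t, IsCj B t := by
  induction n with
  | zero =>
    intro V _ _ _ B _ h
    have : Subsingleton V := finrank_zero_iff.1 h
    exact ⟨0, fun _ _ => Subsingleton.elim _ _, fun _ => Subsingleton.elim _ _, fun x y => by simp [Subsingleton.elim y 0]⟩
  | succ n ih =>
    intro V _ _ _ B hB h
    have : Nontrivial V := nontrivial_of_finrank_eq_succ h
    obtain ⟨w, hw⟩ := hB.exists_ne hs
    have hc := hB.isCompl_line hw
    have ho : ∀ a ∈ Submodule.span E {w}, ∀ c ∈ perp B (Submodule.span E {w}), B a c = 0 := fun a ha c hc => hc a ha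
    obtain ⟨tA, h1, -⟩ := cj_line hB hw
    obtain ⟨tC, h2⟩ := ih _ _ (hB.restrict hc ho).2 (by
      have := hB.finrank_perp (Submodule.span E {w})
      rw [finrank_span_singleton (fun e => hw (by simp [e]))] at this
      omega)
    exact let ⟨t, ht, _⟩ := glue_cj hB hc ho h1 h2; ⟨t, ht⟩

theorem exists_cj {E V : Type*} [Field E] [AddCommGroup V] [Module E V] [FiniteDimensional E V] {s : E →+* E}
    {B : V →ₛₗ[s] V →ₗ[E] E} (hB : Herm s B) (hs : s ≠ RingHom.id E) [CharP E 2] : ∃ t, IsCj B t :=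
  exists_cj_aux hs _ V B hB rfl

end CL.TOr
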