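/-
Project TO: a hyperbolic pair `v, v'` of a hermitian (or symplectic) space of characteristic two, its orthogonal
complement `hW`, the Siegel transformations, and the decomposition of the stabiliser of `v`.
-/
import Cfsg.Agent.TOr.Defs

set_option autoImplicit false
set_option linter.unusedSectionVars false
set_option linter.unusedVariables false
set_option linter.unusedSimpArgs false

namespace CL.TOr

open Module

variable {E V : Type*} [Field E] [CharP E 2] [AddCommGroup V] [Module E V] [FiniteDimensional E V]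
  {s : E →+* E} {B : V →ₛₗ[s] V →ₗ[E] E}

/-- A hyperbolic pair of a hermitian space. -/
structure Hyp (B : V →ₛₗ[s] V →ₗ[E] E) (v v' : V) : Prop where
  herm : Herm s B
  vv : B v v = 0
  v'v' : B v' v' = 0
  vv' : B v v' = 1

/-- The orthogonal complement of the pair. -/
def hW (B : V →ₛₗ[s] V →ₗ[E] E) (v v' : V) : Submodule E V where
  carrier := {y | B v y = 0 ∧ B v' y = 0}
  zero_mem' := by simp
  add_mem' {a b} ha hb := ⟨by rw [map_add, ha.1, hb.1, add_zero], by rw [map_add, ha.2, hb.2, add_zero]⟩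
  smul_mem' c a ha := ⟨by rw [map_smul, ha.1, smul_zero], by rw [map_smul, ha.2, smul_zero]⟩

theorem mem_hW {v v' y : V} : y ∈ hW B v v' ↔ B v y = 0 ∧ B v' y = 0 := Iff.rfl

/-- The form on the complement. -/
abbrev BW (B : V →ₛₗ[s] V →ₗ[E] E) (v v' : V) : hW B v v' →ₛₗ[s] hW B v v' →ₗ[E] E :=
  B.domRestrict₁₂ (hW B v v') (hW B v v')

theorem BW_apply {v v' : V} (x y : hW B v v') : BW B v v' x y = B x y := rfl

/-- The stabiliser of `v` in the isometry group. -/
abbrev K0 (B : V →ₛₗ[s] V →ₗ[E] E) (v : V) : Subgroup (V ≃ₗ[E] V) := UG B ⊓ fixv v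

theorem K0_form {v : V} (k : K0 B v) (x y : V) : B (k.1 x) (k.1 y) = B x y := k.2.1 x y

theorem K0_v {v : V} (k : K0 B v) : k.1 v = v := k.2.2

theorem K0_vl {v : V} (k : K0 B v) (y : V) : B v (k.1 y) = B v y := by
  rw [← K0_form k v y, K0_v]

theorem K0_vr {v : V} (k : K0 B v) (y : V) : B (k.1 y) v = B y v := by
  rw [← K0_form k y v, K0_v]

theorem hyp_two_eq : (2 : E) = 0 := CharP.ofNat_eq_zero E 2

theorem hyp_add_self (E : Type*) {V : Type*} [Field E] [CharP E 2] [AddCommGroup V] [Module E V] (y : V) :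
    y + y = 0 := by
  rw [← two_smul E y, hyp_two_eq, zero_smul]

namespace Hyp

variable {v v' : V}

theorem v'v (H : Hyp B v v') : B v' v = 1 := by rw [← H.herm.symm, H.vv', map_one]

theorem vW (H : Hyp B v v') (y : hW B v v') : B v y = 0 := y.2.1

theorem v'W (H : Hyp B v v') (y : hW B v v') : B v' y = 0 := y.2.2

theorem Wv (H : Hyp B v v') (y : hW B v v') : B y v = 0 := by rw [← H.herm.symm, y.2.1, map_zero]

theorem Wv' (H : Hyp B v v') (y : hW B v v') : B y v' = 0 := by rw [← H.herm.symm, y.2.2, map_zero]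

theorem v_ne (H : Hyp B v v') : v ≠ 0 := by
  intro h
  have := H.vv'
  rw [h, map_zero, LinearMap.zero_apply] at this
  exact zero_ne_one this

theorem decomp (H : Hyp B v v') (y : V) : y - B v' y • v - B v y • v' ∈ hW B v v' := by
  constructor
  · simp [H.vv, H.vv']
  · simp [H.v'v', H.v'v]

/-- The projection to the complement. -/
def proj (H : Hyp B v v') : V →ₗ[E] hW B v v' :=
  LinearMap.codRestrict _ (LinearMap.id - (B v').smulRight v - (B v).smulRight v') H.decomp

theorem proj_coe (H : Hyp B v v') (y : V) : (H.proj y : V) = y - B v' y • v - B v y • v' := rfl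

theorem eq_proj (H : Hyp B v v') (y : V) : y = B v' y • v + B v y • v' + H.proj y := by
  rw [proj_coe]; abel

theorem proj_v (H : Hyp B v v') : H.proj v = 0 := by
  ext; simp [proj_coe, H.vv, H.v'v]

theorem proj_v' (H : Hyp B v v') : H.proj v' = 0 := by
  ext; simp [proj_coe, H.v'v', H.vv']

theorem proj_W (H : Hyp B v v') (y : hW B v v') : H.proj y = y := by
  ext; simp [proj_coe, H.vW, H.v'W]

theorem exists_eq (H : Hyp B v v') (y : V) : ∃ (a b : E) (w : hW B v v'), y = a • v + b • v' + w :=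
  ⟨_, _, _, H.eq_proj y⟩

theorem form_sum (H : Hyp B v v') (a b a' b' : E) (w w' : hW B v v') :
    B (a • v + b • v' + w) (a' • v + b' • v' + w') = s a * b' + s b * a' + B w w' := by
  simp only [map_add, LinearMap.map_smulₛₗ, LinearMap.add_apply, LinearMap.smul_apply, map_smul, smul_eq_mul, H.vv,
    H.vv', H.v'v, H.v'v', H.vW, H.v'W, H.Wv, H.Wv', RingHom.id_apply]
  ring

theorem orth (H : Hyp B v v') : ∀ a ∈ Submodule.span E {v, v'}, ∀ c ∈ hW B v v', B a c = 0 := by
  intro a ha c hc
  obtain ⟨x, y, rfl⟩ := Submodule.mem_span_pair.1 ha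
  simp [LinearMap.map_smulₛₗ, hc.1, hc.2]

theorem isCompl (H : Hyp B v v') : IsCompl (Submodule.span E {v, v'}) (hW B v v') := by
  constructor
  · rw [Submodule.disjoint_def]
    intro a ha hw
    obtain ⟨x, y, rfl⟩ := Submodule.mem_span_pair.1 ha
    have h1 := hw.1
    have h2 := hw.2
    simp only [map_add, map_smul, H.vv, H.vv', H.v'v, H.v'v', smul_eq_mul, mul_zero, mul_one, zero_add,
      add_zero] at h1 h2
    simp [h1, h2]
  · rw [codisjoint_iff, eq_top_iff]
    intro y _
    rw [H.eq_proj y]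
    exact Submodule.add_mem_sup (Submodule.mem_span_pair.2 ⟨_, _, rfl⟩) (H.proj y).2

theorem hermW (H : Hyp B v v') : Herm s (BW B v v') where
  invol := H.herm.invol
  symm x y := H.herm.symm x y
  nd x hx := by
    apply Subtype.ext
    apply H.herm.nd
    intro y
    rw [H.eq_proj y]
    simp only [map_add, map_smul, H.Wv, H.Wv', smul_zero, zero_add]
    exact hx (H.proj y)

theorem li (H : Hyp B v v') : LinearIndependent E ![v, v'] := by
  rw [LinearIndependent.pair_iff]
  intro a b hab
  have h1 := congrArg (B v) hab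
  have h2 := congrArg (B v') hab
  simp only [map_add, map_smul, H.vv, H.vv', H.v'v, H.v'v', smul_eq_mul, mul_zero, mul_one, zero_add,
    add_zero, map_zero] at h1 h2
  exact ⟨h2, h1⟩

theorem finrank_span (H : Hyp B v v') : finrank E (Submodule.span E {v, v'}) = 2 := by
  have h := finrank_span_eq_card H.li
  have e : Set.range ![v, v'] = {v, v'} := by
    rw [Matrix.range_cons, Matrix.range_cons, Matrix.range_empty, Set.union_empty]; rfl
  rw [e] at h
  simpa using h

theorem finrank (H : Hyp B v v') : Module.finrank E (hW B v v') + 2 = Module.finrank E V := by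
  rw [← Submodule.finrank_add_eq_of_isCompl H.isCompl, H.finrank_span, add_comm]

theorem ext (H : Hyp B v v') {g g' : V ≃ₗ[E] V} (h1 : g v = g' v) (h2 : g v' = g' v')
    (h3 : ∀ y : hW B v v', g y = g' y) : g = g' := by
  ext y
  obtain ⟨a, b, w, rfl⟩ := H.exists_eq y
  simp only [map_add, map_smul, h1, h2, h3]

/-! ### Siegel transformations -/

/-- The Siegel transformation as a linear map. -/
def siegL (B : V →ₛₗ[s] V →ₗ[E] E) (v x : V) (c : E) : V →ₗ[E] V :=
  LinearMap.id + (B v).smulRight x + (B x).smulRight v + (c • B v).smulRight v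

theorem siegL_apply (x : V) (c : E) (y : V) :
    siegL B v x c y = y + B v y • x + B x y • v + (c * B v y) • v := rfl

theorem siegL_mul (H : Hyp B v v') (x x' : hW B v v') (c c' : E) (y : V) :
    siegL B v x c (siegL B v x' c' y) = siegL B v (x + x' : hW B v v') (c + c' + B x x') y := by
  simp only [siegL_apply, map_add, map_smul, H.vW, H.vv, H.Wv, smul_eq_mul, mul_zero, add_zero, Submodule.coe_add,
    LinearMap.add_apply]
  module

theorem siegL_zero (y : V) : siegL B v ((0 : hW B v v') : V) 0 y = y := by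
  simp [siegL_apply]

theorem siegL_inv (H : Hyp B v v') (x : hW B v v') (c c' : E) (h : c + c' + B x x = 0) (y : V) :
    siegL B v x c (siegL B v x c' y) = y := by
  have hx : x + x = 0 := hyp_add_self E x
  rw [H.siegL_mul, h, hx, siegL_zero]

/-- The Siegel transformation. -/
noncomputable def sieg (H : Hyp B v v') (x : hW B v v') (c : E) : V ≃ₗ[E] V :=
  LinearEquiv.ofLinearMap (siegL B v x c) (siegL B v x (c + B x x))
    (LinearMap.ext fun y => H.siegL_inv x _ _ (by linear_combination (c + B x x) * hyp_two_eq (E := E)) y)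
    (LinearMap.ext fun y => H.siegL_inv x _ _ (by linear_combination (c + B x x) * hyp_two_eq (E := E)) y)

theorem sieg_apply (H : Hyp B v v') (x : hW B v v') (c : E) (y : V) :
    H.sieg x c y = y + B v y • (x : V) + B x y • v + (c * B v y) • v := rfl

theorem sieg_mul (H : Hyp B v v') (x x' : hW B v v') (c c' : E) :
    H.sieg x c * H.sieg x' c' = H.sieg (x + x') (c + c' + B x x') :=
  LinearEquiv.ext fun y => H.siegL_mul x x' c c' y

theorem sieg_zero (H : Hyp B v v') : H.sieg 0 0 = 1 :=
  LinearEquiv.ext fun y => siegL_zero (v' := v') y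

theorem sieg_v (H : Hyp B v v') (x : hW B v v') (c : E) : H.sieg x c v = v := by
  simp [sieg_apply, H.vv, H.Wv]

theorem sieg_v' (H : Hyp B v v') (x : hW B v v') (c : E) : H.sieg x c v' = v' + x + c • v := by
  simp [sieg_apply, H.vv', H.Wv']

theorem sieg_W (H : Hyp B v v') (x : hW B v v') (c : E) (y : hW B v v') : H.sieg x c y = y + B x y • v := by
  simp [sieg_apply, H.vW]

theorem sieg_inj (H : Hyp B v v') {x x' : hW B v v'} {c c' : E} (h : H.sieg x c = H.sieg x' c') :
    x = x' ∧ c = c' := by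
  have h1 : v' + x + c • v = v' + x' + c' • v := by rw [← H.sieg_v', ← H.sieg_v', h]
  have h2 := congrArg (B v') h1
  simp only [map_add, map_smul, H.v'v', H.v'W, H.v'v, smul_eq_mul, mul_one, zero_add] at h2
  subst h2
  exact ⟨Subtype.ext (add_left_cancel (add_right_cancel h1)), rfl⟩

theorem sieg_mem (H : Hyp B v v') {x : hW B v v'} {c : E} (h : c + s c = B x x) : H.sieg x c ∈ K0 B v := by
  refine ⟨fun y z => ?_, H.sieg_v x c⟩
  simp only [sieg_apply, map_add, LinearMap.map_smulₛₗ, LinearMap.add_apply, LinearMap.smul_apply, map_smul,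
    smul_eq_mul, H.vv, H.vW, H.Wv, RingHom.id_apply, map_mul, H.herm.symm]
  linear_combination (B v z * B y x + B x z * B y v + B y v * B v z * B x x) * hyp_two_eq (E := E) +
    B y v * B v z * h

/-! ### The Levi factor -/

/-- Automorphisms of the complement, extended by the identity on `v, v'`. -/
noncomputable def iota (H : Hyp B v v') : (hW B v v' ≃ₗ[E] hW B v v') →* (V ≃ₗ[E] V) :=
  (glue _ _ H.isCompl).comp (MonoidHom.inr _ _)

theorem iota_span (H : Hyp B v v') (g : hW B v v' ≃ₗ[E] hW B v v') {a : V} (ha : a ∈ Submodule.span E {v, v'}) :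
    H.iota g a = a :=
  glue_left H.isCompl (1, g) ⟨a, ha⟩

theorem iota_v (H : Hyp B v v') (g : hW B v v' ≃ₗ[E] hW B v v') : H.iota g v = v :=
  H.iota_span g (Submodule.subset_span (by simp))

theorem iota_v' (H : Hyp B v v') (g : hW B v v' ≃ₗ[E] hW B v v') : H.iota g v' = v' :=
  H.iota_span g (Submodule.subset_span (by simp))

theorem iota_W (H : Hyp B v v') (g : hW B v v' ≃ₗ[E] hW B v v') (y : hW B v v') : H.iota g y = g y :=
  glue_right H.isCompl (1, g) y

theorem iota_sum (H : Hyp B v v') (g : hW B v v' ≃ₗ[E] hW B v v') (a b : E) (w : hW B v v') :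
    H.iota g (a • v + b • v' + w) = a • v + b • v' + g w := by
  simp only [map_add, map_smul, H.iota_v, H.iota_v', H.iota_W]

theorem iota_injective (H : Hyp B v v') : Function.Injective H.iota := by
  intro g g' h
  ext y
  rw [← H.iota_W, ← H.iota_W, h]

theorem iota_mem (H : Hyp B v v') {g : hW B v v' ≃ₗ[E] hW B v v'} (hg : g ∈ UG (BW B v v')) :
    H.iota g ∈ K0 B v := by
  refine ⟨fun y z => ?_, H.iota_v g⟩
  obtain ⟨a, b, w, rfl⟩ := H.exists_eq y
  obtain ⟨a', b', w', rfl⟩ := H.exists_eq z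
  rw [H.iota_sum, H.iota_sum, H.form_sum, H.form_sum]
  congr 1
  exact hg w w'

theorem iota_sieg (H : Hyp B v v') {g : hW B v v' ≃ₗ[E] hW B v v'} (hg : g ∈ UG (BW B v v')) (x : hW B v v')
    (c : E) : H.iota g * H.sieg x c = H.sieg (g x) c * H.iota g := by
  apply H.ext
  · simp only [LinearEquiv.mul_apply, H.sieg_v, H.iota_v]
  · simp only [LinearEquiv.mul_apply, H.sieg_v', H.iota_v', map_add, map_smul, H.iota_v, H.iota_W]
  · intro y
    have := hg x y
    simp only [BW_apply] at this
    simp only [LinearEquiv.mul_apply, H.sieg_W, map_add, map_smul, H.iota_v, H.iota_W, this]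

/-- The isometries of the complement inside the stabiliser of `v`. -/
noncomputable def iotaU (H : Hyp B v v') : UG (BW B v v') →* K0 B v :=
  (H.iota.comp (UG (BW B v v')).subtype).codRestrict _ fun g => H.iota_mem g.2

theorem iotaU_coe (H : Hyp B v v') (g : UG (BW B v v')) : (H.iotaU g : V ≃ₗ[E] V) = H.iota g.1 := rfl

theorem proj_k (H : Hyp B v v') (k : K0 B v) (y : hW B v v') :
    (H.proj (k.1 y) : V) = k.1 y - B v' (k.1 y) • v := by
  rw [proj_coe, K0_vl, H.vW, zero_smul, sub_zero]

/-- The action of the stabiliser on the complement, as a linear map. -/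
noncomputable def piL (H : Hyp B v v') (k : K0 B v) : hW B v v' →ₗ[E] hW B v v' :=
  H.proj ∘ₗ (k.1 : V →ₗ[E] V) ∘ₗ (hW B v v').subtype

theorem piL_apply (H : Hyp B v v') (k : K0 B v) (y : hW B v v') :
    (H.piL k y : V) = k.1 y - B v' (k.1 y) • v := H.proj_k k y

theorem piL_form (H : Hyp B v v') (k : K0 B v) (y z : hW B v v') : B (H.piL k y) (H.piL k z) = B y z := by
  simp only [piL_apply, map_sub, LinearMap.map_smulₛₗ, LinearMap.sub_apply, LinearMap.smul_apply, map_smul,
    K0_form, K0_vl, K0_vr, H.vv, H.vW, H.Wv, smul_zero, sub_zero]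

theorem piL_injective (H : Hyp B v v') (k : K0 B v) : Function.Injective (H.piL k) := by
  rw [injective_iff_map_eq_zero]
  intro y hy
  apply H.hermW.nd
  intro z
  rw [BW_apply, ← H.piL_form k, hy]
  simp

/-- The action of the stabiliser of `v` on the complement. -/
noncomputable def pi (H : Hyp B v v') : K0 B v →* UG (BW B v v') :=
  MonoidHom.mk' (fun k => ⟨LinearEquiv.ofInjectiveEndo (H.piL k) (H.piL_injective k), H.piL_form k⟩) (by
    intro k k'
    ext y
    change (H.piL (k * k') y : V) = H.piL k (H.piL k' y)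
    rw [piL_apply, piL_apply, piL_apply]
    simp only [map_sub, map_smul, K0_v, H.v'v, smul_eq_mul, mul_one, Subgroup.coe_mul, LinearEquiv.mul_apply]
    module)

theorem pi_apply (H : Hyp B v v') (k : K0 B v) (y : hW B v v') :
    ((H.pi k).1 y : V) = k.1 y - B v' (k.1 y) • v := H.piL_apply k y

theorem pi_iotaU (H : Hyp B v v') (g : UG (BW B v v')) : H.pi (H.iotaU g) = g := by
  ext y
  rw [pi_apply, iotaU_coe, iota_W, H.v'W, zero_smul, sub_zero]

theorem pi_sieg (H : Hyp B v v') {x : hW B v v'} {c : E} (h : c + s c = B x x) :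
    H.pi ⟨H.sieg x c, H.sieg_mem h⟩ = 1 := by
  ext y
  rw [pi_apply]
  simp [H.sieg_W, H.v'W, H.v'v]

theorem exists_decomp (H : Hyp B v v') (k : K0 B v) : ∃ (x : hW B v v') (c : E), c + s c = B x x ∧
    k.1 = H.sieg x c * H.iota (H.pi k).1 ∧ k.1 v' = v' + x + c • v := by
  have e : k.1 v' = v' + H.proj (k.1 v') + B v' (k.1 v') • v := by
    rw [proj_coe, K0_vl, H.vv', one_smul]; abel
  generalize H.proj (k.1 v') = x at e
  generalize B v' (k.1 v') = c at e
  refine ⟨x, c, ?_, ?_, e⟩
  · have h := K0_form k v' v'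
    rw [e, H.v'v'] at h
    simp only [map_add, LinearMap.map_smulₛₗ, LinearMap.add_apply, LinearMap.smul_apply, map_smul,
      smul_eq_mul, H.vv, H.vW, H.Wv, H.v'v', H.v'W, H.Wv', H.vv', H.v'v, RingHom.id_apply] at h
    linear_combination h - B x x * hyp_two_eq (E := E)
  · apply H.ext
    · simp only [LinearEquiv.mul_apply, H.sieg_v, H.iota_v, K0_v]
    · simp only [LinearEquiv.mul_apply, H.sieg_v', H.iota_v', e]
    · intro y
      have h := K0_form k v' y
      rw [e, H.v'W] at h
      simp only [map_add, LinearMap.map_smulₛₗ, LinearMap.add_apply, LinearMap.smul_apply,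
        smul_eq_mul, K0_vl, H.vW, mul_zero, add_zero] at h
      have h2 : B x (k.1 y) = B v' (k.1 y) := by
        linear_combination h - B v' (k.1 y) * hyp_two_eq (E := E)
      rw [LinearEquiv.mul_apply, H.iota_W, H.sieg_W, pi_apply]
      simp only [map_sub, map_smul, H.Wv, smul_zero, sub_zero, h2, sub_add_cancel]

theorem conj_sieg (H : Hyp B v v') (k : K0 B v) {x : hW B v v'} {c : E} (h : c + s c = B x x) :
    ∃ d : E, s d = d ∧ k.1 * H.sieg x c = H.sieg ((H.pi k).1 x) (c + d) * k.1 := by
  obtain ⟨x0, c0, -, e, -⟩ := H.exists_decomp k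
  generalize H.pi k = g at e ⊢
  refine ⟨B x0 (g.1 x) + B (g.1 x) x0, by rw [map_add, H.herm.symm, H.herm.symm, add_comm], ?_⟩
  rw [e, mul_assoc, H.iota_sieg g.2, ← mul_assoc, ← mul_assoc, H.sieg_mul, H.sieg_mul, add_comm x0]
  congr 2
  linear_combination - B (g.1 x) x0 * hyp_two_eq (E := E)

theorem conj_sieg_zero (H : Hyp B v v') (k : K0 B v) (c : E) : k.1 * H.sieg 0 c = H.sieg 0 c * k.1 := by
  ext y
  simp [sieg_apply, K0_v, K0_vl]

/-! ### Conjugations -/

theorem cjW (H : Hyp B v v') {t : V →+ V} (ht : IsCj B t) (h1 : t v = v) (h2 : t v' = v') :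
    ∃ tW : hW B v v' →+ hW B v v', IsCj (BW B v v') tW ∧ ∀ y : hW B v v', (tW y : V) = t y := by
  have hm : ∀ y : hW B v v', t y ∈ hW B v v' := fun y =>
    ⟨by have := ht.form v y; rwa [h1, H.vW, map_zero] at this,
      by have := ht.form v' y; rwa [h2, H.v'W, map_zero] at this⟩
  refine ⟨AddMonoidHom.mk' (fun y => ⟨t y, hm y⟩) (fun a b => Subtype.ext (map_add t _ _)),
    ⟨fun c x => Subtype.ext (ht.smul c x), fun x => Subtype.ext (ht.invol x), fun x y => ht.form x y⟩,
    fun _ => rfl⟩

theorem cj_ext (H : Hyp B v v') {tW : hW B v v' →+ hW B v v'} (htW : IsCj (BW B v v') tW) :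
    ∃ t : V →+ V, IsCj B t ∧ t v = v ∧ t v' = v' ∧ ∀ y : hW B v v', t y = tW y := by
  let t : V →+ V := AddMonoidHom.mk' (fun y => s (B v' y) • v + s (B v y) • v' + (tW (H.proj y) : V)) (by
    intro a b
    simp only [map_add, add_smul, Submodule.coe_add]
    abel)
  have hs : ∀ (a b : E) (w : hW B v v'), t (a • v + b • v' + w) = s a • v + s b • v' + tW w := by
    intro a b w
    change s (B v' _) • v + s (B v _) • v' + (tW (H.proj _) : V) = _
    simp only [map_add, map_smul, H.vv, H.vv', H.v'v, H.v'v', H.vW, H.v'W, smul_eq_mul, mul_zero, mul_one, zero_add,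
      add_zero, H.proj_v, H.proj_v', H.proj_W, smul_zero]
  refine ⟨t, ⟨fun c y => ?_, fun y => ?_, fun y z => ?_⟩, ?_, ?_, fun y => ?_⟩
  · obtain ⟨a, b, w, rfl⟩ := H.exists_eq y
    have e : c • (a • v + b • v' + (w : V)) = (c * a) • v + (c * b) • v' + (c • w : hW B v v') := by
      simp only [smul_add, smul_smul, Submodule.coe_smul]
    rw [e, hs, hs, htW.smul]
    simp only [smul_add, smul_smul, Submodule.coe_smul, map_mul]
  · obtain ⟨a, b, w, rfl⟩ := H.exists_eq y
    rw [hs, hs, H.herm.invol, H.herm.invol, htW.invol]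
  · obtain ⟨a, b, w, rfl⟩ := H.exists_eq y
    obtain ⟨a', b', w', rfl⟩ := H.exists_eq z
    have := htW.form w w'
    simp only [BW_apply] at this
    rw [hs, hs, H.form_sum, H.form_sum, this]
    simp only [map_add, map_mul]
  · simpa using hs 1 0 0
  · simpa using hs 0 1 0
  · simpa using hs 0 0 y

theorem cj_sieg (H : Hyp B v v') {t : V →+ V} {tW : hW B v v' →+ hW B v v'} (ht : IsCj B t) (h1 : t v = v)
    (h2 : t v' = v') (hW' : ∀ y : hW B v v', t y = tW y) (x : hW B v v') (c : E) (y : V) :
    H.sieg (tW x) (s c) (t y) = t (H.sieg x c y) := by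
  have e : B v (t y) = s (B v y) := by rw [← ht.form, h1]
  simp only [sieg_apply, map_add, ht.smul, ← hW', ht.form, e, h1, map_mul]

theorem cj_iota (H : Hyp B v v') {t : V →+ V} {tW : hW B v v' →+ hW B v v'} (ht : IsCj B t) (h1 : t v = v)
    (h2 : t v' = v') (hW' : ∀ y : hW B v v', t y = tW y) {g g' : hW B v v' ≃ₗ[E] hW B v v'}
    (hg : ∀ y, g' (tW y) = tW (g y)) (y : V) : H.iota g' (t y) = t (H.iota g y) := by
  obtain ⟨a, b, w, rfl⟩ := H.exists_eq y
  rw [H.iota_sum]
  simp only [map_add, ht.smul, h1, h2, hW', map_smul, H.iota_v, H.iota_v', H.iota_W, hg]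

end Hyp

/-! ### Existence -/

theorem exists_hyp_herm (hB : Herm s B) (hs : s ≠ RingHom.id E) {v : V} (hv : v ≠ 0) (hvv : B v v = 0) :
    ∃ v', Hyp B v v' := by
  obtain ⟨y, h1, h2, -⟩ := (Cls.isWittForm_herm hs hB.invol B ⟨hB.symm⟩ hB.nd).exists_partner ⊥
    (x := v) (by simpa using hv) (by simpa using hvv) (by simp)
  exact ⟨y, hB, hvv, by simpa using h1, h2⟩

/-! ### The orthogonal case -/

section Quad

open QuadraticMap

variable {Q : QuadraticForm E V}

theorem herm_polar (hQ : (polarBilin Q).Nondegenerate) : Herm (RingHom.id E) (polarBilin Q) where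
  invol _ := rfl
  symm x y := by simp [polar_comm]
  nd x hx := hQ.1 x hx

theorem nondeg_of_herm (h : Herm (RingHom.id E) (polarBilin Q)) : (polarBilin Q).Nondegenerate :=
  Cls.nondeg_iff.2 fun x hx => h.nd x fun y => by simpa using hx y

theorem polar_self_two (x : V) : polarBilin Q x x = 0 := by
  rw [polarBilin_apply_apply, polar_self, two_smul, CharTwo.add_self_eq_zero]

theorem exists_hyp_quad (hQ : (polarBilin Q).Nondegenerate) {v : V} (hv : v ≠ 0) (hQv : Q v = 0) {w : V}
    (hw : w = 0 ∨ Q w ≠ 0) (hvw : polar Q v w = 0) :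
    ∃ v', Hyp (polarBilin Q) v v' ∧ Q v' = 0 ∧ polar Q v' w = 0 := by
  obtain ⟨y, h1, h2, h3⟩ := (Cls.isWittForm_quad Q (Cls.nondeg_iff.1 hQ)).exists_partner (Submodule.span E {w})
    (x := v) (by
      intro h
      obtain ⟨a, rfl⟩ := Submodule.mem_span_singleton.1 h
      rcases hw with rfl | hw
      · exact hv (smul_zero a)
      · rw [Q.map_smul, smul_eq_mul, mul_eq_zero, mul_self_eq_zero] at hQv
        rcases hQv with rfl | h0
        · exact hv (zero_smul _ _)
        · exact hw h0) (by simpa using hQv) (by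
      intro z hz
      obtain ⟨a, rfl⟩ := Submodule.mem_span_singleton.1 hz
      rw [map_smul, polarBilin_apply_apply, hvw, smul_zero])
  refine ⟨y, ⟨herm_polar hQ, polar_self_two v, polar_self_two y, h2⟩, by simpa using h1, ?_⟩
  have := h3 w (Submodule.mem_span_singleton_self w)
  rwa [polarBilin_apply_apply, polar_comm] at this

/-- The quadratic form on the complement. -/
abbrev QW (Q : QuadraticForm E V) (v v' : V) : QuadraticForm E (hW (polarBilin Q) v v') :=
  Q.comp (hW (polarBilin Q) v v').subtype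

theorem QW_apply {v v' : V} (y : hW (polarBilin Q) v v') : QW Q v v' y = Q y := rfl

theorem polarBilin_QW (v v' : V) : polarBilin (QW Q v v') = BW (polarBilin Q) v v' := by
  ext x y
  rfl

theorem Q_add_polar (x y : V) : Q (x + y) = Q x + Q y + polarBilin Q x y := by
  rw [QuadraticMap.map_add Q, polarBilin_apply_apply]

namespace Hyp

variable {v v' : V}

theorem nondeg_QW (H : Hyp (polarBilin Q) v v') : (polarBilin (QW Q v v')).Nondegenerate :=
  nondeg_of_herm (by rw [polarBilin_QW]; exact H.hermW)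

theorem sieg_Q (H : Hyp (polarBilin Q) v v') (hv : Q v = 0) (x : hW (polarBilin Q) v v') (y : V) :
    Q (H.sieg x (Q x) y) = Q y := by
  have e1 : polarBilin Q y v = polarBilin Q v y := H.herm.symm y v
  have e2 : polarBilin Q y x = polarBilin Q x y := H.herm.symm y x
  simp only [sieg_apply, Q_add_polar, Q.map_smul, map_add, map_smul, LinearMap.add_apply, LinearMap.smul_apply,
    smul_eq_mul, hv, H.vv, H.Wv, e1, e2]
  linear_combination (polarBilin Q v y * polarBilin Q x y + Q x * polarBilin Q v y ^ 2) * hyp_two_eq (E := E)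

theorem sieg_mem_Q (H : Hyp (polarBilin Q) v v') (x : hW (polarBilin Q) v v') (c : E) :
    c + RingHom.id E c = polarBilin Q x x := by
  rw [polar_self_two, RingHom.id_apply, CharTwo.add_self_eq_zero]

theorem Q_sum (H : Hyp (polarBilin Q) v v') (a b : E) (w : hW (polarBilin Q) v v') :
    Q (a • v + b • v' + w) = Q (a • v + b • v') + Q w := by
  rw [Q_add_polar]
  simp only [map_add, map_smul, LinearMap.add_apply, LinearMap.smul_apply, H.vW, H.v'W, smul_zero, add_zero]

theorem iota_Q (H : Hyp (polarBilin Q) v v') {g : hW (polarBilin Q) v v' ≃ₗ[E] hW (polarBilin Q) v v'}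
    (hg : ∀ y, QW Q v v' (g y) = QW Q v v' y) (y : V) : Q (H.iota g y) = Q y := by
  obtain ⟨a, b, w, rfl⟩ := H.exists_eq y
  rw [H.iota_sum, H.Q_sum, H.Q_sum]
  congr 1
  exact hg w

theorem decomp_Q (H : Hyp (polarBilin Q) v v') (hv : Q v = 0) (hv' : Q v' = 0) (k : K0 (polarBilin Q) v)
    (hk : ∀ y, Q (k.1 y) = Q y) : (∀ y, QW Q v v' ((H.pi k).1 y) = QW Q v v' y) ∧
    ∃ x : hW (polarBilin Q) v v', k.1 = H.sieg x (Q x) * H.iota (H.pi k).1 ∧ k.1 v' = v' + x + Q x • v := by
  constructor
  · intro y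
    rw [QW_apply, QW_apply, H.pi_apply, sub_eq_add_neg, ← neg_smul, Q_add_polar, hk, Q.map_smul, hv, map_smul,
      K0_vr, H.Wv]
    simp
  · obtain ⟨x, c, -, e, e'⟩ := H.exists_decomp k
    have h := hk v'
    rw [e'] at h
    simp only [Q_add_polar, Q.map_smul, map_add, map_smul, LinearMap.add_apply, smul_eq_mul, hv, hv', H.v'W, H.v'v,
      H.Wv] at h
    have hc : c = Q x := by linear_combination h - Q x * hyp_two_eq (E := E)
    subst hc
    exact ⟨x, e, e'⟩

end Hyp

end Quad

end CL.TOr
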