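/-
Project TO: interface statements of the three inductions.
-/
import Cfsg.Agent.TOr.Core2
import Cfsg.Agent.TOr.Basic
import Cfsg.Agent.TOr.Hyp

set_option autoImplicit false

namespace CL.TOr

open Module

universe u

section Gen

variable (E W : Type*) [Field E] [AddCommGroup W] [Module E W]

/-- The parabolic subgroup acts evenly on the fixed points of its unipotent radical. -/
def ParEv : Prop :=
  ∀ β : LinearMap.BilinForm E W, Sym β → ∀ τ, IsInvT β τ →
    ∀ (V : Type) [AddCommGroup V] [Module ℂ V] [FiniteDimensional ℂ V] (σ : (W ≃ₗ[E] W) →ₙ* End ℂ V)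
      (ω : LinearMap.BilinForm ℂ V), Skew τ σ ω → ∀ p q : End E W, p * p = p → q * q = q → p * q = 0 → q * p = 0 →
      p + q = 1 → p ≠ 0 → q ≠ 0 →
      EvS (σ '' {g | q * (g : End E W) * p = 0 ∧ q * ((g⁻¹ : W ≃ₗ[E] W) : End E W) * p = 0})
        (Ech (fun f : Ug p q => σ (un (f : End E W))) 1)

/-- The stabiliser of a vector acts evenly. -/
def MirEv : Prop :=
  ∀ β : LinearMap.BilinForm E W, Sym β → ∀ τ, IsInvT β τ →
    ∀ (V : Type) [AddCommGroup V] [Module ℂ V] [FiniteDimensional ℂ V] (σ : (W ≃ₗ[E] W) →ₙ* End ℂ V)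
      (ω : LinearMap.BilinForm ℂ V), Skew τ σ ω → ∀ v : W, v ≠ 0 →
      EvS (σ '' (fixv (E := E) v : Set (W ≃ₗ[E] W))) (σ 1)

end Gen

/-- The theorem for all general linear groups in characteristic 2. -/
def GLAll : Prop :=
  ∀ (E W : Type u) [Field E] [Finite E] [CharP E 2] [AddCommGroup W] [Module E W] [FiniteDimensional E W], GLTO E W

section U

variable {E V : Type*} [Field E] [AddCommGroup V] [Module E V] {s : E →+* E}

/-- The theorem for the vector stabilisers in a unitary group. -/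
def UP (B : V →ₛₗ[s] V →ₗ[E] E) : Prop :=
  ∀ (w : V) (t : V →+ V), IsCj B t → t w = w → TOc (K0 B w) t

/-- The stabiliser of an isotropic vector, on a module where its centre acts by `ζ`. -/
def UMir (B : V →ₛₗ[s] V →ₗ[E] E) (v : V) (ζ : E → ℂ) : Prop :=
  ∀ (t : V →+ V), IsCj B t → t v = v → ∀ τ : K0 B v →* K0 B v, IsCjAut t τ →
    ∀ (X : Type) [AddCommGroup X] [Module ℂ X] [FiniteDimensional ℂ X] (σ : K0 B v →ₙ* End ℂ X)
      (ω : LinearMap.BilinForm ℂ X), Skew τ σ ω →
      (∀ (k : K0 B v) (c : E), (∀ y, k.1 y = y + (c * B v y) • v) → σ k = ζ c • σ 1) → EvS (Set.range σ) (σ 1)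

end U

/-- The theorem for all unitary groups in characteristic 2. -/
def UAll : Prop :=
  ∀ (E V : Type u) [Field E] [Finite E] [CharP E 2] [AddCommGroup V] [Module E V] [FiniteDimensional E V]
    (s : E →+* E) (B : V →ₛₗ[s] V →ₗ[E] E), Herm s B → s ≠ RingHom.id E → UP B

section O

variable {F V : Type*} [Field F] [AddCommGroup V] [Module F V]

/-- The isometries fixing `w` and fixing `u` modulo `w`. -/
def KO (Q : QuadraticForm F V) (w u : V) : Subgroup (V ≃ₗ[F] V) where
  carrier := {g | (∀ x, Q (g x) = Q x) ∧ g w = w ∧ ∃ c : F, g u = u + c • w}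
  mul_mem' := by
    rintro a b ⟨a1, a2, c, a3⟩ ⟨b1, b2, d, b3⟩
    refine ⟨fun x => by rw [LinearEquiv.mul_apply, a1, b1], by rw [LinearEquiv.mul_apply, b2, a2], c + d, ?_⟩
    rw [LinearEquiv.mul_apply, b3, map_add, map_smul, a2, a3, add_smul, add_assoc]
  one_mem' := ⟨fun _ => rfl, rfl, 0, by simp⟩
  inv_mem' := by
    rintro a ⟨a1, a2, c, a3⟩
    have h : ∀ x, a (a⁻¹ x) = x := fun x => a.apply_symm_apply x
    have hw : a⁻¹ w = w := a.injective (by rw [h, a2])
    refine ⟨fun x => by rw [← a1, h], hw, -c, a.injective ?_⟩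
    rw [h, map_add, map_smul, a2, a3, neg_smul, add_neg_cancel_right]

theorem mem_KO {Q : QuadraticForm F V} {w u : V} {g : V ≃ₗ[F] V} :
    g ∈ KO Q w u ↔ (∀ x, Q (g x) = Q x) ∧ g w = w ∧ ∃ c : F, g u = u + c • w := Iff.rfl

/-- The theorem for the groups `KO`. -/
def OP (Q : QuadraticForm F V) : Prop :=
  ∀ w u : V, (w = 0 ∨ Q w ≠ 0) → TO (KO Q w u) (MonoidHom.id _)

end O

/-- The theorem for all orthogonal groups in characteristic 2. -/
def OAll : Prop :=
  ∀ (F V : Type u) [Field F] [Finite F] [CharP F 2] [AddCommGroup V] [Module F V] [FiniteDimensional F V]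
    (Q : QuadraticForm F V), (QuadraticMap.polarBilin Q).Nondegenerate → OP Q

/-- An isometry of a space of dimension `2n` is inverted by an isometry of Dickson invariant `n`. -/
def RealThm : Prop :=
  ∀ (F V : Type u) [Field F] [Finite F] [CharP F 2] [AddCommGroup V] [Module F V] [FiniteDimensional F V]
    (Q : QuadraticForm F V) (hQ : (QuadraticMap.polarBilin Q).Nondegenerate) (g : Cls.OG Q),
    ∃ t : Cls.OG Q, t * g * t⁻¹ = g⁻¹ ∧ Cls.dickson hQ t = (-1) ^ (finrank F V / 2)

end CL.TOr
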