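/-
Project TO: small shared lemmas.
-/
import Cfsg.Agent.TOr.Defs2

set_option autoImplicit false

namespace CL.TOr

open Module

theorem small_gamma {E : Type*} [Field E] [CharP E 2] {s : E →+* E} (h : ∀ a, s (s a) = a)
    (hs : s ≠ RingHom.id E) : ∃ γ : E, γ + s γ = 1 := by
  obtain ⟨a, ha⟩ : ∃ a, s a ≠ a := by
    by_contra hne
    push Not at hne
    exact hs (RingHom.ext hne)
  have h0 : a + s a ≠ 0 := fun h0 => ha (by
    have := CharTwo.add_eq_zero.1 h0
    exact this.symm)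
  refine ⟨a / (a + s a), ?_⟩
  rw [map_div₀, map_add, h, add_comm (s a) a, ← add_div, div_self h0]

section Chars

variable {E X : Type*} [Field E] [Finite E] [AddCommGroup X] [Module E X]

/-- A non-trivial additive character fixed by the involution `s`. -/
theorem exists_psi [CharP E 2] (s : E →+* E) (hs : ∀ a, s (s a) = a) :
    ∃ ψ : AddChar E ℂ, ψ ≠ 1 ∧ ∀ a, ψ (s a) = ψ a := by
  obtain ⟨ψ, hψ⟩ := (AddChar.exists_apply_ne_zero (α := E) (a := 1)).2 one_ne_zero
  by_cases h : s = RingHom.id E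
  · refine ⟨ψ, fun h1 => hψ (by rw [h1]; rfl), fun a => by rw [h]; rfl⟩
  · obtain ⟨γ, hγ⟩ := small_gamma hs h
    refine ⟨ψ.compAddMonoidHom (AddMonoidHom.id E + s.toAddMonoidHom), fun h1 => hψ ?_, fun a => ?_⟩
    · have h2 := DFunLike.congr_fun h1 γ
      rw [AddChar.one_apply] at h2
      rw [← hγ]
      exact h2
    · show ψ (s a + s (s a)) = ψ (a + s a)
      rw [hs, add_comm]

theorem psi_inj {ψ : AddChar E ℂ} (hψ : ψ ≠ 1) {l l' : X →ₗ[E] E} (h : ∀ x, ψ (l x) = ψ (l' x)) : l = l' := by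
  by_contra hne
  obtain ⟨x, hx⟩ : ∃ x, l x - l' x ≠ 0 := by
    by_contra h2
    push Not at h2
    exact hne (LinearMap.ext fun x => sub_eq_zero.1 (h2 x))
  refine hψ (AddChar.ext _ _ fun a => ?_)
  have h1 := h ((a / (l x - l' x)) • x)
  have h2 : l ((a / (l x - l' x)) • x) = a + l' ((a / (l x - l' x)) • x) := by
    rw [map_smul, map_smul, smul_eq_mul, smul_eq_mul, ← sub_eq_iff_eq_add, ← mul_sub, div_mul_cancel₀ _ hx]
  rw [h2, AddChar.map_add_eq_mul] at h1
  have h3 : ψ (l' ((a / (l x - l' x)) • x)) ≠ 0 := (ψ.val_isUnit _).ne_zero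
  rw [AddChar.one_apply]
  exact mul_right_cancel₀ h3 (by rw [h1, one_mul])

theorem char_dual [FiniteDimensional E X] {ψ : AddChar E ℂ} (hψ : ψ ≠ 1) (χ : AddChar X ℂ) :
    ∃ l : X →ₗ[E] E, ∀ x, χ x = ψ (l x) := by
  classical
  haveI : Finite X := Module.finite_of_finite E
  haveI : Finite (Dual E X) := Module.finite_of_finite E
  letI := Fintype.ofFinite X
  let F : Dual E X → AddChar X ℂ := fun l => ψ.compAddMonoidHom l.toAddMonoidHom
  have hF : Function.Injective F := fun l l' h => psi_inj hψ fun x => DFunLike.congr_fun h x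
  have hc : Nat.card (AddChar X ℂ) ≤ Nat.card (Dual E X) := by
    rw [Nat.card_eq_fintype_card, AddChar.card_eq, ← Nat.card_eq_fintype_card,
      Module.natCard_eq_pow_finrank (K := E) (V := X), Module.natCard_eq_pow_finrank (K := E) (V := Dual E X),
      Subspace.dual_finrank_eq]
  obtain ⟨l, hl⟩ := (hF.bijective_of_nat_card_le hc).2 χ
  exact ⟨l, fun x => by rw [← hl]; rfl⟩

omit [Finite E] in
theorem Herm.exists_repr' [FiniteDimensional E X] {s : E →+* E} {B : X →ₛₗ[s] X →ₗ[E] E} (hB : Herm s B)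
    (M : Submodule E X) (l : M →ₗ[E] E) : ∃ u, ∀ x : M, l x = B u x := by
  obtain ⟨φ, hφ⟩ := LinearMap.exists_extend l
  obtain ⟨u, hu⟩ := Cls.exists_repr_of_nondeg hB.invol B hB.nd φ
  exact ⟨u, fun x => by rw [hu, ← hφ]; rfl⟩

theorem Herm.exists_repr [FiniteDimensional E X] {s : E →+* E} {B : X →ₛₗ[s] X →ₗ[E] E} (hB : Herm s B)
    (M : Submodule E X) (l : M →ₗ[E] E) : ∃ u, ∀ x : M, l x = B u x := hB.exists_repr' M l

theorem finite_equiv [FiniteDimensional E X] : Finite (X ≃ₗ[E] X) := by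
  haveI : Finite X := Module.finite_of_finite E
  exact Finite.of_injective (fun g : X ≃ₗ[E] X => (g : X → X)) DFunLike.coe_injective

/-- A 2-group fixes a non-zero vector of every invariant section. -/
theorem exists_fix_mod [CharP E 2] [FiniteDimensional E X] {G : Type*} [Group G] (ι : G →* (X ≃ₗ[E] X))
    (S : Subgroup G) (hS : IsPGroup 2 S) {A C : Submodule E X} (hAC : A < C) (hA : ∀ g ∈ S, ∀ a ∈ A, ι g a ∈ A)
    (hC : ∀ g ∈ S, ∀ c ∈ C, ι g c ∈ C) : ∃ u ∈ C, u ∉ A ∧ ∀ g ∈ S, ι g u - u ∈ A := by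
  haveI : Finite X := Module.finite_of_finite E
  haveI : Finite (X ⧸ A) := Finite.of_surjective _ A.mkQ_surjective
  let f : S → (X ⧸ A) →ₗ[E] (X ⧸ A) := fun g => A.mapQ A (ι g : X →ₗ[E] X) (fun a ha => hA g g.2 a ha)
  have hf : ∀ (g : S) (x : X), f g (A.mkQ x) = A.mkQ (ι g x) := fun g x => rfl
  have hm : ∀ (g : S) (y : C.map A.mkQ), f g y ∈ C.map A.mkQ := by
    rintro g ⟨_, c, hc, rfl⟩
    exact ⟨ι g c, hC g g.2 c hc, (hf g c).symm⟩
  letI : MulAction S (C.map A.mkQ) :=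
    { smul := fun g y => ⟨f g y, hm g y⟩
      one_smul := by
        rintro ⟨_, c, hc, rfl⟩
        apply Subtype.ext
        show f 1 (A.mkQ c) = A.mkQ c
        rw [hf, OneMemClass.coe_one, map_one]; rfl
      mul_smul := by
        rintro g g' ⟨_, c, hc, rfl⟩
        apply Subtype.ext
        show f (g * g') (A.mkQ c) = f g (f g' (A.mkQ c))
        rw [hf, hf, hf, Subgroup.coe_mul, map_mul]; rfl }
  have hs : ∀ (g : S) (y : C.map A.mkQ), ((g • y : C.map A.mkQ) : X ⧸ A) = f g y := fun _ _ => rfl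
  obtain ⟨c, hc, hcA⟩ := SetLike.exists_of_lt hAC
  have hd : 2 ∣ Nat.card (C.map A.mkQ) := by
    let y : C.map A.mkQ := ⟨A.mkQ c, c, hc, rfl⟩
    have hy : y ≠ 0 := fun h => hcA ((Submodule.Quotient.mk_eq_zero A).1 (congrArg Subtype.val h))
    have h2 : addOrderOf y = 2 := addOrderOf_eq_prime (by rw [two_nsmul]; exact hyp_add_self E y) hy
    rw [← h2]
    exact addOrderOf_dvd_natCard y
  have h0 : (0 : C.map A.mkQ) ∈ MulAction.fixedPoints S (C.map A.mkQ) := fun g =>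
    Subtype.ext (by rw [hs]; exact map_zero _)
  obtain ⟨⟨_, u, hu, rfl⟩, hb, hb0⟩ := hS.exists_fixed_point_of_prime_dvd_card_of_fixed_point _ hd h0
  refine ⟨u, hu, fun h => hb0 (Subtype.ext ((Submodule.Quotient.mk_eq_zero A).2 h).symm), fun g hg => ?_⟩
  have h1 := congrArg Subtype.val (hb ⟨g, hg⟩)
  rw [hs] at h1
  exact (Submodule.Quotient.eq A).1 ((hf ⟨g, hg⟩ u).symm.trans h1)

omit [Finite E] in
theorem exists_cj_fix' [CharP E 2] [FiniteDimensional E X] {s : E →+* E} {B : X →ₛₗ[s] X →ₗ[E] E} (hB : Herm s B)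
    (hs : s ≠ RingHom.id E) (w : X) : ∃ t, IsCj B t ∧ t w = w := by
  by_cases h0 : w = 0
  · obtain ⟨t, ht⟩ := exists_cj hB hs
    exact ⟨t, ht, by rw [h0, map_zero]⟩
  by_cases hw : B w w = 0
  · obtain ⟨v', H⟩ := exists_hyp_herm hB hs h0 hw
    obtain ⟨tW, htW⟩ := exists_cj H.hermW hs
    obtain ⟨t, ht, h1, -⟩ := H.cj_ext htW
    exact ⟨t, ht, h1⟩
  · have hc := hB.isCompl_line hw
    have ho : ∀ a ∈ Submodule.span E {w}, ∀ c ∈ perp B (Submodule.span E {w}), B a c = 0 :=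
      fun a ha c hc => mem_perp.1 hc a ha
    obtain ⟨tA, htA, h1⟩ := cj_line hB hw
    obtain ⟨tC, htC⟩ := exists_cj (hB.restrict hc ho).2 hs
    obtain ⟨t, ht, h2, -⟩ := glue_cj hB hc ho htA htC
    refine ⟨t, ht, ?_⟩
    have h3 := h2 ⟨w, Submodule.mem_span_singleton_self w⟩
    rw [h1 _ rfl] at h3
    exact h3

theorem exists_cj_fix [CharP E 2] [FiniteDimensional E X] {s : E →+* E} {B : X →ₛₗ[s] X →ₗ[E] E} (hB : Herm s B)
    (hs : s ≠ RingHom.id E) (w : X) : ∃ t, IsCj B t ∧ t w = w := exists_cj_fix' hB hs w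

theorem exists_gamma [CharP E 2] {s : E →+* E} (h : ∀ a, s (s a) = a) (hs : s ≠ RingHom.id E) :
    ∃ γ : E, γ + s γ = 1 := small_gamma h hs

omit [Finite E] in
theorem small_dual2 {w w' : X} (h0 : w ≠ 0) (h0' : w' ≠ 0) : ∃ φ : X →ₗ[E] E, φ w ≠ 0 ∧ φ w' ≠ 0 := by
  obtain ⟨φ, hφ⟩ := Module.Projective.exists_dual_ne_zero E h0
  obtain ⟨φ', hφ'⟩ := Module.Projective.exists_dual_ne_zero E h0'
  by_cases h1 : φ w' = 0
  · by_cases h2 : φ' w = 0
    · exact ⟨φ + φ', by simpa [h2] using hφ, by simpa [h1] using hφ'⟩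
    · exact ⟨φ', h2, hφ'⟩
  · exact ⟨φ, hφ, h1⟩

omit [Finite E] in
theorem exists_move' [FiniteDimensional E X] {q : End E X} (hq : q * q = q) {w w' : X} (hw : q w = w) (hw' : q w' = w')
    (h0 : w ≠ 0) (h0' : w' ≠ 0) :
    ∃ g : X ≃ₗ[E] X, g w = w' ∧ (g : End E X) * (1 - q) = 1 - q ∧ (1 - q) * (g : End E X) = 1 - q := by
  obtain ⟨φ, h1, h2⟩ := small_dual2 (E := E) h0 h0'
  have hqq : ∀ x, q (q x) = q x := fun x => LinearMap.congr_fun hq x
  let f : End E X := LinearMap.id + ((φ w)⁻¹ • φ ∘ₗ q).smulRight (w' - w)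
  have hf : ∀ x, f x = x + ((φ w)⁻¹ * φ (q x)) • (w' - w) := fun x => rfl
  have hinj : Function.Injective f := by
    rw [← LinearMap.ker_eq_bot, LinearMap.ker_eq_bot']
    intro x hx
    have h3 := congrArg (fun y => φ (q y)) hx
    simp only [hf, map_add, map_smul, map_sub, hw, hw', map_zero, smul_eq_mul] at h3
    have h4 : (φ w)⁻¹ * φ (q x) * φ w' = 0 := by
      rw [← h3]; field_simp; ring
    have h5 : (φ w)⁻¹ * φ (q x) = 0 := (mul_eq_zero.1 h4).resolve_right h2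
    rw [hf, h5, zero_smul, add_zero] at hx
    exact hx
  refine ⟨LinearEquiv.ofInjectiveEndo f hinj, ?_, ?_, ?_⟩
  · show f w = w'
    rw [hf, hw, inv_mul_cancel₀ h1, one_smul, add_sub_cancel]
  · ext x
    show f (x - q x) = x - q x
    rw [hf, map_sub, hqq, sub_self, map_zero, mul_zero, zero_smul, add_zero]
  · ext x
    show f x - q (f x) = x - q x
    rw [hf, map_add, map_smul, map_sub, hw, hw']
    abel

/-- Transitivity on the non-zero vectors of the image of an idempotent. -/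
theorem exists_move [FiniteDimensional E X] {q : End E X} (hq : q * q = q) {w w' : X} (hw : q w = w) (hw' : q w' = w')
    (h0 : w ≠ 0) (h0' : w' ≠ 0) :
    ∃ g : X ≃ₗ[E] X, g w = w' ∧ (g : End E X) * (1 - q) = 1 - q ∧ (1 - q) * (g : End E X) = 1 - q :=
  exists_move' hq hw hw' h0 h0'

end Chars

/-- The central elements inverted by `τ`. -/
def smallZ {K : Type*} [Group K] (τ : K →* K) : Subgroup K where
  carrier := {z | (∀ g, g * z = z * g) ∧ τ z = z⁻¹}
  one_mem' := ⟨fun g => by rw [mul_one, one_mul], by rw [map_one, inv_one]⟩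
  mul_mem' := by
    rintro a b ⟨a1, a2⟩ ⟨b1, b2⟩
    refine ⟨fun g => by rw [← mul_assoc, a1, mul_assoc, b1, mul_assoc], ?_⟩
    rw [map_mul, a2, b2, ← mul_inv_rev, b1]
  inv_mem' := by
    rintro a ⟨a1, a2⟩
    refine ⟨fun g => ?_, by rw [map_inv, a2]⟩
    rw [mul_inv_eq_iff_eq_mul, mul_assoc, a1, inv_mul_cancel_left]

/-- Adding a central element inverted by `τ`. -/
theorem ev_central {K : Type*} [Group K] [Finite K] {τ : K →* K} {V : Type*} [AddCommGroup V] [Module ℂ V]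
    {σ : K →ₙ* End ℂ V} {ω : LinearMap.BilinForm ℂ V} (h : Skew τ σ ω) {b : K} (hb : ∀ g, g * b = b * g)
    (hτ : τ b = b⁻¹) {X : Set K} (hX : ∀ σ' : K →ₙ* End ℂ V, Skew τ σ' ω → EvS (σ' '' X) (σ' 1)) :
    EvS (σ '' insert b X) (σ 1) := by
  letI : CommGroup (smallZ τ) :=
    { (inferInstance : Group (smallZ τ)) with mul_comm := fun x y => Subtype.ext (y.2.1 x) }
  let n : Additive (smallZ τ) → End ℂ V := fun x => σ (Additive.toMul x).1
  have nadd : ∀ x y, n (x + y) = n x * n y := fun x y => map_mul σ _ _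
  have hcm : ∀ g x, σ g * n x = n x * σ g := fun g x => by
    show σ g * σ _ = σ _ * σ g
    rw [← map_mul, ← map_mul, (Additive.toMul x).2.1]
  let H : Subgroup K := Subgroup.closure (insert b X)
  have key : EvS (Set.range (cmp σ H.subtype)) (cmp σ H.subtype 1) := by
    refine fourier_central (n := n) (cmp σ H.subtype) rfl nadd (fun g x => hcm g.1 x) fun χ => ?_
    have hee := Ech_idem nadd χ
    have hce : ∀ g, σ g * Ech n χ = Ech n χ * σ g := fun g => comm_Ech χ (hcm g)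
    have hadj : Adj ω (Ech n χ) (Ech n χ) := by
      refine Adj.ech (AddEquiv.refl _) (fun x => ?_) fun _ => rfl
      have h1 := h.adj' (Additive.toMul x).1
      rw [map_inv, (Additive.toMul x).2.2, inv_inv] at h1
      exact h1
    have h1 : cutS σ (Ech n χ) hee hce 1 = Ech n χ := zero_mul_Ech nadd χ
    have h2 : cutS σ (Ech n χ) hee hce b = χ (Additive.ofMul ⟨b, hb, hτ⟩) • Ech n χ :=
      n_mul_Ech nadd χ (Additive.ofMul ⟨b, hb, hτ⟩)
    have h3 := hX _ (h.cut _ hee hce hadj)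
    have h4 : EvS (cutS σ (Ech n χ) hee hce '' insert b X) (cutS σ (Ech n χ) hee hce 1) := by
      refine h3.of_comm fun a ha ha' hs => ?_
      rintro _ ⟨g, hg | hg, rfl⟩
      · rw [h1] at ha ha'
        rw [hg, h2, smul_mul_assoc, mul_smul_comm, ha, ha']
      · exact hs _ ⟨g, hg, rfl⟩
    have h5 := EvS.closure _ h4
    rw [h1] at h5
    refine h5.mono ?_
    rintro _ ⟨g, rfl⟩
    exact ⟨g.1, g.2, rfl⟩
  refine EvS.mono key ?_
  rintro _ ⟨g, hg, rfl⟩
  exact ⟨⟨g, Subgroup.subset_closure hg⟩, rfl⟩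

end CL.TOr
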