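/-
Project TO: the algebra generated by an automorphism of odd order in characteristic 2, as an abstract commutative
algebra acting faithfully.
-/
import Cfsg.Agent.TOr.Defs

set_option autoImplicit false
set_option linter.unusedSectionVars false

namespace CL.TOr

open Module

universe u

/-- `A` is the algebra generated by `b`, which acts as `β`. -/
structure GA {E W : Type*} [Field E] [AddCommGroup W] [Module E W] (b : W ≃ₗ[E] W) {A : Type*} [CommRing A]
    [Algebra E A] [Module A W] (β : A) : Prop where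
  act : ∀ x, b x = β • x
  gen : Algebra.adjoin E {β} = ⊤
  faith : ∀ r : A, (∀ x : W, r • x = 0) → r = 0

open scoped IsMulCommutative in
theorem exists_GA {E W : Type u} [Field E] [Finite E] [AddCommGroup W] [Module E W] [FiniteDimensional E W]
    (b : W ≃ₗ[E] W) : ∃ (A : Type u) (_ : CommRing A) (_ : Finite A) (_ : Algebra E A) (_ : Module A W)
      (_ : IsScalarTower E A W) (β : A), GA b β := by
  have : Finite (End E W) := Module.finite_of_finite E
  refine ⟨Algebra.adjoin E {(b : End E W)}, inferInstance, inferInstance, inferInstance, inferInstance, inferInstance,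
    ⟨b, Algebra.self_mem_adjoin_singleton _ _⟩, fun _ => rfl, ?_, fun r hr => Subtype.ext (LinearMap.ext hr)⟩
  apply Subalgebra.map_injective (f := Subalgebra.val _) Subtype.val_injective
  rw [AlgHom.map_adjoin, Set.image_singleton, Algebra.map_top, Subalgebra.range_val]
  rfl

section

variable {E W : Type*} [Field E] [AddCommGroup W] [Module E W]

/-- the kernel of the multiplication by `r`. -/
def kr (E W : Type*) [Field E] [AddCommGroup W] [Module E W] {A : Type*} [CommRing A] [Algebra E A] [Module A W]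
    [IsScalarTower E A W] (r : A) : Submodule E W where
  carrier := {x | r • x = 0}
  add_mem' {x y} hx hy := by
    simp only [Set.mem_ofPred_eq] at *
    rw [smul_add, hx, hy, add_zero]
  zero_mem' := smul_zero r
  smul_mem' c x hx := by
    simp only [Set.mem_ofPred_eq] at *
    rw [smul_comm, hx, smul_zero]

variable {A : Type*} [CommRing A] [Algebra E A] [Module A W] [IsScalarTower E A W] {b : W ≃ₗ[E] W} {β : A}

theorem mem_kr {r : A} {x : W} : x ∈ kr E W r ↔ r • x = 0 := Iff.rfl

theorem isCompl_kr {p q : A} (h1 : p + q = 1) (h2 : p * q = 0) : IsCompl (kr E W p) (kr E W q) := by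
  refine ⟨Submodule.disjoint_def.2 fun x hp hq => ?_, codisjoint_iff.2 (eq_top_iff.2 fun x _ => ?_)⟩
  · rw [← one_smul A x, ← h1, add_smul, mem_kr.1 hp, mem_kr.1 hq, add_zero]
  · refine Submodule.mem_sup.2 ⟨q • x, ?_, p • x, ?_, by rw [← add_smul, add_comm, h1, one_smul]⟩
    · rw [mem_kr, smul_smul, h2, zero_smul]
    · rw [mem_kr, smul_smul, mul_comm, h2, zero_smul]

theorem two_eq_zero_alg (E A : Type*) [Field E] [CharP E 2] [CommRing A] [Algebra E A] : (2 : A) = 0 := by
  rw [← map_ofNat (algebraMap E A) 2, CharTwo.two_eq_zero, map_zero]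

theorem add_self_mod (E : Type*) [Field E] [CharP E 2] [Module E W] (x : W) : x + x = 0 := by
  rw [← two_smul E x, CharTwo.two_eq_zero, zero_smul]

namespace GA

variable (h : GA b β)
include h

theorem ind {P : A → Prop} (h1 : P β) (h2 : ∀ c : E, P (algebraMap E A c)) (h3 : ∀ r s, P r → P s → P (r + s))
    (h4 : ∀ r s, P r → P s → P (r * s)) (r : A) : P r :=
  Algebra.adjoin_induction (s := {β}) (p := fun r _ => P r) (fun _ hx => (Set.mem_singleton_iff.1 hx).symm ▸ h1) h2
    (fun r s _ _ => h3 r s) (fun r s _ _ => h4 r s) (h.gen.ge Algebra.mem_top)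

theorem ext {r s : A} (H : ∀ x : W, r • x = s • x) : r = s :=
  sub_eq_zero.1 (h.faith _ fun x => by rw [sub_smul, H, sub_self])

theorem kr_ne_bot {p q : A} (h2 : p * q = 0) (hq : q ≠ 0) : kr E W p ≠ ⊥ := fun e =>
  hq (h.faith q fun x => (Submodule.mem_bot E).1 (e ▸ mem_kr.2 (by rw [smul_smul, h2, zero_smul])))

theorem comm {g : W ≃ₗ[E] W} (hg : g * b = b * g) (r : A) : ∀ x, g (r • x) = r • g x := by
  refine h.ind (P := fun r => ∀ x, g (r • x) = r • g x) (fun x => ?_) (fun c x => ?_) (fun r s hr hs x => ?_)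
    (fun r s hr hs x => ?_) r
  · rw [← h.act, ← h.act]
    exact LinearEquiv.congr_fun hg x
  · rw [algebraMap_smul, algebraMap_smul, map_smul]
  · rw [add_smul, add_smul, map_add, hr, hs]
  · rw [mul_smul, mul_smul, hr, hs]

theorem comm_kr {g : W ≃ₗ[E] W} (hg : g * b = b * g) (r : A) : ∀ x ∈ kr E W r, g x ∈ kr E W r := fun x hx => by
  rw [mem_kr, ← h.comm hg, mem_kr.1 hx, map_zero]

/-- an automorphism commuting with `b` is `A`-linear. -/
def lin {g : W ≃ₗ[E] W} (hg : g * b = b * g) : W ≃ₗ[A] W :=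
  { g.toAddEquiv with map_smul' := h.comm hg }

theorem lin_apply {g : W ≃ₗ[E] W} (hg : g * b = b * g) (x : W) : h.lin hg x = g x := rfl

theorem pow_act (n : ℕ) (x : W) : (b ^ n) x = β ^ n • x := by
  induction n generalizing x with
  | zero => simp
  | succ n ih => rw [pow_succ, LinearEquiv.mul_apply, ih, h.act, pow_succ, mul_smul]

theorem pow_orderOf : β ^ orderOf b = 1 := h.ext fun x => by
  rw [← h.pow_act, pow_orderOf_eq_one, one_smul]
  rfl

variable [Finite E] [CharP E 2] [Finite A]

theorem sq_inj (hb : Odd (orderOf b)) : Function.Injective fun r : A => r ^ 2 := by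
  refine Finite.injective_iff_surjective.2 (h.ind ?_ (fun c => ?_) ?_ ?_)
  · obtain ⟨k, hk⟩ := hb
    exact ⟨β ^ (k + 1), by
      change (β ^ (k + 1)) ^ 2 = β
      rw [← pow_mul, show (k + 1) * 2 = orderOf b + 1 by omega, pow_succ, h.pow_orderOf, one_mul]⟩
  · obtain ⟨d, rfl⟩ := isSquare_of_charTwo' c
    exact ⟨algebraMap E A d, by simp [sq]⟩
  · rintro _ _ ⟨r, rfl⟩ ⟨s, rfl⟩
    exact ⟨r + s, by linear_combination (r * s) * two_eq_zero_alg E A⟩
  · rintro _ _ ⟨r, rfl⟩ ⟨s, rfl⟩
    exact ⟨r * s, mul_pow _ _ _⟩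

theorem regular (hb : Odd (orderOf b)) (r : A) : ∃ u, r * u * r = r := by
  obtain ⟨n, hn, h1⟩ := (h.sq_inj hb).mem_periodicPts r
  have h2 : r ^ 2 ^ n = r := by simpa only [Function.IsPeriodicPt, Function.IsFixedPt, pow_iterate] using h1
  obtain ⟨m, hm⟩ := Nat.exists_eq_add_of_le (show 2 ^ 1 ≤ 2 ^ n from Nat.pow_le_pow_right two_pos hn)
  exact ⟨r ^ m, by rw [hm] at h2; linear_combination h2⟩

theorem field_or_idem (hb : Odd (orderOf b)) [Nontrivial W] :
    IsField A ∨ ∃ p : A, p * p = p ∧ p ≠ 0 ∧ p ≠ 1 := by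
  refine or_iff_not_imp_right.2 fun H => ⟨⟨0, 1, fun e => ?_⟩, mul_comm, fun {r} hr => ?_⟩
  · obtain ⟨x, hx⟩ := exists_ne (0 : W)
    exact hx (by rw [← one_smul A x, ← e, zero_smul])
  · obtain ⟨u, hu⟩ := h.regular hb r
    refine ⟨u, by_contra fun h1 => H ⟨r * u, by rw [← mul_assoc, hu], fun h0 => hr ?_, h1⟩⟩
    rw [← hu, h0, zero_mul]

end GA

end

section Field

variable {E W : Type*} [Field E] [Finite E] [AddCommGroup W] [Module E W] [FiniteDimensional E W] {A : Type*} [Field A]
  [Finite A] [Algebra E A] [Module A W] [IsScalarTower E A W] {b : W ≃ₗ[E] W} {β : A}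

theorem GA.finrank_lt (h : GA b β) (hb : ¬ ∃ c : E, ∀ x, b x = c • x) : finrank A W < finrank E W := by
  have : FiniteDimensional A W := Module.Finite.of_restrictScalars_finite E A W
  have h1 : 0 < finrank A W := by
    rw [Module.finrank_pos_iff]
    by_contra h0
    rw [not_nontrivial_iff_subsingleton] at h0
    exact hb ⟨0, fun _ => Subsingleton.elim _ _⟩
  have h2 : finrank E A ≠ 1 := fun h2 => by
    obtain ⟨c, hc⟩ := (finrank_eq_one_iff_of_nonzero' (1 : A) one_ne_zero).1 h2 β
    exact hb ⟨c, fun x => by rw [h.act, ← hc, smul_one_smul]⟩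
  have h3 : 0 < finrank E A := finrank_pos
  rw [← finrank_mul_finrank E A W]
  nlinarith [show 2 ≤ finrank E A by omega]

theorem trace_ext {a a' : A} (H : ∀ c, Algebra.trace E A (c * a) = Algebra.trace E A (c * a')) : a = a' :=
  sub_eq_zero.1 ((traceForm_nondegenerate E A).1 _ fun c => by
    rw [Algebra.traceForm_apply, mul_comm, mul_sub, map_sub, H, sub_self])

theorem exists_trace_repr (f : A →ₗ[E] E) : ∃ a : A, ∀ c, Algebra.trace E A (c * a) = f c :=
  ⟨((Algebra.traceForm E A).toDual (traceForm_nondegenerate E A)).symm f, fun c => by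
    rw [mul_comm, ← Algebra.traceForm_apply, LinearMap.BilinForm.apply_toDual_symm_apply]⟩

end Field

end CL.TOr
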