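/-
Project TO, step GLD: the centraliser of an element of odd order of `GL(W)` in characteristic 2.
-/
import Cfsg.Agent.TOr.Tri0

set_option autoImplicit false
set_option linter.unusedSectionVars false

namespace CL.TOr

open Module

universe u

theorem exists_sym (E W : Type*) [Field E] [AddCommGroup W] [Module E W] [FiniteDimensional E W] :
    ∃ β : LinearMap.BilinForm E W, Sym β := by
  classical
  let v := Module.finBasis E W
  let β : LinearMap.BilinForm E W := ∑ i, (LinearMap.mul E E).compl₁₂ (v.coord i) (v.coord i)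
  have hβ : ∀ x y, β x y = ∑ i, v.repr x i * v.repr y i := fun x y => by simp [β, LinearMap.sum_apply]
  refine ⟨β, fun x y => by simp only [hβ, mul_comm], fun x hx => v.ext_elem fun i => ?_⟩
  simpa [hβ, Finsupp.single_apply] using hx (v i)

/-- restriction of scalars -/
def resHom (E A W : Type*) [Field E] [Field A] [Algebra E A] [AddCommGroup W] [Module E W] [Module A W]
    [IsScalarTower E A W] : (W ≃ₗ[A] W) →* (W ≃ₗ[E] W) where
  toFun g := g.restrictScalars E
  map_one' := rfl
  map_mul' _ _ := rfl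

theorem gl_field {E W A : Type u} [Field E] [Finite E] [CharP E 2] [AddCommGroup W] [Module E W]
    [FiniteDimensional E W] [Field A] [Finite A] [Algebra E A] [Module A W] [IsScalarTower E A W] {b : W ≃ₗ[E] W}
    {β : A} (h : GA b β) (hb : ¬ ∃ c : E, ∀ x, b x = c • x) :
    ∃ (E' : Type u) (_ : Field E') (_ : Finite E') (_ : CharP E' 2) (_ : Module E' W) (_ : FiniteDimensional E' W)
      (φ : (W ≃ₗ[E'] W) →* (W ≃ₗ[E] W)) (β' : LinearMap.BilinForm E' W) (β : LinearMap.BilinForm E W),
      finrank E' W < finrank E W ∧ (∀ g x, φ g x = g x) ∧ (∀ g : W ≃ₗ[E] W, g * b = b * g → g ∈ φ.range) ∧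
      Sym β' ∧ Sym β ∧ ∀ x y x' y', β' x y = β' x' y' → β x y = β x' y' := by
  have : FiniteDimensional A W := Module.Finite.of_restrictScalars_finite E A W
  obtain ⟨γ, hγ⟩ := exists_sym A W
  let δ : LinearMap.BilinForm E W := LinearMap.mk₂ E (fun x y => Algebra.trace E A (γ x y)) (by simp)
    (fun c x y => by rw [← algebraMap_smul A c x, map_smul, LinearMap.smul_apply, algebraMap_smul, map_smul])
    (by simp) (fun c x y => by rw [← algebraMap_smul A c y, map_smul, algebraMap_smul, map_smul])
  have hδ : ∀ x y, δ x y = Algebra.trace E A (γ x y) := fun _ _ => rfl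
  refine ⟨A, inferInstance, inferInstance, charP_of_injective_algebraMap (algebraMap E A).injective 2, inferInstance,
    inferInstance, resHom E A W, γ, δ, h.finrank_lt hb, fun _ _ => rfl, fun g hg => ⟨h.lin hg, rfl⟩, hγ,
    ⟨fun x y => by rw [hδ, hδ, hγ.symm], fun x hx => hγ.nd x fun y => trace_ext (E := E) fun c => ?_⟩,
    fun x y x' y' e => by rw [hδ, hδ, e]⟩
  rw [← smul_eq_mul, ← map_smul, ← hδ, hx, mul_zero, map_zero]

theorem glDich : GLDich.{u} := by
  intro E W _ _ _ _ _ _ b hb
  refine or_iff_not_imp_left.2 fun hs => ?_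
  have : Nontrivial W := by
    by_contra h0
    rw [not_nontrivial_iff_subsingleton] at h0
    exact hs ⟨0, fun _ => Subsingleton.elim _ _⟩
  obtain ⟨A, _, _, _, _, _, β, h⟩ := exists_GA b
  rcases h.field_or_idem hb with hA | ⟨p, h1, h2, h3⟩
  · exact Or.inr (@gl_field E W A _ _ _ _ _ _ hA.toField _ ‹_› ‹_› ‹_› b β h hs)
  · have h4 : p * (1 - p) = 0 := by rw [mul_sub, h1, mul_one, sub_self]
    exact Or.inl ⟨_, _, isCompl_kr (add_sub_cancel _ _) h4, h.kr_ne_bot h4 (sub_ne_zero.2 h3.symm),
      h.kr_ne_bot (by rwa [mul_comm]) h2, fun g hg => ⟨h.comm_kr hg _, h.comm_kr hg _⟩⟩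

end CL.TOr
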