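/-
Project TO: the induction for the general linear groups.
-/
import Cfsg.Agent.TOr.Small
import Cfsg.Agent.TOr.Rep
import Cfsg.Agent.TOr.Tri1

set_option autoImplicit false

namespace CL.TOr

open Module

universe u

theorem glAll_of
    (hpar : ∀ (E W : Type u) [Field E] [Finite E] [AddCommGroup W] [Module E W] [FiniteDimensional E W],
      (∀ A : Submodule E W, A ≠ ⊤ → GLTO E A) → ParEv E W)
    (hmir : ∀ (E W : Type u) [Field E] [Finite E] [CharP E 2] [AddCommGroup W] [Module E W] [FiniteDimensional E W],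
      ParEv E W → MirEv E W) : GLAll.{u} := by
  suffices H : ∀ (n : ℕ) (E W : Type u) [Field E] [Finite E] [CharP E 2] [AddCommGroup W] [Module E W]
      [FiniteDimensional E W], finrank E W = n → GLTO E W from fun E W _ _ _ _ _ _ => H _ E W rfl
  intro n
  induction n using Nat.strong_induction_on with
  | _ n ih =>
  intro E W _ _ _ _ _ _ hn β hβ τ hτ
  have := finite_equiv (E := E) (X := W)
  rcases subsingleton_or_nontrivial W with hW | hW
  · have h1 : ∀ g h : W ≃ₗ[E] W, g = h := fun g h => LinearEquiv.ext fun _ => Subsingleton.elim _ _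
    exact TO.of_comm (fun _ _ => h1 _ _) fun _ => h1 _ _
  have IH : ∀ A : Submodule E W, A ≠ ⊤ → GLTO E A := fun A hA => ih _ (hn ▸ Submodule.finrank_lt hA) E A rfl
  refine TO.of_brauer (hτ.invol hβ) fun V _ _ _ σ ω h b S hb hS hc => ?_
  rcases glDich E W b hb with ⟨c, e⟩ | ⟨A, C, hAC, hA, hC, e⟩ | ⟨E', _, _, _, _, _, φ, β', β₀, lt, e1, e2, s1, s2, e3⟩
  · obtain ⟨v, -, v0, hv⟩ := exists_fix_mod (MonoidHom.id _) S hS (bot_lt_top (α := Submodule E W))
      (fun g _ a ha => by simp [(Submodule.mem_bot E).1 ha]) fun _ _ _ _ => trivial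
    have e' : ∀ y, b⁻¹ (c • y) = y := fun y => by rw [← e]; exact b.symm_apply_apply y
    refine (ev_central h (b := b) (fun g => LinearEquiv.ext fun x => by simp [e]) (hτ.eq_of hβ fun x y => ?_)
      fun σ' h' => hmir E W (hpar E W IH) β hβ τ hτ V σ' ω h' v fun e => v0 (e ▸ Submodule.zero_mem _)).mono
      (Set.image_mono (Set.insert_subset_insert fun g hg => sub_eq_zero.1 ((Submodule.mem_bot E).1 (hv g hg))))
    rw [e, map_smul, LinearMap.smul_apply, ← map_smul, ← map_smul, e']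
  · obtain ⟨βA, sA⟩ := exists_sym0 (E := E) (W := A)
    obtain ⟨βC, sC⟩ := exists_sym0 (E := E) (W := C)
    obtain ⟨β', s', e'⟩ := sym_glue hAC sA sC
    obtain ⟨τA, tA⟩ := exists_invT sA
    obtain ⟨τC, tC⟩ := exists_invT sC
    obtain ⟨τ', t'⟩ := exists_invT s'
    obtain ⟨k, k1, k2⟩ := hβ.twist s' hτ t'
    have := finite_equiv (E := E) (X := A)
    have := finite_equiv (E := E) (X := C)
    have m : ∀ g, g * b = b * g → g ∈ (glue A C hAC).range := fun g hg =>
      ⟨_, glue_resEq hAC g (e g hg).1 (e g hg).2⟩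
    refine ((TO.prod (tA.invol sA) (tC.invol sC) (IH A (fun e => hC ?_) βA sA τA tA)
      (IH C (fun e => hA ?_) βC sC τC tC)).ev_tw h (glue A C hAC) k k1 fun g => ?_).mono
      (Set.image_mono (Set.insert_subset (m b rfl) fun g hg => m g (hc g hg)))
    · exact eq_bot_of_top_isCompl (e ▸ hAC)
    · exact eq_bot_of_isCompl_top (e ▸ hAC)
    · rw [← k2, IsInvT.glue hAC s' e' tA tC t']; rfl
  · obtain ⟨τ₁, t₁⟩ := exists_invT s1
    obtain ⟨τ₀, t₀⟩ := exists_invT s2
    obtain ⟨k, k1, k2⟩ := hβ.twist s2 hτ t₀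
    refine ((ih _ (hn ▸ lt) E' W rfl β' s1 τ₁ t₁).ev_tw h φ k k1 fun g => ?_).mono
      (Set.image_mono (Set.insert_subset (e2 b rfl) fun g hg => e2 g (hc g hg)))
    rw [← k2]
    exact (t₀.eq_of s2 fun x y => e3 _ _ _ _ (by rw [e1, e1, t₁])).symm

end CL.TOr
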