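/-
Project TO, step MIR: the stabiliser of a vector in `GL(W)` acts evenly.
-/
import Cfsg.Agent.TOr.Small
import Cfsg.Agent.TOr.Rep

set_option autoImplicit false
set_option linter.unusedSectionVars false

namespace CL.TOr.Mir

open Module

universe u

section Lin

variable {E W : Type*} [Field E] [AddCommGroup W] [Module E W] {n : ℕ} (b : Basis (Fin n) E W)

open Classical in
/-- the coordinate projection -/
noncomputable def pr (s : ℕ → Prop) : End E W := b.constr E fun j => if s j then b j else 0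

/-- basis vectors -/
noncomputable def bb (k : ℕ) : W := if h : k < n then b ⟨k, h⟩ else 0

/-- coordinates -/
noncomputable def cc (k : ℕ) : W →ₗ[E] E := if h : k < n then b.coord ⟨k, h⟩ else 0

noncomputable abbrev P (k : ℕ) : End E W := pr b (· < k)
noncomputable abbrev R (k : ℕ) : End E W := pr b (· = k)
noncomputable abbrev T (k : ℕ) : End E W := pr b (k ≤ ·)

variable {b} {s t : ℕ → Prop}

theorem pr_pos {j : Fin n} (h : s j) : pr b s (b j) = b j := by rw [pr, Basis.constr_basis, if_pos h]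

theorem pr_neg {j : Fin n} (h : ¬ s j) : pr b s (b j) = 0 := by rw [pr, Basis.constr_basis, if_neg h]

theorem pr_pr (h : ∀ j, t j → s j) (x : W) : pr b s (pr b t x) = pr b t x :=
  LinearMap.congr_fun (show pr b s ∘ₗ pr b t = pr b t from b.ext fun j => by
    by_cases hj : t j
    · rw [LinearMap.comp_apply, pr_pos hj, pr_pos (h j hj)]
    · rw [LinearMap.comp_apply, pr_neg hj, map_zero]) x

theorem pr_pr' (h : ∀ j, s j → t j) (x : W) : pr b s (pr b t x) = pr b s x :=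
  LinearMap.congr_fun (show pr b s ∘ₗ pr b t = pr b s from b.ext fun j => by
    by_cases hj : t j
    · rw [LinearMap.comp_apply, pr_pos hj]
    · rw [LinearMap.comp_apply, pr_neg hj, map_zero, pr_neg fun e => hj (h j e)]) x

theorem pr_pr0 (h : ∀ j, s j → ¬ t j) (x : W) : pr b s (pr b t x) = 0 :=
  LinearMap.congr_fun (show pr b s ∘ₗ pr b t = 0 from b.ext fun j => by
    by_cases hj : t j
    · rw [LinearMap.comp_apply, pr_pos hj, pr_neg fun e => h j e hj, LinearMap.zero_apply]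
    · rw [LinearMap.comp_apply, pr_neg hj, map_zero, LinearMap.zero_apply]) x

theorem pr_congr (h : ∀ j < n, s j ↔ t j) : pr b s = pr b t := b.ext fun j => by
  by_cases hj : s j
  · rw [pr_pos hj, pr_pos ((h j j.2).1 hj)]
  · rw [pr_neg hj, pr_neg fun e => hj ((h j j.2).2 e)]

theorem P_succ (k : ℕ) (x : W) : P b (k + 1) x = P b k x + R b k x :=
  LinearMap.congr_fun (show P b (k + 1) = P b k + R b k from b.ext fun j => by
    rcases lt_trichotomy j.1 k with h | h | h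
    · rw [LinearMap.add_apply, pr_pos (by omega), pr_pos h, pr_neg h.ne, add_zero]
    · rw [LinearMap.add_apply, pr_pos (by omega), pr_neg (by omega), pr_pos h, zero_add]
    · rw [LinearMap.add_apply, pr_neg (by omega), pr_neg (by omega), pr_neg h.ne', add_zero]) x

theorem P_add_T (k : ℕ) : P b k + T b k = 1 := b.ext fun j => by
  rcases lt_or_ge j.1 k with h | h
  · rw [LinearMap.add_apply, pr_pos h, pr_neg (by omega), add_zero, End.one_apply]
  · rw [LinearMap.add_apply, pr_neg (by omega), pr_pos h, zero_add, End.one_apply]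

theorem T_eq (k : ℕ) (x : W) : T b k x = x - P b k x := eq_sub_of_add_eq' (LinearMap.congr_fun (P_add_T k) x)

theorem P_zero (x : W) : P b 0 x = 0 :=
  LinearMap.congr_fun (show P b 0 = 0 from b.ext fun _ => pr_neg (by omega)) x

theorem P_top (x : W) : P b n x = x :=
  LinearMap.congr_fun (show P b n = 1 from b.ext fun j => pr_pos j.2) x

theorem pr_bb {k : ℕ} (h : s k) : pr b s (bb b k) = bb b k := by
  unfold bb
  split_ifs with hk
  exacts [pr_pos h, map_zero _]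

theorem pr_bb0 {k : ℕ} (h : ¬ s k) : pr b s (bb b k) = 0 := by
  unfold bb
  split_ifs with hk
  exacts [pr_neg h, map_zero _]

theorem bb_ne {k : ℕ} (h : k < n) : bb b k ≠ 0 := by
  rw [bb, dif_pos h]
  exact b.ne_zero _

theorem cc_bb {k : ℕ} (h : k < n) : cc b k (bb b k) = 1 := by simp [cc, bb, h]

theorem R_app (k : ℕ) (x : W) : R b k x = cc b k x • bb b k :=
  LinearMap.congr_fun (show R b k = (cc b k).smulRight (bb b k) from b.ext fun j => by
    by_cases hj : j.1 = k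
    · subst hj
      rw [pr_pos (s := (· = j.1)) rfl]
      simp [cc, bb]
    · rw [pr_neg hj]
      by_cases h : k < n
      · simp [cc, h, Fin.ext_iff, hj]
      · simp [cc, h]) x

theorem cc_R (k : ℕ) (x : W) : cc b k (R b k x) = cc b k x := by
  by_cases h : k < n
  · rw [R_app, map_smul, cc_bb h, smul_eq_mul, mul_one]
  · simp [cc, h]

theorem memU {f : End E W} : f ∈ Ug (pr b s) (pr b t) ↔ (∀ x, pr b s (f x) = f x) ∧ ∀ x, f (pr b t x) = f x := by
  refine ⟨fun h => ?_, fun h => LinearMap.ext fun x => (h.1 _).trans (h.2 x)⟩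
  have h1 : ∀ x, pr b s (f (pr b t x)) = f x := LinearMap.congr_fun (mem_Ug.1 h)
  exact ⟨fun x => by rw [← h1, pr_pr fun _ => id], fun x => by rw [← h1, pr_pr fun _ => id, h1]⟩

theorem pr_mul0 (h : ∀ j, s j → ¬ t j) : pr b s * pr b t = 0 :=
  LinearMap.ext fun x => by rw [End.mul_apply, pr_pr0 h, LinearMap.zero_apply]

theorem pr_idem : pr b s * pr b s = pr b s := LinearMap.ext fun x => by rw [End.mul_apply, pr_pr fun _ => id]

theorem TP {k l : ℕ} (h : l ≤ k) : T b k * P b l = 0 := pr_mul0 (by omega)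

theorem TR {k l : ℕ} (h : l < k) : T b k * R b l = 0 := pr_mul0 (by omega)

theorem un_inv {p q f : End E W} (hqp : q * p = 0) (hf : f ∈ Ug p q) : (un f)⁻¹ = un (-f) :=
  inv_eq_of_mul_eq_one_right (by rw [← un_add hqp hf (neg_mem hf), add_neg_cancel, un_zero])

variable (b) in
/-- the abelian groups -/
noncomputable abbrev U (k : ℕ) : AddSubgroup (End E W) := Ug (R b k) (T b (k + 1))

variable (b) in
/-- the chain of subgroups -/
def M (k : ℕ) : Subgroup (W ≃ₗ[E] W) where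
  carrier := {g | (∀ x, g (P b (k + 1) x) = P b (k + 1) x) ∧ ∀ x, P b k (g x) = P b k x}
  mul_mem' {g h} hg hh := ⟨fun x => by rw [LinearEquiv.mul_apply, hh.1, hg.1],
    fun x => by rw [LinearEquiv.mul_apply, hg.2, hh.2]⟩
  one_mem' := ⟨fun _ => rfl, fun _ => rfl⟩
  inv_mem' {g} hg := ⟨fun x => g.injective ((g.apply_symm_apply _).trans (hg.1 x).symm),
    fun x => (hg.2 _).symm.trans (congrArg _ (g.apply_symm_apply x))⟩

variable {k : ℕ}

theorem M.fix {g : W ≃ₗ[E] W} (hg : g ∈ M b k) (h : ∀ j, s j → j < k + 1) (x : W) : g (pr b s x) = pr b s x := by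
  rw [← pr_pr (s := (· < k + 1)) h, hg.1]

theorem M_succ_le : M b (k + 1) ≤ M b k := fun g hg =>
  ⟨M.fix hg (by omega), fun x => by rw [← pr_pr' (t := (· < k + 1)) (by omega), hg.2, pr_pr' (by omega)]⟩

theorem U.kill {p f : End E W} (hf : f ∈ Ug p (T b k)) (h : ∀ j, s j → j < k) (x : W) : f (pr b s x) = 0 := by
  rw [← mem_Ug.1 hf, End.mul_apply, pr_pr0 fun j h1 h2 => absurd (h j h2) (by omega), map_zero]

theorem un_U {f : End E W} (hf : f ∈ U b k) (x : W) : un f x = x + f x := un_apply (Ug_mul (TR k.lt_succ_self) hf hf) x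

theorem un_mem {f : End E W} (hf : f ∈ U b k) : un f ∈ M b k :=
  ⟨fun x => by rw [un_U hf, U.kill hf fun _ => id, add_zero],
    fun x => by rw [un_U hf, map_add, ← (memU.1 hf).1, pr_pr0 (by omega), add_zero]⟩

theorem mul_mem_U {f : End E W} (hf : f ∈ U b k) {g : W ≃ₗ[E] W} (hg : g ∈ M b k) : f * (g : End E W) ∈ U b k :=
  memU.2 ⟨fun x => (memU.1 hf).1 _, fun x => by
    rw [End.mul_apply, End.mul_apply, T_eq, map_sub, map_sub, LinearEquiv.coe_coe, hg.1, U.kill hf fun _ => id, sub_zero]⟩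

/-- the action of `M k` on `U k` -/
noncomputable def act (g : M b k) : U b k →+ U b k :=
  AddMonoidHom.mk' (fun f => ⟨f.1 * (g⁻¹.1 : End E W), mul_mem_U f.2 g⁻¹.2⟩) fun _ _ => Subtype.ext (add_mul _ _ _)

theorem act_one (f : U b k) : act 1 f = f := Subtype.ext (mul_one f.1)

theorem act_mul (g h : M b k) (f : U b k) : act (g * h) f = act g (act h f) := Subtype.ext (by
  change f.1 * _ = f.1 * _ * _
  rw [mul_inv_rev, mul_assoc]
  rfl)

/-- the action as an equivalence -/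
noncomputable def actE (g : M b k) : U b k ≃+ U b k where
  toFun := act g
  invFun := act g⁻¹
  left_inv f := by rw [← act_mul, inv_mul_cancel, act_one]
  right_inv f := by rw [← act_mul, mul_inv_cancel, act_one]
  map_add' := map_add _

theorem mul_un (g : M b k) (f : U b k) : g.1 * un f.1 = un (act g f).1 * g.1 := LinearEquiv.ext fun x => by
  rw [LinearEquiv.mul_apply, LinearEquiv.mul_apply, un_U f.2, un_U (act g f).2, map_add, ← (memU.1 f.2).1,
    M.fix g.2 (by omega), (memU.1 f.2).1]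
  exact congrArg (fun y => g.1 x + f.1 y) (g.1.symm_apply_apply x).symm

/-- the characters of `U k` -/
noncomputable def lam (ψ : AddChar E ℂ) (b : Basis (Fin n) E W) (k : ℕ) (w : W) : AddChar (U b k) ℂ :=
  ψ.compAddMonoidHom (AddMonoidHom.mk' (fun f => cc b k (f.1 w)) fun _ _ => map_add _ _ _)

theorem lam_apply (ψ : AddChar E ℂ) (w : W) (f : U b k) : lam ψ b k w f = ψ (cc b k (f.1 w)) := rfl

/-- the element of `U k` attached to a linear form -/
noncomputable def ofD (b : Basis (Fin n) E W) (k : ℕ) : Dual E W →+ U b k :=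
  AddMonoidHom.mk' (fun φ => ⟨(φ ∘ₗ T b (k + 1)).smulRight (bb b k), memU.2
    ⟨fun x => by simp [pr_bb], fun x => congrArg (fun y => φ y • bb b k) (pr_pr (fun _ => id) x)⟩⟩)
    fun _ _ => Subtype.ext (by ext; simp [add_smul])

theorem cc_ofD (h : k < n) (φ : Dual E W) (x : W) : cc b k ((ofD b k φ).1 x) = φ (T b (k + 1) x) := by
  simp [ofD, cc_bb h]

theorem split_U {g : End E W} (hg : g ∈ Ug (P b (k + 1)) (T b (k + 1))) :
    R b k * g ∈ U b k ∧ P b k * g ∈ Ug (P b k) (T b (k + 1)) ∧ un g = un (R b k * g) * un (P b k * g) := by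
  have h := memU.1 hg
  have key : ∀ s t : ℕ → Prop, (∀ j, t j → s j) → pr b t * g ∈ Ug (pr b s) (T b (k + 1)) := fun s t e =>
    memU.2 ⟨fun x => pr_pr e (g x), fun x => congrArg (pr b t) (h.2 x)⟩
  refine ⟨key _ _ fun _ => id, key _ _ fun _ => id, ?_⟩
  rw [← un_add (TP (k := k + 1) le_rfl) (key _ _ (by omega)) (key _ _ (by omega))]
  exact congrArg un (LinearMap.ext fun x => by rw [← h.1, P_succ, add_comm]; rfl)

variable [Finite E] [FiniteDimensional E W] {ψ : AddChar E ℂ}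

theorem exists_lam (hψ : ψ ≠ 1) (χ : AddChar (U b k) ℂ) : ∃ w, T b (k + 1) w = w ∧ χ = lam ψ b k w := by
  obtain ⟨l, hl⟩ := char_dual hψ (χ.compAddMonoidHom (ofD b k))
  obtain ⟨w, rfl⟩ := (evalEquiv E W).surjective l
  refine ⟨T b (k + 1) w, pr_pr (fun _ => id) w, AddChar.ext _ _ fun f => ?_⟩
  have h1 : f = ofD b k (cc b k ∘ₗ f.1) := Subtype.ext (LinearMap.ext fun x => by
    change _ = cc b k (f.1 (T b (k + 1) x)) • bb b k
    rw [← R_app, (memU.1 f.2).1, (memU.1 f.2).2])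
  rw [lam_apply, (memU.1 f.2).2]
  exact (congrArg χ h1).trans (hl _)

theorem stab (hψ : ψ ≠ 1) (h : k < n) (g : M b k)
    (hg : ∀ f, lam ψ b k (bb b (k + 1)) (act g f) = lam ψ b k (bb b (k + 1)) f) :
    ∃ f : U b k, ∃ g' ∈ M b (k + 1), g.1 = un f.1 * g' := by
  have h1 : T b (k + 1) (g.1.symm (bb b (k + 1))) = bb b (k + 1) := by
    refine Eq.trans (eval_apply_injective E (psi_inj hψ fun φ => ?_)) (pr_bb (s := (k + 1 ≤ ·)) le_rfl)
    exact (congrArg ψ (cc_ofD h φ _)).symm.trans ((hg (ofD b k φ)).trans (congrArg ψ (cc_ofD h φ _)))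
  have h2 : R b k * (1 - (g⁻¹.1 : End E W)) ∈ U b k := memU.2 ⟨fun x => pr_pr (fun _ => id) _, fun x => by
    simp only [End.mul_apply, LinearMap.sub_apply, End.one_apply, LinearEquiv.coe_coe, T_eq, map_sub, g⁻¹.2.1]
    abel⟩
  have h3 : ∀ x, (un (-(R b k * (1 - (g⁻¹.1 : End E W)))) * g.1 : W ≃ₗ[E] W) x = g.1 x - R b k (g.1 x - x) := fun x => by
    rw [LinearEquiv.mul_apply, un_U (neg_mem h2), sub_eq_add_neg (g.1 x)]
    exact congrArg (fun y => g.1 x + -R b k (g.1 x - y)) (g.1.symm_apply_apply x)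
  have h4 : g.1 (bb b (k + 1)) = bb b (k + 1) - R b k (g.1.symm (bb b (k + 1))) := by
    have h5 : P b k (g.1.symm (bb b (k + 1))) = 0 := (g⁻¹.2.2 _).trans (pr_bb0 (by omega))
    rw [T_eq, P_succ, h5, zero_add] at h1
    conv_lhs => rw [← h1, map_sub, LinearEquiv.apply_symm_apply, M.fix g.2 (by omega)]
  refine ⟨⟨_, h2⟩, un (-(R b k * (1 - (g⁻¹.1 : End E W)))) * g.1, ⟨fun x => ?_, fun x => ?_⟩, ?_⟩
  · rw [P_succ, map_add, (mul_mem (un_mem (neg_mem h2)) g.2).1, R_app, map_smul, h3, h4, sub_sub_cancel_left, map_neg,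
      pr_pr fun _ => id, sub_neg_eq_add, sub_add_cancel]
  · rw [h3, map_sub, pr_pr (by omega), P_succ, g.2.2, map_sub, P_succ]
    abel
  · rw [← un_inv (TR k.lt_succ_self) h2, mul_inv_cancel_left]

end Lin

section Ring

variable {E W : Type*} [Field E] [AddCommGroup W] [Module E W] [Finite (End E W)] {n : ℕ} {b : Basis (Fin n) E W}
  {A : Type*} [Ring A] [Algebra ℂ A] {ψ : AddChar E ℂ} {σ : (W ≃ₗ[E] W) →ₙ* A} {k : ℕ}

/-- the chain of idempotents -/
noncomputable def ee (ψ : AddChar E ℂ) (b : Basis (Fin n) E W) (σ : (W ≃ₗ[E] W) →ₙ* A) : ℕ → A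
  | 0 => σ 1
  | k + 1 => Ech (fun f : U b k => σ (un f.1) * ee ψ b σ k) (lam ψ b k (bb b (k + 1)))

/-- the representation of `U k` -/
noncomputable abbrev nn (ψ : AddChar E ℂ) (b : Basis (Fin n) E W) (σ : (W ≃ₗ[E] W) →ₙ* A) (k : ℕ) (f : U b k) : A :=
  σ (un f.1) * ee ψ b σ k

/-- the basic properties -/
structure Gd (σ : (W ≃ₗ[E] W) →ₙ* A) (H : Subgroup (W ≃ₗ[E] W)) (e : A) : Prop where
  idem : e * e = e
  one : σ 1 * e = e
  comm : ∀ g ∈ H, σ g * e = e * σ g

theorem Gd.nadd (h : Gd σ (M b k) (ee ψ b σ k)) (f g : U b k) : nn ψ b σ k (f + g) = nn ψ b σ k f * nn ψ b σ k g := by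
  rw [nn, nn, nn, AddSubgroup.coe_add, un_add (TR k.lt_succ_self) f.2 g.2, map_mul, mul_assoc, mul_assoc,
    ← mul_assoc (ee ψ b σ k), ← h.comm _ (un_mem g.2), mul_assoc, h.idem]

theorem Gd.zero (h : Gd σ (M b k) (ee ψ b σ k)) : nn ψ b σ k 0 = ee ψ b σ k := by
  rw [nn, AddSubgroup.coe_zero, un_zero, h.one]

theorem Gd.mul_Ech (h : Gd σ (M b k) (ee ψ b σ k)) (χ : AddChar (U b k) ℂ) :
    ee ψ b σ k * Ech (nn ψ b σ k) χ = Ech (nn ψ b σ k) χ := by
  simpa only [h.zero] using zero_mul_Ech h.nadd χ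

theorem Gd.comm_Ech (h : Gd σ (M b k) (ee ψ b σ k)) {χ : AddChar (U b k) ℂ} (g : M b k) (hg : ∀ f, χ (act g f) = χ f) :
    σ g.1 * Ech (nn ψ b σ k) χ = Ech (nn ψ b σ k) χ * σ g.1 :=
  mul_Ech_equiv (actE g) (fun f => by
    rw [nn, ← mul_assoc, ← map_mul, mul_un, map_mul, mul_assoc, h.comm _ g.2, ← mul_assoc]
    rfl) hg

theorem gd : ∀ k, Gd σ (M b k) (ee ψ b σ k)
  | 0 => ⟨sig_one_mul σ 1, sig_one_mul σ 1, fun g _ => (sig_mul_one σ g).trans (sig_one_mul σ g).symm⟩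
  | k + 1 => by
    have h := gd k
    refine ⟨Ech_idem h.nadd _, ?_, fun g hg => h.comm_Ech ⟨g, M_succ_le hg⟩ fun f => ?_⟩
    · change σ 1 * Ech (nn ψ b σ k) _ = Ech (nn ψ b σ k) _
      rw [← h.mul_Ech, ← mul_assoc, h.one]
    · have h1 := M.fix (inv_mem hg) (s := (· = k + 1)) (by omega) (bb b (k + 1))
      rw [pr_bb (s := (· = k + 1)) rfl] at h1
      exact congrArg (fun y => ψ (cc b k (f.1 y))) h1

theorem ee_mul {i : ℕ} (h : i ≤ k) : ee ψ b σ i * ee ψ b σ k = ee ψ b σ k := by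
  induction h with
  | refl => exact (gd i).idem
  | @step k _ ih =>
    have h1 : ee ψ b σ k * ee ψ b σ (k + 1) = ee ψ b σ (k + 1) := (gd k).mul_Ech _
    rw [← h1, ← mul_assoc, ih]

theorem un_mul_Ech (f : U b k) (χ : AddChar (U b k) ℂ) :
    σ (un f.1) * Ech (nn ψ b σ k) χ = χ f • Ech (nn ψ b σ k) χ := by
  rw [← n_mul_Ech (gd k).nadd, nn, mul_assoc, (gd k).mul_Ech]

theorem un_mul_ee {i : ℕ} (h : i < k) (f : U b i) :
    σ (un f.1) * ee ψ b σ k = lam ψ b i (bb b (i + 1)) f • ee ψ b σ k := by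
  rw [← ee_mul (i := i + 1) h, ← mul_assoc, ← smul_mul_assoc]
  exact congrArg (· * _) (un_mul_Ech f _)

theorem comm_ee {y : A} (h1 : σ 1 * y = y * σ 1) : ∀ k, (∀ i < k, ∀ f : U b i, σ (un f.1) * y = y * σ (un f.1)) →
    y * ee ψ b σ k = ee ψ b σ k * y
  | 0, _ => h1.symm
  | k + 1, h => comm_Ech _ fun f => by
    rw [← mul_assoc, ← h k k.lt_succ_self, mul_assoc, comm_ee h1 k fun i hi => h i (by omega), mul_assoc]

theorem un_val_of {m : ℕ} (hm : m < k)
    (H : ∀ g ∈ Ug (P b m) (T b (m + 1)), σ (un g) * ee ψ b σ k = ee ψ b σ k) {g : End E W}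
    (hg : g ∈ Ug (P b (m + 1)) (T b (m + 1))) :
    σ (un g) * ee ψ b σ k = ψ (cc b m (g (bb b (m + 1)))) • ee ψ b σ k := by
  obtain ⟨h1, h2, h3⟩ := split_U hg
  rw [h3, map_mul, mul_assoc, H _ h2, un_mul_ee hm ⟨_, h1⟩, lam_apply, End.mul_apply, cc_R]

theorem un_triv : ∀ m ≤ k, ∀ g ∈ Ug (P b m) (T b (m + 1)), σ (un g) * ee ψ b σ k = ee ψ b σ k
  | 0, _, g, hg => by
    rw [show g = 0 from LinearMap.ext fun x => ((memU.1 hg).1 x).symm.trans (P_zero _), un_zero, (gd k).one]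
  | m + 1, hm, g, hg => by
    have h := memU.1 hg
    rw [un_val_of hm (un_triv m (by omega)) (memU.2 ⟨h.1, fun x => by rw [← h.2, pr_pr' (by omega), h.2]⟩), ← h.2,
      pr_bb0 (by omega), map_zero, map_zero, AddChar.map_zero_eq_one, one_smul]

variable [Finite E] [FiniteDimensional E W]

theorem step (hψ : ψ ≠ 1) (hk : k + 1 < n)
    (hP : EvS (σ '' {g | T b (k + 1) * (g : End E W) * P b (k + 1) = 0 ∧
      T b (k + 1) * ((g⁻¹ : W ≃ₗ[E] W) : End E W) * P b (k + 1) = 0})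
      (Ech (fun f : Ug (P b (k + 1)) (T b (k + 1)) => σ (un (f : End E W))) 1))
    (IH : EvS ((fun g => σ g * ee ψ b σ (k + 1)) '' M b (k + 1)) (ee ψ b σ (k + 1))) :
    EvS ((fun g => σ g * ee ψ b σ k) '' M b k) (ee ψ b σ k) := by
  have h : Gd σ (M b k) (ee ψ b σ k) := gd k
  have hE : ∀ (g : M b k) χ, σ g.1 * ee ψ b σ k * Ech (nn ψ b σ k) χ = σ g.1 * Ech (nn ψ b σ k) χ := fun g χ => by
    rw [mul_assoc, h.mul_Ech]
  have key := fourier (cutS (cmp σ (M b k).subtype) _ h.idem fun g => h.comm _ g.2) (n := nn ψ b σ k)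
    (h.zero.trans h.one.symm) h.nadd act act_one act_mul (fun g f => ?_) fun χ => ?_
  · rw [show cutS (cmp σ (M b k).subtype) _ h.idem (fun g => h.comm _ g.2) 1 = _ from h.one] at key
    refine key.mono ?_
    rintro _ ⟨g, hg, rfl⟩
    exact ⟨⟨g, hg⟩, rfl⟩
  · change σ g.1 * _ * (_ * _) = _ * _ * (σ g.1 * _)
    rw [mul_assoc, ← mul_assoc (ee ψ b σ k), ← h.comm _ (un_mem f.2), mul_assoc, h.idem, ← mul_assoc, ← map_mul, mul_un,
      map_mul, mul_assoc, mul_assoc, ← mul_assoc (ee ψ b σ k), ← h.comm _ g.2, mul_assoc, h.idem]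
  obtain ⟨w, hw, rfl⟩ := exists_lam hψ χ
  by_cases h0 : w = 0
  · have h1 : lam ψ b k w = 1 := AddChar.ext _ _ fun f => by simp [lam_apply, h0]
    rw [h1]
    have pu : ∀ i ≤ k, ∀ f ∈ U b i, T b (k + 1) * (un f : End E W) * P b (k + 1) = 0 := fun i hi f hf =>
      LinearMap.ext fun x => by
        rw [End.mul_apply, End.mul_apply, LinearEquiv.coe_coe, un_U hf, map_add, ← (memU.1 hf).1, pr_pr0 (by omega),
          pr_pr0 (by omega), add_zero, LinearMap.zero_apply]
    have pm : ∀ g ∈ M b k, T b (k + 1) * (g : End E W) * P b (k + 1) = 0 := fun g hg => LinearMap.ext fun x => by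
      rw [End.mul_apply, End.mul_apply, LinearEquiv.coe_coe, hg.1, pr_pr0 (by omega), LinearMap.zero_apply]
    have ca : ∀ a : A, (∀ s ∈ σ '' {g | T b (k + 1) * (g : End E W) * P b (k + 1) = 0 ∧
        T b (k + 1) * ((g⁻¹ : W ≃ₗ[E] W) : End E W) * P b (k + 1) = 0}, s * a = a * s) →
        Ech (nn ψ b σ k) 1 * a = a * Ech (nn ψ b σ k) 1 := fun a ha => by
      have h2 : ∀ i ≤ k, ∀ f : U b i, σ (un f.1) * a = a * σ (un f.1) := fun i hi f =>
        ha _ ⟨_, ⟨pu i hi _ f.2, un_inv (TR i.lt_succ_self) f.2 ▸ pu i hi _ (neg_mem f.2)⟩, rfl⟩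
      have h3 := comm_ee (ψ := ψ) (ha _ ⟨1, ⟨pm _ (one_mem _), pm _ (inv_mem (one_mem _))⟩, rfl⟩) k
        fun i hi => h2 i hi.le
      exact (comm_Ech _ fun f => by rw [nn, ← mul_assoc, ← h2 k le_rfl, mul_assoc, h3, mul_assoc]).symm
    refine ⟨1, 1, fun _ => rfl, hP.cut (Ech_idem h.nadd _) (Ech_mul_of_eigen _ fun g => ?_) (fun a _ _ => ca a) ?_⟩
    · obtain ⟨h2, h3, h4⟩ := split_U g.2
      rw [h4, map_mul, mul_assoc, ← h.mul_Ech, ← mul_assoc _ (ee ψ b σ k), un_triv k le_rfl _ h3, h.mul_Ech,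
        un_mul_Ech ⟨_, h2⟩]
      rfl
    · rintro a - - ha _ ⟨g, -, rfl⟩
      have h2 : σ g.1 * a = a * σ g.1 := ha _ ⟨_, ⟨pm _ g.2, pm _ (inv_mem g.2)⟩, rfl⟩
      change σ g.1 * _ * _ * _ = _ * (σ g.1 * _ * _)
      rw [hE, mul_assoc, ← mul_assoc _ a, ca a ha, mul_assoc, Ech_idem h.nadd, ← mul_assoc, h2, mul_assoc, mul_assoc,
        ← mul_assoc (Ech _ _), ← h.comm_Ech g fun _ => rfl, mul_assoc, Ech_idem h.nadd]
  · obtain ⟨g, g1, g2, g3⟩ := exists_move (q := T b (k + 1)) pr_idem hw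
      (pr_bb (s := (k + 1 ≤ ·)) (k := k + 1) le_rfl) h0 (bb_ne hk)
    rw [sub_eq_of_eq_add (P_add_T _).symm] at g2 g3
    refine ⟨⟨g, LinearMap.congr_fun g2, fun x => ?_⟩, lam ψ b k (bb b (k + 1)), fun f => ?_, IH.of_smul ?_⟩
    · have := congrArg (P b k) (LinearMap.congr_fun g3 x)
      rwa [End.mul_apply, pr_pr' (by omega), pr_pr' (by omega)] at this
    · exact congrArg (fun y => ψ (cc b k (f.1 y))) (g.symm_apply_eq.2 g1.symm)
    · rintro _ ⟨g, hg, rfl⟩
      obtain ⟨f, g', hg', e⟩ := stab hψ (by omega) g hg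
      refine ⟨lam ψ b k (bb b (k + 1)) f, _, ⟨g', hg', rfl⟩, (hE g _).trans ?_⟩
      change σ g.1 * ee ψ b σ (k + 1) = _ • (_ * _)
      rw [e, map_mul, mul_assoc, (gd (k + 1)).comm _ hg', ← mul_assoc, un_mul_ee k.lt_succ_self, smul_mul_assoc]

end Ring

section Base

variable {E W : Type*} [Field E] [AddCommGroup W] [Module E W] [FiniteDimensional E W] [Finite (End E W)] {k : ℕ}
  {b : Basis (Fin (k + 1)) E W} {β : LinearMap.BilinForm E W} {τ : (W ≃ₗ[E] W) →* (W ≃ₗ[E] W)} {ψ : AddChar E ℂ}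
  {V : Type} [AddCommGroup V] [Module ℂ V] [FiniteDimensional ℂ V] {σ : (W ≃ₗ[E] W) →ₙ* End ℂ V}
  {ω : LinearMap.BilinForm ℂ V}

theorem base (hβ : Sym β) (hb : ∀ x y, β x y = ∑ i, b.coord i x * b.coord (Fin.revPerm i) y) (hτ : IsInvT β τ)
    (h : Skew τ σ ω) : EvS ((fun g => σ g * ee ψ b σ k) '' M b k) (ee ψ b σ k) := by
  have h1 : ∀ i j, i + j = k → ∀ y, β (bb b i) y = cc b j y := fun i j e y => by
    have hi : i < k + 1 := by omega
    have hj : j < k + 1 := by omega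
    rw [hb, bb, cc, dif_pos hi, dif_pos hj, Finset.sum_eq_single ⟨i, hi⟩ (fun l _ hl => by
      simp [hl.symm]) (by simp), show Fin.revPerm ⟨i, hi⟩ = (⟨j, hj⟩ : Fin (k + 1)) from
      Fin.ext (by simp; omega)]
    simp
  have h2 : ∀ (s t : ℕ → Prop), (∀ i j, i + j = k → (s i ↔ t j)) → ∀ x y, β (pr b s x) y = β x (pr b t y) :=
    fun s t e x y => by
      refine LinearMap.congr_fun₂ (show β.comp (pr b s) LinearMap.id = β.comp LinearMap.id (pr b t) from
        LinearMap.BilinForm.ext_basis b fun i j => ?_) x y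
      rw [LinearMap.BilinForm.comp_apply, LinearMap.BilinForm.comp_apply, LinearMap.id_apply, LinearMap.id_apply]
      by_cases hij : i.1 + j.1 = k
      · by_cases hs : s i
        · rw [pr_pos hs, pr_pos ((e _ _ hij).1 hs)]
        · rw [pr_neg hs, pr_neg fun ht => hs ((e _ _ hij).2 ht), map_zero, map_zero, LinearMap.zero_apply]
      · have h0 : β (b i) (b j) = 0 := by
          have := h1 i (k - i) (by omega) (b j)
          rw [bb, dif_pos i.2, cc, dif_pos (by omega)] at this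
          rw [this]
          simp [Finsupp.single_apply, Fin.ext_iff]
          omega
        by_cases hs : s i <;> by_cases ht : t j <;> simp [pr_pos, pr_neg, hs, ht, h0]
  have h3 : ∀ i < k, ∀ f : U b i, σ (τ (un f.1)⁻¹) * ee ψ b σ k = lam ψ b i (bb b (i + 1)) f • ee ψ b σ k :=
    fun i hi f => by
      obtain ⟨m, hm⟩ : ∃ m, i + (m + 1) = k := ⟨k - i - 1, by omega⟩
      let f' : End E W := (τ (un f.1)⁻¹ : End E W) - 1
      have a : ∀ x y, β (f.1 x) y = β x (f' y) := fun x y => by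
        have := hτ (un f.1) x (τ (un f.1)⁻¹ y)
        rw [← LinearEquiv.mul_apply, ← map_mul, mul_inv_cancel, map_one, un_U f.2, map_add, LinearMap.add_apply] at this
        exact (eq_sub_of_add_eq' this).trans (map_sub _ _ _).symm
      have hf : f' ∈ Ug (P b (m + 1)) (T b (m + 1)) := memU.2 ⟨fun y => hβ.ext fun x => by
        rw [← h2 (i + 1 ≤ ·) _ (by omega), ← a, (memU.1 f.2).2, a], fun y => hβ.ext fun x => by
        rw [← a, ← h2 (· < i + 1) _ (by omega), ← (memU.1 f.2).1, pr_pr (by omega), (memU.1 f.2).1, a]⟩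
      have e : τ (un f.1)⁻¹ = un f' := LinearEquiv.ext fun x => by
        rw [un_apply (Ug_mul (TP le_rfl) hf hf)]
        simp [f']
      rw [e, un_val_of (by omega) (un_triv m (by omega)) hf, ← h1 (i + 1) m (by omega), ← a, hβ.symm,
        h1 (m + 1) i (by omega), lam_apply]
  have h4 : ∀ i ≤ k, ∃ e', Adj ω (ee ψ b σ i) e' ∧ e' * ee ψ b σ k = ee ψ b σ k := fun i hi => by
    induction i with
    | zero => exact ⟨_, h.adj_one, (gd k).one⟩
    | succ i ih =>
      obtain ⟨e', a1, a2⟩ := ih (by omega)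
      exact ⟨_, Adj.ech (n' := fun f : U b i => e' * σ (τ (un f.1)⁻¹)) (AddEquiv.refl _)
        (fun f => (h.adj' _).mul a1) fun _ => rfl,
        Ech_mul_of_eigen _ fun f => by rw [mul_assoc, h3 i hi, mul_smul_comm, a2]⟩
  obtain ⟨e', a1, a2⟩ := h4 k le_rfl
  refine (TO.ev_cut (TO.of_comm (K := Unit) (τ := MonoidHom.id _) (fun _ _ => rfl) fun _ => rfl) h 1
    (fun _ => (map_one τ).symm) (gd k).idem (gd k).one (fun _ => (gd k).comm _ (one_mem _))
    (a1.self_of_absorb h.skew a2)).mono ?_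
  rintro _ ⟨g, hg, rfl⟩
  exact ⟨1, congrArg (σ · * _) (LinearEquiv.ext fun x => by simpa [P_top] using (hg.1 x).symm)⟩

end Base

end CL.TOr.Mir

namespace CL.TOr

open Module Mir

universe u

theorem mir_ev {E W : Type u} [Field E] [Finite E] [CharP E 2] [AddCommGroup W] [Module E W] [FiniteDimensional E W]
    (hP : ParEv E W) : MirEv E W := by
  intro β hβ τ hτ V _ _ _ σ ω h v hv
  have : Finite (End E W) := Module.finite_of_finite E
  have : Nontrivial W := nontrivial_of_ne v 0 hv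
  obtain ⟨m, hm⟩ : ∃ m, finrank E W = m + 1 := Nat.exists_eq_succ_of_ne_zero finrank_pos.ne'
  obtain ⟨g, hg, -⟩ := exists_move (q := (1 : End E W)) (mul_one _) rfl rfl ((finBasisOfFinrankEq E W hm).ne_zero 0) hv
  obtain ⟨b, hb⟩ : ∃ b : Basis (Fin (m + 1)) E W, bb b 0 = v := ⟨(finBasisOfFinrankEq E W hm).map g, hg⟩
  obtain ⟨ψ, hψ, -⟩ := exists_psi (RingHom.id E) fun _ => rfl
  have key : ∀ d k, k + d = m → EvS ((fun g => σ g * ee ψ b σ k) '' M b k) (ee ψ b σ k) := fun d => by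
    induction d with
    | zero =>
      rintro k rfl
      obtain ⟨β', h1, h2⟩ := sym_basis b Fin.revPerm Fin.rev_rev
      obtain ⟨τ', h3⟩ := exists_invT h1
      obtain ⟨c, h4, h5⟩ := hβ.twist h1 hτ h3
      exact base h1 h2 h3 (h.twist c h4 h5)
    | succ d ih =>
      intro k hk
      refine step hψ (by omega) (hP β hβ τ hτ V σ ω h _ _ pr_idem pr_idem (pr_mul0 (by omega)) (TP le_rfl) (P_add_T _)
        (fun e => bb_ne (b := b) (k := 0) (by omega) ?_) fun e => bb_ne (b := b) (k := k + 1) (by omega) ?_)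
        (ih _ (by omega))
      · rw [← pr_bb (s := (· < k + 1)) (by omega)]
        exact LinearMap.congr_fun e _
      · rw [← pr_bb (s := (k + 1 ≤ ·)) le_rfl]
        exact LinearMap.congr_fun e _
  refine (key m 0 (zero_add m)).mono ?_
  rintro _ ⟨g, hg, rfl⟩
  refine ⟨g, ⟨fun x => ?_, fun x => by rw [P_zero, P_zero]⟩, sig_mul_one σ g⟩
  rw [P_succ, P_zero, zero_add, R_app, map_smul, hb, mem_fixv.1 hg]

end CL.TOr
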