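/-
Project TO: the Howlett–Lehrer theorem for `GL(W)`.
-/
import Cfsg.Agent.TOr.Defs

set_option autoImplicit false

namespace CL.TOr

open Module Finset

universe u

namespace HL

variable {R : Type*} [Ring R] [Fintype R] [DecidableEq R] {V : Type*} [AddCommGroup V] [Module ℂ V]
  (S : R →ₙ* End ℂ V)

structure Ort (p q : R) : Prop where
  pp : p * p = p
  qq : q * q = q
  pq : p * q = 0
  qp : q * p = 0

def UU (p q : R) : Finset R := univ.filter fun f => p * f * q = f

def Fx (p q : R) (v : V) : Prop := ∀ f, p * f * q = f → S (1 + f) v = v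

noncomputable def Es (p q : R) : End ℂ V := ∑ f ∈ UU p q, S (1 + f)

def mu (p : R) : ℕ := (univ.filter fun x => p * x = x).card

variable {S}

theorem mem_UU {p q f : R} : f ∈ UU p q ↔ p * f * q = f := by simp [UU]

omit [Fintype R] [DecidableEq R] in
theorem Ort.symm {p q : R} (h : Ort p q) : Ort q p := ⟨h.qq, h.pp, h.qp, h.pq⟩

omit [Fintype R] [DecidableEq R] in
theorem lf {p q f : R} (hp : p * p = p) (h : p * f * q = f) : p * f = f := by
  rw [← h, ← mul_assoc, ← mul_assoc, hp]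

omit [Fintype R] [DecidableEq R] in
theorem rt {p q f : R} (hq : q * q = q) (h : p * f * q = f) : f * q = f := by
  rw [← h, mul_assoc, hq]

omit [Fintype R] [DecidableEq R] in
theorem mk' {p q f : R} (h1 : p * f = f) (h2 : f * q = f) : p * f * q = f := by rw [h1, h2]

omit [Fintype R] [DecidableEq R] in
theorem zz {a b p q : R} (h1 : a * p = a) (h2 : q * b = b) (h : p * q = 0) : a * b = 0 := by
  rw [← h1, ← h2, mul_assoc, ← mul_assoc p, h, zero_mul, mul_zero]

omit [Fintype R] [DecidableEq R] in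
theorem Ort.left {p q p1 p2 : R} (h : Ort p q) (h' : Ort p1 p2) (e : p = p1 + p2) :
    p * p1 = p1 ∧ p1 * p = p1 ∧ Ort p1 q := by
  have a : p * p1 = p1 := by rw [e, add_mul, h'.pp, h'.qp, add_zero]
  have b : p1 * p = p1 := by rw [e, mul_add, h'.pp, h'.pq, add_zero]
  exact ⟨a, b, h'.pp, h.qq, zz b h.qq h.pq, zz h.qq a h.qp⟩

theorem mu_lt {p p1 p2 : R} (h' : Ort p1 p2) (e : p = p1 + p2) (h2 : p2 ≠ 0) : mu p1 < mu p := by
  refine card_lt_card ⟨fun x hx => ?_, fun h => h2 ?_⟩
  · simp only [mem_filter, mem_univ, true_and] at hx ⊢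
    rw [← hx, ← mul_assoc, e, add_mul, h'.pp, h'.qp, add_zero]
  · have : p2 ∈ univ.filter fun x => p * x = x := by
      simp only [mem_filter, mem_univ, true_and]
      rw [e, add_mul, h'.qq, h'.pq, zero_add]
    have := h this
    simp only [mem_filter, mem_univ, true_and] at this
    rw [← this, h'.pq]

theorem card_ne (p q : R) : ((UU p q).card : ℂ) ≠ 0 := by
  have : (UU p q).Nonempty := ⟨0, mem_UU.mpr (by simp)⟩
  exact_mod_cast this.card_pos.ne'

theorem Es_mul {p q h : R} (o : Ort p q) (hh : p * h * q = h) : Es S p q * S (1 + h) = Es S p q := by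
  rw [Es, sum_mul]
  refine sum_nbij' (fun f => f + h) (fun f => f - h) (fun f hf => ?_) (fun f hf => ?_) (fun f _ => by simp)
    (fun f _ => by simp) fun f hf => ?_
  · rw [mem_UU] at *; rw [mul_add, add_mul, hf, hh]
  · rw [mem_UU] at *; rw [mul_sub, sub_mul, hf, hh]
  · rw [mem_UU] at hf
    rw [← map_mul, add_mul, mul_add, mul_add, zz (rt o.qq hf) (lf o.pp hh) o.qp]
    congr 1; simp only [mul_one, one_mul]; abel

theorem mul_Es {p q h : R} (o : Ort p q) (hh : p * h * q = h) : S (1 + h) * Es S p q = Es S p q := by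
  rw [Es, mul_sum]
  refine sum_nbij' (fun f => f + h) (fun f => f - h) (fun f hf => ?_) (fun f hf => ?_) (fun f _ => by simp)
    (fun f _ => by simp) fun f hf => ?_
  · rw [mem_UU] at *; rw [mul_add, add_mul, hf, hh]
  · rw [mem_UU] at *; rw [mul_sub, sub_mul, hf, hh]
  · rw [mem_UU] at hf
    rw [← map_mul, add_mul, mul_add, mul_add, zz (rt o.qq hh) (lf o.pp hf) o.qp]
    congr 1; simp only [mul_one, one_mul]; abel

theorem Es_right {q p p1 p2 : R} (h : Ort p q) (h' : Ort p1 p2) (e : p = p1 + p2) :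
    Es S q p1 * Es S q p2 = Es S q p := by
  obtain ⟨a1, b1, o1⟩ := h.left h' e
  obtain ⟨a2, b2, o2⟩ := h.left h'.symm (e.trans (add_comm _ _))
  rw [Es, Es, sum_mul_sum, ← sum_product']
  refine sum_nbij' (fun x => x.1 + x.2) (fun f => (f * p1, f * p2)) (fun x hx => ?_) (fun f hf => ?_)
    (fun x hx => ?_) (fun f hf => ?_) fun x hx => ?_
  · simp only [mem_product, mem_UU] at hx ⊢
    refine mk' (by rw [mul_add, lf h.qq hx.1, lf h.qq hx.2]) ?_
    rw [add_mul, ← rt o1.pp hx.1, ← rt o2.pp hx.2, mul_assoc, mul_assoc, b1, b2]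
  · simp only [mem_product, mem_UU] at hf ⊢
    exact ⟨mk' (by rw [← mul_assoc, lf h.qq hf]) (by rw [mul_assoc, o1.pp]),
      mk' (by rw [← mul_assoc, lf h.qq hf]) (by rw [mul_assoc, o2.pp])⟩
  · simp only [mem_product, mem_UU] at hx
    ext
    · simp only; rw [add_mul, rt o1.pp hx.1, zz (rt o2.pp hx.2) o1.pp h'.qp, add_zero]
    · simp only; rw [add_mul, rt o2.pp hx.2, zz (rt o1.pp hx.1) o2.pp h'.pq, zero_add]
  · rw [mem_UU] at hf
    simp only; rw [← mul_add, ← e, rt h.pp hf]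
  · simp only [mem_product, mem_UU] at hx
    rw [← map_mul, add_mul, mul_add, mul_add, zz (rt o1.pp hx.1) (lf h.qq hx.2) o1.pq]
    congr 1; simp only [mul_one, one_mul]; abel

theorem Es_left {q p q1 q2 : R} (h : Ort q p) (h' : Ort q1 q2) (e : q = q1 + q2) :
    Es S q2 p * Es S q1 p = Es S q p := by
  obtain ⟨a1, b1, o1⟩ := h.left h' e
  obtain ⟨a2, b2, o2⟩ := h.left h'.symm (e.trans (add_comm _ _))
  rw [Es, Es, sum_mul_sum, ← sum_product']
  refine sum_nbij' (fun x => x.1 + x.2) (fun f => (q2 * f, q1 * f)) (fun x hx => ?_) (fun f hf => ?_)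
    (fun x hx => ?_) (fun f hf => ?_) fun x hx => ?_
  · simp only [mem_product, mem_UU] at hx ⊢
    refine mk' ?_ (by rw [add_mul, rt h.qq hx.1, rt h.qq hx.2])
    rw [mul_add, ← lf o2.pp hx.1, ← lf o1.pp hx.2, ← mul_assoc, ← mul_assoc, a1, a2]
  · simp only [mem_product, mem_UU] at hf ⊢
    exact ⟨mk' (by rw [← mul_assoc, o2.pp]) (by rw [mul_assoc, rt h.qq hf]),
      mk' (by rw [← mul_assoc, o1.pp]) (by rw [mul_assoc, rt h.qq hf])⟩
  · simp only [mem_product, mem_UU] at hx
    ext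
    · simp only; rw [mul_add, lf o2.pp hx.1, zz o2.pp (lf o1.pp hx.2) h'.qp, add_zero]
    · simp only; rw [mul_add, lf o1.pp hx.2, zz o1.pp (lf o2.pp hx.1) h'.pq, zero_add]
  · rw [mem_UU] at hf
    simp only; rw [← add_mul, add_comm, ← e, lf h.pp hf]
  · simp only [mem_product, mem_UU] at hx
    rw [← map_mul, add_mul, mul_add, mul_add, zz (rt h.qq hx.1) (lf o1.pp hx.2) o1.qp]
    congr 1; simp only [mul_one, one_mul]; abel

theorem Es_comm {p q g g' : R} (h1 : g * g' = 1) (h2 : g' * g = 1) (hp : p * g = g * p) (hq : q * g = g * q) :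
    Es S p q * S g = S g * Es S p q := by
  have hp' : p * g' = g' * p := by
    calc p * g' = g' * (g * p) * g' := by rw [← mul_assoc, h2, one_mul]
      _ = g' * p := by rw [← hp, mul_assoc, mul_assoc, h1, mul_one]
  have hq' : q * g' = g' * q := by
    calc q * g' = g' * (g * q) * g' := by rw [← mul_assoc, h2, one_mul]
      _ = g' * q := by rw [← hq, mul_assoc, mul_assoc, h1, mul_one]
  rw [Es, sum_mul, mul_sum]
  refine sum_nbij' (fun f => g' * f * g) (fun f => g * f * g') (fun f hf => ?_) (fun f hf => ?_) (fun f _ => ?_)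
    (fun f _ => ?_) fun f _ => ?_
  · rw [mem_UU] at *
    calc p * (g' * f * g) * q = (p * g') * f * (g * q) := by simp only [mul_assoc]
      _ = g' * (p * f * q) * g := by rw [hp', ← hq]; simp only [mul_assoc]
      _ = _ := by rw [hf]
  · rw [mem_UU] at *
    calc p * (g * f * g') * q = (p * g) * f * (g' * q) := by simp only [mul_assoc]
      _ = g * (p * f * q) * g' := by rw [hp, ← hq']; simp only [mul_assoc]
      _ = _ := by rw [hf]
  · calc g * (g' * f * g) * g' = (g * g') * f * (g * g') := by simp only [mul_assoc]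
      _ = f := by rw [h1, one_mul, mul_one]
  · calc g' * (g * f * g') * g = (g' * g) * f * (g' * g) := by simp only [mul_assoc]
      _ = f := by rw [h2, one_mul, mul_one]
  · rw [← map_mul, ← map_mul, add_mul, mul_add, ← mul_assoc, ← mul_assoc, h1, one_mul, mul_one, one_mul]

omit [Fintype R] [DecidableEq R] in
theorem Fx.conj {p q g g' : R} {v : V} (hv : Fx S p q v) (h1 : g * g' = 1) (h2 : g' * g = 1)
    (hp : p * g = g * p) (hq : q * g = g * q) : Fx S p q (S g v) := fun f hf => by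
  have hp' : p * g' = g' * p := by
    calc p * g' = g' * (g * p) * g' := by rw [← mul_assoc, h2, one_mul]
      _ = g' * p := by rw [← hp, mul_assoc, mul_assoc, h1, mul_one]
  have := hv (g' * f * g) (by
    calc p * (g' * f * g) * q = (p * g') * f * (g * q) := by simp only [mul_assoc]
      _ = g' * (p * f * q) * g := by rw [hp', ← hq]; simp only [mul_assoc]
      _ = _ := by rw [hf])
  have e : (1 + f) * g = g * (1 + g' * f * g) := by
    rw [add_mul, mul_add, ← mul_assoc, ← mul_assoc, h1, one_mul, mul_one, one_mul]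
  rw [← End.mul_apply, ← map_mul, e, map_mul, End.mul_apply, this]

theorem Es_apply (p q : R) (v : V) : Es S p q v = ∑ f ∈ UU p q, S (1 + f) v := by
  rw [Es, LinearMap.sum_apply]

theorem Fx.Es {p q a b : R} {v : V} (h : ∀ k, a * k * b = k → Fx S p q (S (1 + k) v)) : Fx S p q (Es S a b v) :=
  fun f hf => by
    rw [Es_apply, map_sum]
    exact sum_congr rfl fun k hk => h k (mem_UU.mp hk) f hf

/-- The statement for the pair `p, q`. -/
def St (S : R →ₙ* End ℂ V) (p q : R) : Prop := ∀ v : V, Fx S p q v → Es S q p v = 0 → v = 0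

theorem stepA {p q p1 p2 : R} (h : Ort p q) (h' : Ort p1 p2) (e : p = p1 + p2) (i1 : St S p1 q) (i2 : St S p2 q)
    {v : V} (hv : Fx S p q v) (h0 : Es S q p v = 0) (hk : Fx S p1 p2 v) : v = 0 := by
  obtain ⟨a1, b1, o1⟩ := h.left h' e
  obtain ⟨a2, b2, o2⟩ := h.left h'.symm (e.trans (add_comm _ _))
  refine i2 v (fun f hf => hv f (mk' (by rw [← lf o2.pp hf, ← mul_assoc, a2]) (rt h.qq hf))) (i1 _ ?_ ?_)
  · refine Fx.Es fun f hf k hk' => ?_
    have f1 := lf h.qq hf
    have f2 := rt o2.pp hf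
    have k1 := lf o1.pp hk'
    have k2 := rt h.qq hk'
    have fk : f * k = 0 := zz f2 k1 h'.qp
    have kk : k * k = 0 := zz k2 k1 o1.qp
    have e1 : (1 + k) * (1 + f) = (1 + f) * ((1 + k) * (1 + k * f)) := by
      have : (1 + f) * ((1 + k) * (1 + k * f)) =
          (1 + k) * (1 + f) + (k * k) * f + (f * k) * (1 + f) + (f * k) * (k * f) := by noncomm_ring
      rw [this, kk, fk]; simp
    rw [← End.mul_apply, ← map_mul, e1, map_mul, map_mul, End.mul_apply, End.mul_apply,
      hk (k * f) (mk' (by rw [← mul_assoc, k1]) (by rw [mul_assoc, f2])),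
      hv k (mk' (by rw [← k1, ← mul_assoc, a1]) k2)]
  · rw [← End.mul_apply, Es_right h h' e, h0]

theorem stepB {p q q1 q2 : R} (h : Ort p q) (h' : Ort q1 q2) (e : q = q1 + q2) (i1 : St S p q1) (i2 : St S p q2)
    {v : V} (hv : Fx S p q v) (h0 : Es S q p v = 0) (hk : Fx S q1 q2 v) : v = 0 := by
  obtain ⟨a1, b1, o1⟩ := h.symm.left h' e
  obtain ⟨a2, b2, o2⟩ := h.symm.left h'.symm (e.trans (add_comm _ _))
  refine i1 v (fun f hf => hv f (mk' (lf h.pp hf) (by rw [← rt o1.pp hf, mul_assoc, b1]))) (i2 _ ?_ ?_)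
  · refine Fx.Es fun f hf k hk' => ?_
    have f1 := lf o1.pp hf
    have f2 := rt h.pp hf
    have k1 := lf h.pp hk'
    have k2 := rt o2.pp hk'
    have kf : k * f = 0 := zz k2 f1 h'.qp
    have ff : f * f = 0 := zz f2 f1 o1.qp
    have e1 : (1 + k) * (1 + f) = (1 + f) * ((1 + k) * (1 + -(f * k))) := by
      have : (1 + f) * ((1 + k) * (1 + -(f * k))) =
          (1 + k) * (1 + f) - k * f - (f * f) * k - (1 + f) * (k * f) * k := by noncomm_ring
      rw [this, ff, kf]; simp
    rw [← End.mul_apply, ← map_mul, e1, map_mul, map_mul, End.mul_apply, End.mul_apply,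
      hk (-(f * k)) (mk' (by rw [mul_neg, ← mul_assoc, f1]) (by rw [neg_mul, mul_assoc, k2])),
      hv k (mk' k1 (by rw [← k2, mul_assoc, b2]))]
  · rw [← End.mul_apply, Es_left h.symm h' e, h0]

theorem kill {p q a b c : R} {v : V} (hv : Fx S p q v) (h0 : Es S q p v = 0) (o : Ort a b)
    (hc : ∀ k, a * k * b = k → p * k = k * p ∧ q * k = k * q)
    (i : ∀ w : V, Fx S p q w → Es S q p w = 0 → Fx S a b w → w = 0) (X : End ℂ V)
    (hX : ∀ k, a * k * b = k → X (S c v) = X (S c (S (1 + k) v))) : X (S c v) = 0 := by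
  have g : ∀ k, a * k * b = k → (1 + k) * (1 - k) = 1 ∧ (1 - k) * (1 + k) = 1 ∧ p * (1 + k) = (1 + k) * p ∧
      q * (1 + k) = (1 + k) * q := fun k hk => by
    have kk : k * k = 0 := zz (rt o.qq hk) (lf o.pp hk) o.qp
    refine ⟨?_, ?_, by rw [mul_add, add_mul, (hc k hk).1, mul_one, one_mul],
      by rw [mul_add, add_mul, (hc k hk).2, mul_one, one_mul]⟩
    · calc (1 + k) * (1 - k) = 1 - k * k := by noncomm_ring
        _ = 1 := by rw [kk, sub_zero]
    · calc (1 - k) * (1 + k) = 1 - k * k := by noncomm_ring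
        _ = 1 := by rw [kk, sub_zero]
  have hw : Es S a b v = 0 := by
    refine i _ (Fx.Es fun k hk => hv.conj (g k hk).1 (g k hk).2.1 (g k hk).2.2.1 (g k hk).2.2.2) ?_
      fun f hf => by rw [← End.mul_apply, mul_Es o hf]
    rw [Es_apply a b, map_sum]
    refine sum_eq_zero fun k hk => ?_
    have hk := mem_UU.mp hk
    rw [← End.mul_apply, Es_comm (g k hk).1 (g k hk).2.1 (g k hk).2.2.2 (g k hk).2.2.1, End.mul_apply, h0, map_zero]
  have : ((UU a b).card : ℂ) • X (S c v) = X (S c (Es S a b v)) := by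
    rw [Es_apply, map_sum, map_sum, ← sum_congr rfl fun k hk => hX k (mem_UU.mp hk), sum_const,
      Nat.cast_smul_eq_nsmul]
  rw [hw, map_zero, map_zero] at this
  exact (smul_eq_zero.mp this).resolve_left (card_ne a b)

theorem stepC (hreg : ∀ φ : R, ∃ ψ, φ * ψ * φ = φ) {p q : R} (h : Ort p q)
    (iA : ∀ p1 p2, Ort p1 p2 → p = p1 + p2 → p1 ≠ 0 → p2 ≠ 0 →
      ∀ w : V, Fx S p q w → Es S q p w = 0 → Fx S p1 p2 w → w = 0)
    (iB : ∀ q1 q2, Ort q1 q2 → q = q1 + q2 → q1 ≠ 0 → q2 ≠ 0 →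
      ∀ w : V, Fx S p q w → Es S q p w = 0 → Fx S q1 q2 w → w = 0)
    {v : V} (hv : Fx S p q v) (h0 : Es S q p v = 0) {φ : R} (hφ : q * φ * p = φ) (hne : φ ≠ 0) :
    Es S p q (S (1 + φ) v) = 0 := by
  obtain ⟨ψ0, h0'⟩ := hreg φ
  have f1 := lf h.qq hφ
  have f2 := rt h.pp hφ
  obtain ⟨ψ, s1, s2, a1, a2⟩ : ∃ ψ, p * ψ = ψ ∧ ψ * q = ψ ∧ φ * ψ * φ = φ ∧ ψ * φ * ψ = ψ := by
    refine ⟨p * ψ0 * φ * ψ0 * q, by simp only [← mul_assoc, h.pp], by simp only [mul_assoc, h.qq], ?_, ?_⟩
    · calc φ * (p * ψ0 * φ * ψ0 * q) * φ = (φ * p) * ψ0 * φ * ψ0 * (q * φ) := by simp only [mul_assoc]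
        _ = φ := by rw [f1, f2, h0', h0']
    · calc p * ψ0 * φ * ψ0 * q * φ * (p * ψ0 * φ * ψ0 * q)
          = p * ψ0 * (φ * ψ0 * (q * φ * p) * ψ0 * φ) * ψ0 * q := by simp only [mul_assoc]
        _ = _ := by rw [hφ, h0', h0']
  have ab : ∀ k, p * k * q = k → ∀ x : R, (1 + k) * (1 + φ) = x → Es S p q (S (1 + φ) v) = Es S p q (S x v) := by
    rintro k hk _ rfl
    rw [map_mul, End.mul_apply, ← End.mul_apply (Es S p q) (S (1 + k)), Es_mul h hk]
  have ss : ψ * ψ = 0 := zz s2 s1 h.qp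
  have ff : φ * φ = 0 := zz f2 f1 h.pq
  by_cases c1 : p - ψ * φ = 0
  · by_cases c2 : q - φ * ψ = 0
    · have c1 := (sub_eq_zero.mp c1).symm
      have c2 := (sub_eq_zero.mp c2).symm
      have : ((UU q p).card : ℂ) • Es S p q (S (1 + φ) v) = Es S p q (S ((1 + φ) * (1 - ψ)) (Es S q p v)) := by
        rw [Es_apply q p, map_sum, map_sum, Nat.cast_smul_eq_nsmul, ← sum_const]
        refine sum_congr rfl fun f hf => ?_
        have hf := mem_UU.mp hf
        have g1 := lf h.qq hf
        have g2 := rt h.pp hf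
        have φf : φ * f = 0 := zz f2 g1 h.pq
        have x1 : φ * ψ * f = f := by rw [c2, g1]
        have x2 : f * (ψ * φ) = f := by rw [c1, g2]
        rw [ab (-(ψ * f * ψ)) (mk' (by rw [mul_neg, ← mul_assoc, ← mul_assoc, s1]) (by rw [neg_mul, mul_assoc, s2]))
          ((1 + φ) * (1 - ψ) * (1 + f) * (1 + ψ)) ?_, map_mul, map_mul, End.mul_apply, End.mul_apply,
          hv ψ (mk' s1 s2)]
        have : (1 + φ) * (1 - ψ) * (1 + f) * (1 + ψ) = (1 + -(ψ * f * ψ)) * (1 + φ) - (1 + φ) * (ψ * ψ) +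
            (φ * f) * (1 + ψ) + (f - φ * ψ * f) * (1 + ψ) + ψ * (f * (ψ * φ) - f) := by noncomm_ring
        rw [this, ss, φf, x1, x2]; simp
      rw [h0, map_zero, map_zero] at this
      exact (smul_eq_zero.mp this).resolve_left (card_ne q p)
    · have o : Ort (φ * ψ) (q - φ * ψ) := by
        have y1 : φ * ψ * (φ * ψ) = φ * ψ := by rw [← mul_assoc, a1]
        have y2 : q * (φ * ψ) = φ * ψ := by rw [← mul_assoc, f1]
        have y3 : φ * ψ * q = φ * ψ := by rw [mul_assoc, s2]
        refine ⟨y1, ?_, ?_, ?_⟩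
        · rw [mul_sub, sub_mul, sub_mul, h.qq, y1, y2, y3]; abel
        · rw [mul_sub, y1, y3, sub_self]
        · rw [sub_mul, y1, y2, sub_self]
      have e : q = φ * ψ + (q - φ * ψ) := by abel
      obtain ⟨-, -, o1⟩ := h.symm.left o e
      obtain ⟨a3, b3, o2⟩ := h.symm.left o.symm (e.trans (add_comm _ _))
      refine kill hv h0 o (fun k hk => ?_) (iB _ _ o e (fun z => hne (by rw [← a1, z, zero_mul])) c2) _ fun k hk => ?_
      · have k1 := lf o.pp hk
        have k2 := rt o.qq hk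
        refine ⟨by rw [zz h.pp k1 o1.qp, zz k2 h.pp o2.pq], ?_⟩
        rw [← k1, ← mul_assoc, ← mul_assoc, f1, k1, ← k2, mul_assoc, b3]
      · have k1 := lf o.pp hk
        have k2 := rt o.qq hk
        have kφ : k * φ = 0 := by rw [← k2, mul_assoc, sub_mul, f1, a1, sub_self, mul_zero]
        have kψ : k * ψ = 0 := zz k2 s1 o2.pq
        have φk : φ * k = 0 := zz f2 k1 o1.qp
        have m : p * -(ψ * k) * q = -(ψ * k) :=
          mk' (by rw [mul_neg, ← mul_assoc, s1]) (by rw [neg_mul, ← k2, mul_assoc, mul_assoc, b3])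
        rw [ab _ m ((1 + φ) * (1 + k) * (1 + -(ψ * k))) ?_, map_mul, map_mul, End.mul_apply, End.mul_apply, hv _ m]
        have : (1 + φ) * (1 + k) * (1 + -(ψ * k)) = (1 + -(ψ * k)) * (1 + φ) + ψ * (k * φ) + φ * k +
            (k - φ * ψ * k) - (1 + φ) * (k * ψ) * k := by noncomm_ring
        rw [this, kφ, kψ, φk, k1]; simp
  · have o : Ort (p - ψ * φ) (ψ * φ) := by
      have y1 : ψ * φ * (ψ * φ) = ψ * φ := by rw [← mul_assoc, a2]
      have y2 : p * (ψ * φ) = ψ * φ := by rw [← mul_assoc, s1]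
      have y3 : ψ * φ * p = ψ * φ := by rw [mul_assoc, f2]
      refine ⟨?_, y1, ?_, ?_⟩
      · rw [mul_sub, sub_mul, sub_mul, h.pp, y1, y2, y3]; abel
      · rw [sub_mul, y1, y2, sub_self]
      · rw [mul_sub, y1, y3, sub_self]
    have e : p = (p - ψ * φ) + ψ * φ := by abel
    obtain ⟨a3, b3, o1⟩ := h.left o e
    obtain ⟨-, -, o2⟩ := h.left o.symm (e.trans (add_comm _ _))
    refine kill hv h0 o (fun k hk => ?_)
      (iA _ _ o e c1 (fun z => hne (by rw [← a1, mul_assoc, z, mul_zero]))) _ fun k hk => ?_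
    · have k1 := lf o.pp hk
      have k2 := rt o.qq hk
      refine ⟨?_, by rw [zz h.qq k1 o1.qp, zz k2 h.qq o2.pq]⟩
      rw [← k1, ← mul_assoc, a3, k1, ← k2, mul_assoc, mul_assoc, f2]
    · have k1 := lf o.pp hk
      have k2 := rt o.qq hk
      have φk : φ * k = 0 := by rw [← k1, ← mul_assoc, mul_sub, f2, ← mul_assoc, a1, sub_self, zero_mul]
      have kk : k * k = 0 := zz k2 k1 o.qp
      have m : p * (k * ψ) * q = k * ψ :=
        mk' (by rw [← k1, ← mul_assoc, ← mul_assoc, a3]) (by rw [mul_assoc, s2])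
      rw [ab _ m ((1 + φ) * (1 + k) * (1 + k * ψ)) ?_, map_mul, map_mul, End.mul_apply, End.mul_apply, hv _ m]
      have : (1 + φ) * (1 + k) * (1 + k * ψ) = (1 + k * ψ) * (1 + φ) + (k - k * (ψ * φ)) + (k * k) * ψ +
          (φ * k) * (1 + ψ + k * ψ) := by noncomm_ring
      rw [this, φk, kk, k2]; simp

theorem main (hreg : ∀ φ : R, ∃ ψ, φ * ψ * φ = φ) : ∀ (n : ℕ) (p q : R), mu p + mu q < n → Ort p q → St S p q
  | 0, _, _, hn, _ => absurd hn (Nat.not_lt_zero _)
  | n + 1, p, q, hn, h => fun v hv h0 => by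
    have key : ∀ φ, q * φ * p = φ → φ ≠ 0 → Es S p q (S (1 + φ) v) = 0 := fun φ hφ hne => by
      refine stepC hreg h (fun p1 p2 o e n1 n2 w a b c => ?_) (fun q1 q2 o e n1 n2 w a b c => ?_) hv h0 hφ hne
      · have l1 := mu_lt o e n2
        have l2 := mu_lt o.symm (e.trans (add_comm _ _)) n1
        exact stepA h o e (main hreg n p1 q (by omega) (h.left o e).2.2)
          (main hreg n p2 q (by omega) (h.left o.symm (e.trans (add_comm _ _))).2.2) a b c
      · have l1 := mu_lt o e n2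
        have l2 := mu_lt o.symm (e.trans (add_comm _ _)) n1
        exact stepB h o e (main hreg n p q1 (by omega) (h.symm.left o e).2.2.symm)
          (main hreg n p q2 (by omega) (h.symm.left o.symm (e.trans (add_comm _ _))).2.2.symm) a b c
    have e1 : Es S p q (Es S q p v) = ((UU p q).card : ℂ) • v := by
      rw [Es_apply q p, map_sum, sum_eq_single_of_mem 0 (mem_UU.mpr (by simp))
        fun φ hφ hne => key φ (mem_UU.mp hφ) hne, hv 0 (by simp), Es_apply,
        sum_congr rfl fun k hk => hv k (mem_UU.mp hk), sum_const, Nat.cast_smul_eq_nsmul]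
    rw [h0, map_zero] at e1
    exact (smul_eq_zero.mp e1.symm).resolve_left (card_ne p q)

end HL

theorem hlThm : HLThm.{u} := by
  intro E W _ _ _ _ _ V _ _ σ p q pp qq pq qp v hv h0
  classical
  have : Finite W := Module.finite_of_finite E
  have : Finite (End E W) := Finite.of_injective _ DFunLike.coe_injective
  have := Fintype.ofFinite (End E W)
  let S : End E W →ₙ* End ℂ V :=
    { toFun := fun x => if h : IsUnit x then σ (LinearMap.GeneralLinearGroup.generalLinearEquiv E W h.unit) else 0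
      map_mul' := fun x y => by
        by_cases hx : IsUnit x
        · by_cases hy : IsUnit y
          · rw [dif_pos hx, dif_pos hy, dif_pos (hx.mul hy), ← map_mul, ← map_mul]
            congr 2
            ext; simp
          · rw [dif_neg hy, dif_neg fun h => hy (isUnit_of_mul_isUnit_right h), mul_zero]
        · rw [dif_neg hx, dif_neg fun h => hx (isUnit_of_mul_isUnit_left h), zero_mul] }
  have hS : ∀ f : End E W, f * f = 0 → S (1 + f) = σ (un f) := fun f hf => by
    have hu : IsUnit (1 + f) := IsUnit.of_mul_eq_one (1 - f) (by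
      calc (1 + f) * (1 - f) = 1 - f * f := by noncomm_ring
        _ = 1 := by rw [hf, sub_zero])
    show (if h : IsUnit (1 + f) then _ else _) = _
    rw [dif_pos hu]
    congr 1
    ext x
    rw [un_apply hf]
    show (hu.unit : End E W) x = _
    simp
  have hreg : ∀ φ : End E W, ∃ ψ, φ * ψ * φ = φ := fun φ => by
    obtain ⟨g, hg⟩ := φ.rangeRestrict.exists_rightInverse_of_surjective φ.range_rangeRestrict
    obtain ⟨ψ, hψ⟩ := LinearMap.exists_extend g
    refine ⟨ψ, LinearMap.ext fun x => ?_⟩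
    have a := LinearMap.congr_fun hψ ⟨φ x, x, rfl⟩
    have b := congrArg Subtype.val (LinearMap.congr_fun hg ⟨φ x, x, rfl⟩)
    simp only [LinearMap.comp_apply, Submodule.subtype_apply, LinearMap.id_apply] at a b
    rw [End.mul_apply, End.mul_apply, a]
    exact b
  refine HL.main (S := S) hreg _ p q (Nat.lt_succ_self _) ⟨pp, qq, pq, qp⟩ v
    (fun f hf => by rw [hS f (Ug_mul qp hf hf)]; exact hv f hf) ?_
  have := Fintype.ofFinite (Ug q p)
  rw [Ech_eq, LinearMap.smul_apply, smul_eq_zero] at h0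
  have hc : (Nat.card (Ug q p) : ℂ) ≠ 0 := by exact_mod_cast Nat.card_pos.ne'
  have h1 := h0.resolve_left (inv_ne_zero hc)
  rw [← h1, HL.Es, sum_subtype (HL.UU q p) (p := fun f => f ∈ Ug q p) (fun f => HL.mem_UU)]
  congr 1
  exact sum_congr rfl fun f _ => by rw [hS _ (Ug_mul pq f.2 f.2)]; simp

end CL.TOr
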