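/-
Project TO: the parabolic step for `GL(W)`.
-/
import Cfsg.Agent.TOr.Defs2
import Cfsg.Agent.TOr.HL
import Cfsg.Agent.TOr.Rep

set_option autoImplicit false

namespace CL.TOr

open Module

universe u

section Aux

variable {E W : Type*} [Field E] [AddCommGroup W] [Module E W] {p q : End E W}

theorem glpar_T [FiniteDimensional E W] {β : LinearMap.BilinForm E W} {τ : (W ≃ₗ[E] W) →* (W ≃ₗ[E] W)} (hβ : Sym β)
    (hτ : IsInvT β τ) (hp : ∀ x y, β (p x) y = β x (p y)) (hq : ∀ x y, β (q x) y = β x (q y)) (hpq : p * q = 0)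
    (hqp : q * p = 0) {f : End E W} (hf : f ∈ Ug p q) : ∃ f' ∈ Ug q p, τ (un f)⁻¹ = un f' := by
  have h1 : ∀ x y, β x (((τ (un f)⁻¹ : W ≃ₗ[E] W) : End E W) y - y) = β (f x) y := fun x y => by
    have := hτ (un f)⁻¹ (un f x) y
    rw [← LinearEquiv.mul_apply, inv_mul_cancel, un_apply (Ug_mul hqp hf hf), map_add, LinearMap.add_apply] at this
    rw [map_sub]
    exact sub_eq_of_eq_add' this
  have h2 : ((τ (un f)⁻¹ : W ≃ₗ[E] W) : End E W) - 1 ∈ Ug q p := mem_Ug.2 (LinearMap.ext fun y => hβ.ext fun x => by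
    change β x (q (((τ (un f)⁻¹ : W ≃ₗ[E] W) : End E W) (p y) - p y)) =
      β x (((τ (un f)⁻¹ : W ≃ₗ[E] W) : End E W) y - y)
    rw [← hq, h1, ← hp, h1]
    exact congrArg (β · y) (LinearMap.congr_fun (mem_Ug.1 hf) x))
  exact ⟨_, h2, LinearEquiv.ext fun x => by rw [un_apply (Ug_mul hpq h2 h2)]; simp⟩

theorem glpar_conj (hqp : q * p = 0) (l : W ≃ₗ[E] W) (h1 : ∀ x, l (p x) = p (l x)) (h2 : ∀ x, l (q x) = q (l x))
    {f : End E W} (hf : f ∈ Ug p q) : ∃ f' ∈ Ug p q, l * un f = un f' * l := by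
  have h3 : (l : End E W) * f * (l.symm : End E W) ∈ Ug p q := mem_Ug.2 (LinearMap.ext fun y => by
    obtain ⟨y, rfl⟩ := l.surjective y
    change p (l (f (l.symm (q (l y))))) = l (f (l.symm (l y)))
    rw [← h2, l.symm_apply_apply, l.symm_apply_apply, ← h1]
    exact congrArg l (LinearMap.congr_fun (mem_Ug.1 hf) y))
  exact ⟨_, h3, LinearEquiv.ext fun x => by
    rw [LinearEquiv.mul_apply, LinearEquiv.mul_apply, un_apply (Ug_mul hqp h3 h3), un_apply (Ug_mul hqp hf hf)]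
    simp⟩

theorem glpar_comm [Finite (End E W)] {A : Type*} [Ring A] [Algebra ℂ A] (σ : (W ≃ₗ[E] W) →ₙ* A) (hqp : q * p = 0)
    (l : W ≃ₗ[E] W) (h1 : ∀ x, l (p x) = p (l x)) (h2 : ∀ x, l (q x) = q (l x)) :
    σ l * Ech (fun f : Ug p q => σ (un (f : End E W))) 1 = Ech (fun f : Ug p q => σ (un (f : End E W))) 1 * σ l := by
  have nadd : ∀ x y : Ug p q, σ (un ((x + y : Ug p q) : End E W)) = σ (un (x : End E W)) * σ (un (y : End E W)) :=
    fun x y => by rw [← map_mul, ← un_add hqp x.2 y.2]; rfl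
  have a := Ech_mul_of_eigen (n := fun f : Ug p q => σ (un (f : End E W))) 1
    (y := σ l * Ech (fun f : Ug p q => σ (un (f : End E W))) 1) fun f => by
      obtain ⟨f', hf', e⟩ := glpar_conj hqp l⁻¹ (fun x => l.injective (by
        obtain ⟨x, rfl⟩ := l.surjective x
        simp [← h1])) (fun x => l.injective (by
        obtain ⟨x, rfl⟩ := l.surjective x
        simp [← h2])) f.2
      have e' : un (f : End E W) * l = l * un f' := by
        rw [← inv_mul_eq_iff_eq_mul, ← mul_assoc, e, inv_mul_cancel_right]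
      rw [← mul_assoc, ← map_mul, e', map_mul, mul_assoc,
        n_mul_Ech (n := fun f : Ug p q => σ (un (f : End E W))) nadd 1 ⟨f', hf'⟩]
      simp
  have b := mul_Ech_of_eigen (n := fun f : Ug p q => σ (un (f : End E W))) 1
    (y := Ech (fun f : Ug p q => σ (un (f : End E W))) 1 * σ l) fun f => by
      obtain ⟨f', hf', e⟩ := glpar_conj hqp l h1 h2 f.2
      rw [mul_assoc, ← map_mul, e, map_mul, ← mul_assoc,
        Ech_mul_n (n := fun f : Ug p q => σ (un (f : End E W))) nadd 1 ⟨f', hf'⟩]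
      simp
  rw [← a, ← mul_assoc, b]

theorem glpar_dec (hp : p * p = p) (hq : q * q = q) (hpq : p * q = 0) (hqp : q * p = 0) (hs : p + q = 1)
    (g : W ≃ₗ[E] W) (h1 : q * (g : End E W) * p = 0) (h2 : q * ((g⁻¹ : W ≃ₗ[E] W) : End E W) * p = 0) :
    ∃ f ∈ Ug p q, ∃ l : W ≃ₗ[E] W, g = un f * l ∧ (∀ a ∈ LinearMap.range p, l a ∈ LinearMap.range p) ∧
      ∀ a ∈ LinearMap.range q, l a ∈ LinearMap.range q := by
  have s : ∀ x, p x + q x = x := fun x => LinearMap.congr_fun hs x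
  have k1 : ∀ x, p (g (p x)) = g (p x) := fun x => by
    have : q (g (p x)) = 0 := LinearMap.congr_fun h1 x
    rw [← s (g (p x)), this, add_zero, ← End.mul_apply, hp]
  have k2 : ∀ x, p (g.symm (p x)) = g.symm (p x) := fun x => by
    have : q (g.symm (p x)) = 0 := LinearMap.congr_fun h2 x
    rw [← s (g.symm (p x)), this, add_zero, ← End.mul_apply, hp]
  have pp : ∀ x, p (p x) = p x := fun x => LinearMap.congr_fun hp x
  have pq : ∀ x, p (q x) = 0 := fun x => LinearMap.congr_fun hpq x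
  have hf : p - (g : End E W) * p * (g.symm : End E W) ∈ Ug p q := mem_Ug.2 (LinearMap.ext fun y => by
    change p (p (q y) - g (p (g.symm (q y)))) = p y - g (p (g.symm y))
    rw [map_sub, pp, k1, pq]
    conv_rhs => rw [← s y, map_add, map_add, map_add, map_add, pp, pq, k2, g.apply_symm_apply]
    abel)
  have e : ∀ x, (un (-(p - (g : End E W) * p * (g.symm : End E W))) * g) x = q (g x) + g (p x) := fun x => by
    rw [LinearEquiv.mul_apply, un_apply (Ug_mul hqp (neg_mem hf) (neg_mem hf))]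
    change g x + -(p (g x) - g (p (g.symm (g x)))) = _
    rw [g.symm_apply_apply, eq_sub_of_add_eq' (s (g x))]
    abel
  refine ⟨_, hf, un (-(p - (g : End E W) * p * (g.symm : End E W))) * g, ?_, ?_, ?_⟩
  · rw [← mul_assoc, ← un_add hqp hf (neg_mem hf), add_neg_cancel, un_zero, one_mul]
  · rintro _ ⟨y, rfl⟩
    have : q (g (p y)) = 0 := LinearMap.congr_fun h1 y
    rw [e, this, pp, zero_add]
    exact ⟨_, k1 y⟩
  · rintro _ ⟨y, rfl⟩
    rw [e, pq, map_zero, add_zero]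
    exact ⟨_, rfl⟩

end Aux

theorem par_ev {E W : Type u} [Field E] [Finite E] [AddCommGroup W] [Module E W] [FiniteDimensional E W]
    (IH : ∀ A : Submodule E W, A ≠ ⊤ → GLTO E A) : ParEv E W := by
  intro β hβ τ hτ V _ _ _ σ ω h p q hp hq hpq hqp hs hp0 hq0
  have : Finite W := Module.finite_of_finite E
  have : Finite (End E W) := DFunLike.finite _
  have fin : ∀ A : Submodule E W, Finite (A ≃ₗ[E] A) := fun A => DFunLike.finite _
  have pp : ∀ x, p (p x) = p x := fun x => LinearMap.congr_fun hp x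
  have qq : ∀ x, q (q x) = q x := fun x => LinearMap.congr_fun hq x
  have pq : ∀ x, p (q x) = 0 := fun x => LinearMap.congr_fun hpq x
  have qp : ∀ x, q (p x) = 0 := fun x => LinearMap.congr_fun hqp x
  have pA : ∀ a : LinearMap.range p, p a = a := by rintro ⟨_, y, rfl⟩; exact pp y
  have qA : ∀ a : LinearMap.range p, q a = 0 := by rintro ⟨_, y, rfl⟩; exact qp y
  have pC : ∀ a : LinearMap.range q, p a = 0 := by rintro ⟨_, y, rfl⟩; exact pq y
  have qC : ∀ a : LinearMap.range q, q a = a := by rintro ⟨_, y, rfl⟩; exact qq y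
  have hc : IsCompl (LinearMap.range p) (LinearMap.range q) :=
    ⟨Submodule.disjoint_def.2 fun x h1 h2 => (pA ⟨x, h1⟩).symm.trans (pC ⟨x, h2⟩),
      codisjoint_iff.2 (eq_top_iff.2 fun x _ => (show p x + q x = x from LinearMap.congr_fun hs x) ▸
        Submodule.add_mem_sup ⟨x, rfl⟩ ⟨x, rfl⟩)⟩
  have hA : LinearMap.range p ≠ ⊤ := fun e => hq0 (LinearMap.ext fun x => qA ⟨x, e ▸ Submodule.mem_top⟩)
  have hC : LinearMap.range q ≠ ⊤ := fun e => hp0 (LinearMap.ext fun x => pC ⟨x, e ▸ Submodule.mem_top⟩)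
  obtain ⟨βA, hβA⟩ := exists_sym0 (E := E) (W := LinearMap.range p)
  obtain ⟨βC, hβC⟩ := exists_sym0 (E := E) (W := LinearMap.range q)
  obtain ⟨β', hβ', hsum⟩ := sym_glue hc hβA hβC
  obtain ⟨τA, hτA⟩ := exists_invT hβA
  obtain ⟨τC, hτC⟩ := exists_invT hβC
  obtain ⟨τ', hτ'⟩ := exists_invT hβ'
  obtain ⟨k, hk1, hk2⟩ := hβ.twist hβ' hτ hτ'
  have h' := h.twist k hk1 hk2
  generalize twF ω (σ k⁻¹) = ω' at h'
  have ap : ∀ x y, β' (p x) y = β' x (p y) := fun x y => by
    obtain ⟨a, c, rfl⟩ := exists_add_of_isCompl hc x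
    obtain ⟨a', c', rfl⟩ := exists_add_of_isCompl hc y
    rw [map_add p, map_add p, pA, pA, pC, pC]
    exact (hsum a a' 0 c').trans (Eq.trans (by simp) (hsum a a' c 0).symm)
  have aq : ∀ x y, β' (q x) y = β' x (q y) := fun x y => by
    obtain ⟨a, c, rfl⟩ := exists_add_of_isCompl hc x
    obtain ⟨a', c', rfl⟩ := exists_add_of_isCompl hc y
    rw [map_add q, map_add q, qA, qA, qC, qC]
    exact (hsum 0 a' c c').trans (Eq.trans (by simp) (hsum a 0 c c').symm)
  have nadd : ∀ x y : Ug p q, σ (un ((x + y : Ug p q) : End E W)) = σ (un (x : End E W)) * σ (un (y : End E W)) :=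
    fun x y => by rw [← map_mul, ← un_add hqp x.2 y.2]; rfl
  have nadd' : ∀ x y : Ug q p, σ (un ((x + y : Ug q p) : End E W)) = σ (un (x : End E W)) * σ (un (y : End E W)) :=
    fun x y => by rw [← map_mul, ← un_add hpq x.2 y.2]; rfl
  have hcomm : ∀ l, σ (glue _ _ hc l) * Ech (fun f : Ug p q => σ (un (f : End E W))) 1 =
      Ech (fun f : Ug p q => σ (un (f : End E W))) 1 * σ (glue _ _ hc l) := fun l =>
    glpar_comm σ hqp _ (fun x => by
      obtain ⟨a, c, rfl⟩ := exists_add_of_isCompl hc x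
      rw [glue_add, map_add p, map_add p, pA, pA, pC, pC, add_zero, add_zero, glue_left]) fun x => by
      obtain ⟨a, c, rfl⟩ := exists_add_of_isCompl hc x
      rw [glue_add, map_add q, map_add q, qA, qA, qC, qC, zero_add, zero_add, glue_right]
  have ee := Ech_idem (n := fun f : Ug p q => σ (un (f : End E W))) nadd 1
  have e1 := zero_mul_Ech (n := fun f : Ug p q => σ (un (f : End E W))) nadd 1
  have nl := n_mul_Ech (n := fun f : Ug p q => σ (un (f : End E W))) nadd 1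
  have nr := Ech_mul_n (n := fun f : Ug p q => σ (un (f : End E W))) nadd 1
  have star : Ech (fun f : Ug p q => σ (un (f : End E W))) 1 * Ech (fun f : Ug q p => σ (τ' (un (f : End E W))⁻¹)) 1 =
      Ech (fun f : Ug q p => σ (τ' (un (f : End E W))⁻¹)) 1 := Ech_mul_of_eigen 1 fun f => by
    obtain ⟨f', hf', e⟩ := glpar_T hβ' hτ' ap aq hpq hqp f.2
    have e' : un (f : End E W) = τ' (un f')⁻¹ := by rw [← e, ← map_inv, inv_inv, hτ'.invol hβ']
    rw [e']
    exact n_mul_Ech (n := fun f : Ug q p => σ (τ' (un (f : End E W))⁻¹)) (fun x y => by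
      rw [← map_mul, ← map_mul, ← mul_inv_rev, ← un_add hpq y.2 x.2, add_comm]; rfl) 1 ⟨f', hf'⟩
  have adj : Adj ω' (Ech (fun f : Ug q p => σ (un (f : End E W))) 1)
      (Ech (fun f : Ug q p => σ (τ' (un (f : End E W))⁻¹)) 1) :=
    Adj.ech (AddEquiv.refl _) (fun _ => h'.adj' _) fun _ => rfl
  have hl := hlThm E W V σ p q hp hq hpq hqp
  simp only [ZeroMemClass.coe_zero, un_zero, AddChar.one_apply, one_smul] at e1 nl nr
  generalize Ech (fun f : Ug p q => σ (un (f : End E W))) 1 = e at *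
  have ab : ∀ l x, e (σ (glue _ _ hc l) (e x)) = σ (glue _ _ hc l) (e x) := fun l x => by
    rw [← End.mul_apply, ← hcomm, ← End.mul_apply, mul_assoc, ee, End.mul_apply]
  have u1 : cutS (cmp σ (glue _ _ hc)) e ee hcomm 1 = e := (congrArg (· * e) (cmp_one σ _)).trans e1
  have sk : Skew (τA.prodMap τC) (cutS (cmp σ (glue _ _ hc)) e ee hcomm) (ω'.compl₁₂ e e) := by
    refine ⟨fun x y => h'.skew _ _, fun g x y => ?_, fun x hx h0 => ?_⟩
    · change ω' (e (σ (glue _ _ hc g) (e x))) (e y) = ω' (e x) (e (σ (glue _ _ hc (τA g⁻¹.1, τC g⁻¹.2)) (e y)))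
      rw [ab, ab, h'.adj, ← map_inv, IsInvT.glue hc hβ' hsum hτA hτC hτ']
    · rw [u1] at hx
      refine hl x (fun f hf => by rw [← hx, ← End.mul_apply, nl ⟨f, hf⟩]) (h'.nd _ ?_ fun y => ?_)
      · have := zero_mul_Ech (n := fun f : Ug q p => σ (un (f : End E W))) nadd' 1
        simp only [ZeroMemClass.coe_zero, un_zero] at this
        rw [← End.mul_apply, this]
      · rw [adj, ← star, ← hx]
        exact h0 _
  have ev := (TO.prod (hτA.invol hβA) (hτC.invol hβC) (IH _ hA βA hβA τA hτA) (IH _ hC βC hβC τC hτC)) V _ _ sk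
  rw [u1] at ev
  refine ev.of_comm fun a a1 a2 a3 => ?_
  rintro _ ⟨g, ⟨g1, g2⟩, rfl⟩
  obtain ⟨f, hf, l, rfl, l1, l2⟩ := glpar_dec hp hq hpq hqp hs g g1 g2
  have b1 : σ l * a = a * σ l := by
    have : σ (glue _ _ hc (resEq l _ l1, resEq l _ l2)) * e * a = a * (σ (glue _ _ hc (resEq l _ l1, resEq l _ l2)) * e) :=
      a3 _ ⟨(resEq l _ l1, resEq l _ l2), rfl⟩
    rwa [mul_assoc, a1, hcomm, ← mul_assoc, a2, glue_resEq] at this
  have b2 : σ (un f) * a = a := by rw [← a1, ← mul_assoc, nl ⟨f, hf⟩]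
  have b3 : a * σ (un f) = a := by rw [← a2, mul_assoc, nr ⟨f, hf⟩]
  rw [map_mul, mul_assoc, b1, ← mul_assoc, b2, ← mul_assoc, b3]

end CL.TOr
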