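/-
Project TO: from vector stabilisers to the full groups; adapted twists.
-/
import Cfsg.Agent.TOr.Defs2

set_option autoImplicit false

namespace CL.TOr

open Module

section U

variable {E V : Type*} [Field E] [AddCommGroup V] [Module E V] {s : E →+* E} {B : V →ₛₗ[s] V →ₗ[E] E} {t t' : V →+ V}

theorem UP.ug (h : UP B) (hB : Herm s B) (ht : IsCj B t) : TOc (UG B) t := fun τ hτ => by
  obtain ⟨τ0, h0⟩ := exists_cjAut_fix hB ht (map_zero t)
  refine (h 0 t ht (map_zero t) τ0 h0).of_surj (Subgroup.inclusion inf_le_left)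
    (fun g => ⟨⟨g.1, g.2, map_zero _⟩, rfl⟩) fun g => ?_
  exact (hτ.eq_of ht fun x => h0 g x).symm

variable {X : Type*} [AddCommGroup X] [Module ℂ X] {ω : LinearMap.BilinForm ℂ X}

/-- Changing the conjugation on a module of the unitary group. -/
theorem Skew.change_UG (hB : Herm s B) (ht : IsCj B t) (ht' : IsCj B t') {τ : UG B →* UG B} (hτ : IsCjAut t τ)
    {σ : UG B →ₙ* End ℂ X} (h : Skew τ σ ω) : ∃ (τ' : UG B →* UG B) (ω' : LinearMap.BilinForm ℂ X),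
      IsCjAut t' τ' ∧ Skew τ' σ ω' := by
  obtain ⟨k, hk⟩ := IsCj.twist hB ht ht'
  obtain ⟨τ', hτ'⟩ := exists_cjAut_UG hB ht'
  obtain ⟨h1, h2⟩ := IsCjAut.twist ht ht' hτ hτ' k hk
  exact ⟨τ', _, hτ', h.twist k h1 h2⟩

/-- Changing the conjugation on a module of a vector stabiliser. -/
theorem Skew.change_K0 (hB : Herm s B) (ht : IsCj B t) (ht' : IsCj B t') {v : V} (hv : t v = v) (hv' : t' v = v)
    {τ : K0 B v →* K0 B v} (hτ : IsCjAut t τ) {σ : K0 B v →ₙ* End ℂ X} (h : Skew τ σ ω) :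
    ∃ (τ' : K0 B v →* K0 B v) (ω' : LinearMap.BilinForm ℂ X), IsCjAut t' τ' ∧ Skew τ' σ ω' := by
  obtain ⟨k, hk⟩ := IsCj.twist hB ht ht'
  obtain ⟨τ', hτ'⟩ := exists_cjAut_fix hB ht' hv'
  have hkv : k.1 v = v := by rw [← hv, hk, hv, hv']
  obtain ⟨h1, h2⟩ := IsCjAut.twist ht ht' hτ hτ' ⟨k.1, k.2, hkv⟩ hk
  exact ⟨τ', _, hτ', h.twist _ h1 h2⟩

end U

section G

variable {E W : Type*} [Field E] [AddCommGroup W] [Module E W] [FiniteDimensional E W]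
  {X : Type*} [AddCommGroup X] [Module ℂ X] {ω : LinearMap.BilinForm ℂ X}

/-- Changing the symmetric form on a module of `GL(W)`. -/
theorem Skew.change_GL {β β' : LinearMap.BilinForm E W} (hβ : Sym β) (hβ' : Sym β')
    {τ τ' : (W ≃ₗ[E] W) →* (W ≃ₗ[E] W)} (hτ : IsInvT β τ) (hτ' : IsInvT β' τ') {σ : (W ≃ₗ[E] W) →ₙ* End ℂ X}
    (h : Skew τ σ ω) : ∃ ω' : LinearMap.BilinForm ℂ X, Skew τ' σ ω' := by
  obtain ⟨k, h1, h2⟩ := Sym.twist hβ hβ' hτ hτ'
  exact ⟨_, h.twist k h1 h2⟩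

end G

theorem OP.og {F V : Type*} [Field F] [AddCommGroup V] [Module F V] {Q : QuadraticForm F V} (h : OP Q) :
    TO (Cls.OG Q) (MonoidHom.id _) :=
  (h 0 0 (Or.inl rfl)).of_surj (Subgroup.inclusion fun _ hg => hg.1)
    (fun g => ⟨⟨g.1, g.2, map_zero _, 0, by simp⟩, rfl⟩) fun _ => rfl

end CL.TOr
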