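/-
Project TO: the stabiliser of a singular vector in an orthogonal group.
-/
import Cfsg.Agent.TOr.Small

set_option autoImplicit false
set_option linter.unusedSectionVars false

namespace CL.TOr

open Module QuadraticMap

universe u

variable {F V : Type u} [Field F] [Finite F] [CharP F 2] [AddCommGroup V] [Module F V] [FiniteDimensional F V]
  {Q : QuadraticForm F V}

theorem omir_UG {g : V ≃ₗ[F] V} (h : ∀ x, Q (g x) = Q x) : g ∈ UG (polarBilin Q) := fun x y => by
  have h1 := Q_add_polar (Q := Q) (g x) (g y)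
  rw [← map_add, h, h, h, Q_add_polar] at h1
  exact (add_left_cancel h1).symm

theorem omir_le {v w : V} (hw : w = 0 ∨ Q w ≠ 0) (hvw : polar Q v w = 0) :
    KO Q w v ≤ K0 (polarBilin Q) v := fun g ⟨h1, _, c, h3⟩ => ⟨omir_UG h1, by
  change g v = v
  rcases hw with rfl | hw
  · rw [h3, smul_zero, add_zero]
  · have h4 := h1 v
    rw [h3, Q_add_polar, LinearMap.map_smul, polarBilin_apply_apply, hvw, smul_zero, add_zero, add_eq_left,
      QuadraticMap.map_smul, smul_eq_mul, mul_eq_zero, mul_self_eq_zero] at h4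
    rw [h3, h4.resolve_right hw, zero_smul, add_zero]⟩

theorem omir_c {v v' : V} (H : Hyp (polarBilin Q) v v') (hv : Q v = 0) (hv' : Q v' = 0) (y : hW (polarBilin Q) v v')
    (c : F) (h : Q (H.sieg y c v') = Q v') : c = Q y := by
  rw [H.sieg_v', Q_add_polar, Q_add_polar, hv', H.v'W, QuadraticMap.map_smul, hv, map_smul, map_add, LinearMap.add_apply,
    H.v'v, H.Wv] at h
  exact (CharTwo.add_eq_zero.1 (by simpa using h)).symm

theorem omir {v v' w : V} (H : Hyp (polarBilin Q) v v') (hv : Q v = 0) (hv' : Q v' = 0) (hw : w = 0 ∨ Q w ≠ 0)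
    (hvw : polar Q v w = 0) (hv'w : polar Q v' w = 0) (hP : OP (QW Q v v')) : TO (KO Q w v) (MonoidHom.id _) := by
  intro X _ _ _ σ ω h
  have : Finite V := Module.finite_of_finite F
  let j : KO Q w v →* K0 (polarBilin Q) v := Subgroup.inclusion (omir_le hw hvw)
  let w0 : hW (polarBilin Q) v v' := ⟨w, hvw, hv'w⟩
  let M := perp (BW (polarBilin Q) v v') (Submodule.span F {w0})
  have hM : ∀ x, x ∈ M ↔ polarBilin Q w x = 0 := fun x => ⟨fun hx => hx w0 (Submodule.mem_span_singleton_self _),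
    fun hx a ha => by
      obtain ⟨c, rfl⟩ := Submodule.mem_span_singleton.1 ha
      rw [LinearMap.map_smulₛₗ₂, BW_apply, hx, smul_zero]⟩
  have pw : ∀ k, (H.pi (j k)).1 w0 = w0 := fun k => Subtype.ext (by
    have : (j k).1 w = w := k.2.2.1
    rw [H.pi_apply, this, H.v'W w0, zero_smul, sub_zero])
  have pB : ∀ k x y, polarBilin Q ((H.pi (j k)).1 x) ((H.pi (j k)).1 y) = polarBilin Q x y := fun k => (H.pi (j k)).2
  let el : M → KO Q w v := fun x => ⟨H.sieg x (Q x), H.sieg_Q hv x, by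
    rw [H.sieg_W x _ w0, H.herm.flip_zero ((hM x).1 x.2), zero_smul, add_zero], 0, by rw [H.sieg_v, zero_smul, add_zero]⟩
  have el0 : el 0 = 1 := Subtype.ext (by simpa [el] using H.sieg_zero)
  have elm : ∀ x y, el (x + y) = el x * el y := fun x y => Subtype.ext (by
    simp only [el, Subgroup.coe_mul, H.sieg_mul, Submodule.coe_add, Q_add_polar])
  let act : KO Q w v → M →ₗ[F] M := fun k => ((H.pi (j k)).1 : _ →ₗ[F] _).restrict fun x hx => (hM _).2 (by
    have := pB k w0 x
    rwa [pw, (hM x).1 hx] at this)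
  have acte : ∀ k x, (act k x : hW (polarBilin Q) v v') = (H.pi (j k)).1 x := fun _ _ => rfl
  have act1 : ∀ x, act 1 x = x := fun x => Subtype.ext (by rw [acte, map_one, map_one]; rfl)
  have actm : ∀ g k x, act (g * k) x = act g (act k x) := fun g k x => Subtype.ext (by
    rw [acte, map_mul, map_mul]; rfl)
  have conj : ∀ k x, k * el x = el (act k x) * k := fun k x => Subtype.ext (by
    obtain ⟨d, -, e⟩ := H.conj_sieg (j k) (H.sieg_mem_Q x (Q x))
    have e1 : H.sieg ((H.pi (j k)).1 x) (Q x + d) = (k * el x * k⁻¹ : KO Q w v) := eq_mul_inv_of_mul_eq e.symm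
    rw [omir_c H hv hv' ((H.pi (j k)).1 x) (Q x + d) (by rw [e1]; exact (k * el x * k⁻¹).2.1 v')] at e
    exact e)
  have n0 : σ (el 0) = σ 1 := by rw [el0]
  have nadd : ∀ x y, σ (el (x + y)) = σ (el x) * σ (el y) := fun x y => by rw [elm, map_mul]
  have hact : ∀ k x, σ k * σ (el x) = σ (el (act k x)) * σ k := fun k x => by rw [← map_mul, conj, map_mul]
  refine fourier' σ (n := fun x => σ (el x)) n0 nadd (fun k => (act k).toAddMonoidHom) act1 actm hact fun χ => ?_
  obtain ⟨ψ, hψ, -⟩ := exists_psi (RingHom.id F) fun _ => rfl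
  obtain ⟨l, hl⟩ := char_dual (E := F) hψ χ
  obtain ⟨u, hu⟩ := H.hermW.exists_repr M l
  let φ : KO (QW Q v v') w0 u →* KO Q w v := (H.iota.comp (KO (QW Q v v') w0 u).subtype).codRestrict _ fun g =>
    ⟨H.iota_Q g.2.1, (H.iota_W g.1 w0).trans (congrArg Subtype.val g.2.2.1), 0, by
      rw [zero_smul, add_zero]; exact H.iota_v _⟩
  have gU : ∀ g : KO (QW Q v v') w0 u, g.1 ∈ UG (BW (polarBilin Q) v v') := fun g =>
    polarBilin_QW (Q := Q) v v' ▸ omir_UG g.2.1
  have pφ : ∀ g, (H.pi (j (φ g))).1 = g.1 := fun g => congrArg Subtype.val (H.pi_iotaU ⟨g.1, gU g⟩)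
  have com : ∀ g, σ (φ g) * Ech (fun x => σ (el x)) χ = Ech (fun x => σ (el x)) χ * σ (φ g) := fun g => by
    refine mul_Ech_equiv
      { toFun := act (φ g), invFun := act (φ g)⁻¹, map_add' := map_add _
        left_inv := fun x => by rw [← actm, inv_mul_cancel, act1]
        right_inv := fun x => by rw [← actm, mul_inv_cancel, act1] } (hact _) fun x => ?_
    obtain ⟨c, hc⟩ := g.2.2.2
    have h1 := gU g u x
    have h2 := (hM _).1 (act (φ g) x).2
    rw [acte, pφ] at h2
    rw [hc, LinearMap.map_add₂, LinearMap.map_smulₛₗ₂, BW_apply w0, h2, smul_zero, add_zero] at h1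
    change χ (act (φ g) x) = _
    rw [hl, hl, hu, hu, acte, pφ, h1]
  have hadj : Adj ω (Ech (fun x => σ (el x)) χ) (Ech (fun x => σ (el x)) χ) :=
    Adj.ech (AddEquiv.refl M) (fun x => by
      have := h.adj' (el x)
      rwa [MonoidHom.id_apply, inv_eq_of_mul_eq_one_right (by rw [← elm, hyp_add_self F, el0])] at this) fun _ => rfl
  refine (TO.ev_cut (hP w0 u (hw.imp_left Subtype.ext)) h φ (fun _ => rfl) (Ech_idem nadd χ)
    (by rw [← n0]; exact zero_mul_Ech (n := fun x => σ (el x)) nadd χ) com hadj).of_smul ?_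
  rintro _ ⟨k, hk, rfl⟩
  have h1 : l ∘ₗ act k = l := psi_inj hψ fun x => by rw [← hl, LinearMap.comp_apply, ← hl]; exact hk x
  obtain ⟨h2, x, h3, -⟩ := H.decomp_Q hv hv' (j k) k.2.1
  have h4 : (H.pi (j k)).1 u - u ∈ Submodule.span F {w0} := by
    rw [← H.hermW.perp_perp (Submodule.span F {w0})]
    intro a ha
    have h5 := LinearMap.congr_fun h1 (act k⁻¹ ⟨a, ha⟩)
    have h6 := pB k u (act k⁻¹ ⟨a, ha⟩)
    rw [← acte k, ← actm, mul_inv_cancel, act1] at h6
    rw [LinearMap.comp_apply, ← actm, mul_inv_cancel, act1, hu, hu, BW_apply, BW_apply, ← h6] at h5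
    refine H.hermW.flip_zero ?_
    rw [LinearMap.map_sub₂, BW_apply, BW_apply, h5, sub_self]
  obtain ⟨c, hc⟩ := Submodule.mem_span_singleton.1 h4
  have h5 : x ∈ M := (hM x).2 (H.herm.flip_zero (by
    have h6 : (j k).1 w0 = w := k.2.2.1
    rw [h3, LinearEquiv.mul_apply, H.iota_W, pw, H.sieg_W, add_eq_left] at h6
    exact (smul_eq_zero.1 h6).resolve_right H.v_ne))
  let g : KO (QW Q v v') w0 u := ⟨(H.pi (j k)).1, h2, pw k, c, by rw [hc, add_sub_cancel]⟩
  refine ⟨χ ⟨x, h5⟩, _, ⟨g, rfl⟩, ?_⟩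
  have h6 : k = el ⟨x, h5⟩ * φ g := Subtype.ext h3
  change σ k * _ = _ • (σ (φ g) * _)
  conv_lhs => rw [h6]
  rw [map_mul, mul_assoc, com, ← mul_assoc, n_mul_Ech (n := fun x => σ (el x)) nadd χ ⟨x, h5⟩, smul_mul_assoc]

end CL.TOr
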