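/-
Project TO, step TRI: the centraliser of an isometry of odd order in characteristic 2.
-/
import Cfsg.Agent.TOr.Tri1
import Cfsg.Agent.TOr.Basic

set_option autoImplicit false
set_option linter.unusedSectionVars false

namespace CL.TOr

open Module

universe u

section Tools

variable {E V : Type*} [Field E] [AddCommGroup V] [Module E V] {s : E →+* E} {B : V →ₛₗ[s] V →ₗ[E] E}
  {b : V ≃ₗ[E] V}

theorem Herm.ext_r (hB : Herm s B) {y y' : V} (h : ∀ x, B x y = B x y') : y = y' :=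
  sub_eq_zero.1 (hB.nd_right _ fun x => by rw [map_sub, h, sub_self])

theorem Ref.app [CharP E 2] {Q : V → E} (h : Ref B b Q) (y : V) : Q (b y + y) = B (b y) y := by
  rw [h.1, h.2, CharTwo.add_self_eq_zero, zero_add]

theorem exists_fpf [Finite E] [CharP E 2] [FiniteDimensional E V] (hb : ∀ x, b x = x → x = 0) (X : Submodule E V)
    (hX : ∀ x ∈ X, b x ∈ X) {x : V} (hx : x ∈ X) : ∃ y ∈ X, x = b y + y := by
  have : Finite V := Module.finite_of_finite E
  let f : X → X := fun y => ⟨b y + y, add_mem (hX _ y.2) y.2⟩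
  have hf : Function.Injective f := fun y z e => Subtype.ext (sub_eq_zero.1 (hb _ ?_))
  · obtain ⟨y, hy⟩ := Finite.injective_iff_surjective.1 hf ⟨x, hx⟩
    exact ⟨y, y.2, (congrArg Subtype.val hy).symm⟩
  · have h1 : b y + y = b z + z := congrArg Subtype.val e
    rw [map_sub]
    linear_combination (norm := module) h1 + add_self_mod E (z : V) - add_self_mod E (y : V)

theorem Ref.zero [Finite E] [CharP E 2] [FiniteDimensional E V] {Q : V → E} (h : Ref B b Q)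
    (hb : ∀ x, b x = x → x = 0) {X : Submodule E V} (hX : ∀ x ∈ X, b x ∈ X) (hi : ∀ x ∈ X, ∀ y ∈ X, B x y = 0) :
    ∀ x ∈ X, Q x = 0 := fun x hx => by
  obtain ⟨y, hy, rfl⟩ := exists_fpf hb X hX hx
  rw [h.app, hi _ (hX y hy) y hy]

variable {A : Type*} [CommRing A] [Algebra E A] [Module A V] [IsScalarTower E A V] {β : A}

/-- `σ` is the adjoint map. -/
structure Star (B : V →ₛₗ[s] V →ₗ[E] E) (β : A) (σ : A →+* A) : Prop where
  adj : ∀ r x y, B (r • x) y = B x (σ r • y)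
  invol : ∀ r, σ (σ r) = r
  alg : ∀ c, σ (algebraMap E A c) = algebraMap E A (s c)
  inv : β * σ β = 1

theorem GA.exists_star (h : GA b β) (hB : Herm s B) (hb : b ∈ UG B) (ho : Odd (orderOf b)) :
    ∃ σ : A →+* A, Star B β σ := by
  obtain ⟨k, hk⟩ := ho
  have h0 : β * β ^ (2 * k) = 1 := by rw [← pow_succ', ← hk, h.pow_orderOf]
  have h1 : ∀ x y, B (β • x) y = B x (β ^ (2 * k) • y) := fun x y => by
    rw [← hb x, h.act, h.act, smul_smul, h0, one_smul]
  have h2 : ∀ (c : E) x y, B (algebraMap E A c • x) y = B x (algebraMap E A (s c) • y) := fun c x y => by simp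
  have ex : ∀ r : A, ∃ r' : A, ∀ x y, B (r • x) y = B x (r' • y) := by
    refine h.ind ⟨_, h1⟩ (fun c => ⟨_, h2 c⟩) ?_ ?_
    · rintro r t ⟨r', hr⟩ ⟨t', ht⟩
      exact ⟨r' + t', fun x y => by simp [add_smul, hr, ht]⟩
    · rintro r t ⟨r', hr⟩ ⟨t', ht⟩
      exact ⟨t' * r', fun x y => by rw [mul_smul, hr, ht, mul_smul]⟩
  choose f hf using ex
  have un : ∀ r r' : A, (∀ x y, B (r • x) y = B x (r' • y)) → f r = r' := fun r r' H =>
    h.ext fun y => hB.ext_r fun x => by rw [← hf, H]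
  refine ⟨{ toFun := f
            map_one' := un _ _ (by simp)
            map_mul' := fun r t => un _ _ fun x y => by rw [mul_smul, hf, hf, smul_smul, mul_comm]
            map_zero' := un _ _ (by simp)
            map_add' := fun r t => un _ _ fun x y => by simp [add_smul, hf] },
    hf, fun r => un _ _ fun x y => ?_, fun c => un _ _ (h2 c), ?_⟩
  · change B (f r • x) y = _
    rw [← hB.symm, ← hf, hB.symm]
  · change β * f β = 1
    rw [un _ _ h1, h0]

theorem GA.fixed (h : GA b β) {σ : A →+* A} (hσ : Star B β σ) (r : A) :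
    ∃ c : E, ∀ x, b x = x → r • x = c • x ∧ σ r • x = s c • x := by
  refine h.ind (P := fun r => ∃ c : E, ∀ x, b x = x → r • x = c • x ∧ σ r • x = s c • x) ⟨1, fun x hx => ?_⟩
    (fun c => ⟨c, fun x _ => by simp [hσ.alg]⟩) ?_ ?_ r
  · rw [h.act] at hx
    refine ⟨by rw [hx, one_smul], ?_⟩
    rw [map_one, one_smul]
    conv_lhs => rw [← hx, smul_smul, mul_comm, hσ.inv, one_smul]
  · rintro r t ⟨c, hc⟩ ⟨d, hd⟩
    exact ⟨c + d, fun x hx => by simp only [map_add, add_smul, hc x hx, hd x hx, and_self]⟩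
  · rintro r t ⟨c, hc⟩ ⟨d, hd⟩
    refine ⟨d * c, fun x hx => ?_⟩
    simp only [map_mul, mul_smul, (hd x hx).1, smul_comm r d x, (hc x hx).1, (hc x hx).2, smul_comm (σ r) (s d) x,
      (hd x hx).2, and_self]

theorem GA.fixed_idem (h : GA b β) {σ : A →+* A} (hσ : Star B β σ) {p : A} (hp : p * p = p) :
    (∀ x, b x = x → p • x = 0 ∧ σ p • x = 0) ∨ ∀ x, b x = x → p • x = x ∧ σ p • x = x := by
  obtain ⟨c, hc⟩ := h.fixed hσ p
  by_cases h0 : c = 0
  · exact Or.inl fun x hx => by simpa [h0] using hc x hx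
  by_cases h1 : c = 1
  · exact Or.inr fun x hx => by simpa [h1] using hc x hx
  refine Or.inl fun x hx => ?_
  have h2 : (c * (c - 1)) • x = 0 := by
    have h3 := (hc x hx).1
    rw [mul_sub, mul_one, sub_smul, mul_smul, ← h3, ← smul_comm, ← h3, smul_smul, hp, sub_self]
  simp [(smul_eq_zero.1 h2).resolve_left (mul_ne_zero h0 (sub_ne_zero.2 h1))]

end Tools

section Pair

variable {E V : Type*} [Field E] [AddCommGroup V] [Module E V] [FiniteDimensional E V] {s : E →+* E}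
  {B : V →ₛₗ[s] V →ₗ[E] E} {b : V ≃ₗ[E] V} {X Y : Submodule E V}

theorem exists_pair_coord (hB : Herm s B) (h : IsCompl X Y) (hX : ∀ x ∈ X, ∀ y ∈ X, B x y = 0)
    (hY : ∀ x ∈ Y, ∀ y ∈ Y, B x y = 0) {γ : LinearMap.BilinForm E X} (hγ : Sym γ) :
    ∃ Λ : X × X ≃+ V, (∀ x, Λ (x, 0) = x) ∧ (∀ y, y ∈ Y ↔ ∃ x, Λ (0, x) = y) ∧
      (∀ (c : E) x x', c • Λ (x, x') = Λ (c • x, s c • x')) ∧
      ∀ x x' y y', B (Λ (x, x')) (Λ (y, y')) = γ x' y + s (γ y' x) := by
  have ex : ∀ x' : X, ∃ c ∈ Y, ∀ x : X, B c x = γ x' x := fun x' => by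
    obtain ⟨v, hv⟩ := Cls.exists_repr_of_nondeg hB.invol B hB.nd
      (γ x' ∘ₗ LinearMap.fst E X Y ∘ₗ (X.prodEquivOfIsCompl Y h).symm.toLinearMap)
    obtain ⟨a, c, rfl⟩ := exists_add_of_isCompl h v
    refine ⟨c, c.2, fun x => ?_⟩
    simpa [hX _ a.2 _ x.2] using LinearMap.congr_fun hv x
  choose θ h1 h2 using ex
  have un : ∀ x', ∀ c ∈ Y, (∀ x : X, B c x = γ x' x) → θ x' = c := fun x' c hc H =>
    sub_eq_zero.1 (hB.nd _ fun v => by
      obtain ⟨a, d, rfl⟩ := exists_add_of_isCompl h v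
      simp [h2, H, hY _ (h1 x') _ d.2, hY _ hc _ d.2])
  have h0 : θ 0 = 0 := un _ _ (zero_mem _) (by simp)
  have sj : ∀ c ∈ Y, ∃ x', θ x' = c := fun c hc => by
    obtain ⟨x', hx⟩ := Cls.exists_repr_of_nondeg (σ := RingHom.id E) (fun _ => rfl) γ hγ.nd (B c ∘ₗ X.subtype)
    exact ⟨x', un _ _ hc fun x => by simp [hx]⟩
  let L : X × X →+ V := AddMonoidHom.mk' (fun z => z.1 + θ z.2) fun z w => by
    rw [Prod.snd_add, un (z.2 + w.2) _ (add_mem (h1 z.2) (h1 w.2)) (by simp [h2]), Prod.fst_add, Submodule.coe_add]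
    abel
  have hL : ∀ x x', L (x, x') = x + θ x' := fun _ _ => rfl
  have bij : Function.Bijective L := by
    refine ⟨(injective_iff_map_eq_zero _).2 ?_, fun v => ?_⟩
    · rintro ⟨x, x'⟩ e
      rw [hL] at e
      have h3 : (x : V) = 0 := Submodule.disjoint_def.1 h.1 _ x.2 (eq_neg_of_add_eq_zero_left e ▸ neg_mem (h1 x'))
      rw [h3, zero_add] at e
      exact Prod.ext (Subtype.ext h3) (hγ.nd _ fun y => by rw [← h2, e, map_zero, LinearMap.zero_apply])
    · obtain ⟨a, c, rfl⟩ := exists_add_of_isCompl h v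
      obtain ⟨x', hx⟩ := sj c c.2
      exact ⟨(a, x'), by rw [hL, hx]⟩
  have hΛ : ∀ x x', AddEquiv.ofBijective L bij (x, x') = x + θ x' := hL
  refine ⟨AddEquiv.ofBijective L bij, fun x => ?_, fun y => ?_, fun c x x' => ?_, fun x x' y y' => ?_⟩
  · rw [hΛ, h0, add_zero]
  · simp only [hΛ, ZeroMemClass.coe_zero, zero_add]
    exact ⟨sj y, fun ⟨x, hx⟩ => hx ▸ h1 x⟩
  · rw [hΛ, hΛ, un (s c • x') (c • θ x') (Y.smul_mem c (h1 x')) (by simp [h2]), smul_add, Submodule.coe_smul]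
  · simp only [hΛ, map_add, LinearMap.add_apply]
    rw [hX _ x.2 _ y.2, hY _ (h1 _) _ (h1 _), h2, ← hB.symm, h2]
    ring

theorem tri_pair [Finite E] [CharP E 2] (hB : Herm s B) (h : IsCompl X Y) (hX : ∀ x ∈ X, ∀ y ∈ X, B x y = 0)
    (hY : ∀ x ∈ Y, ∀ y ∈ Y, B x y = 0) (hb : ∀ x, b x = x → x = 0)
    (hc : ∀ g : V ≃ₗ[E] V, g * b = b * g → (∀ a ∈ X, g a ∈ X) ∧ ∀ c ∈ Y, g c ∈ Y) :
    ∃ (X : Submodule E V) (β : LinearMap.BilinForm E X) (τ : (X ≃ₗ[E] X) →* (X ≃ₗ[E] X))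
      (φ : (X ≃ₗ[E] X) →* UG B) (t : V →+ V),
      2 * finrank E X = finrank E V ∧ Sym β ∧ IsInvT β τ ∧ IsCj B t ∧
      (∀ g x, (φ (τ g) : V ≃ₗ[E] V) (t x) = t ((φ g : V ≃ₗ[E] V) x)) ∧
      (∀ k : UG B, (k : V ≃ₗ[E] V) * b = b * k → k ∈ φ.range) ∧
      (∀ g, ∀ x ∈ X, (φ g : V ≃ₗ[E] V) x ∈ X) ∧ (∀ x ∈ X, t x ∈ X → x = 0) ∧ (∀ x ∈ X, ∀ y ∈ X, B x y = 0) ∧
      ∀ Q, Ref B b Q → (∀ x ∈ X, Q x = 0) ∧ (∀ x, Q (t x) = Q x) ∧ ∀ g x, Q ((φ g : V ≃ₗ[E] V) x) = Q x := by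
  obtain ⟨γ, hγ⟩ := exists_sym E X
  obtain ⟨τ, hτ⟩ := exists_invT hγ
  obtain ⟨Λ, l1, l2, l3, l4⟩ := exists_pair_coord hB h hX hY hγ
  have all : ∀ {P : V → Prop}, (∀ x x', P (Λ (x, x'))) → ∀ v, P v := fun H v => by
    obtain ⟨⟨x, x'⟩, rfl⟩ := Λ.surjective v
    exact H x x'
  have hτ' : ∀ g x y, γ (τ g x) (g y) = γ x y := fun g x y => by rw [hγ.symm, hτ, hγ.symm]
  let f0 : (X ≃ₗ[E] X) → V ≃+ V := fun g => Λ.symm.trans ((g.toAddEquiv.prodCongr (τ g).toAddEquiv).trans Λ)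
  have hf0 : ∀ g x x', f0 g (Λ (x, x')) = Λ (g x, τ g x') := fun g x x' => by
    change Λ (Prod.map g (τ g) (Λ.symm (Λ (x, x')))) = _
    rw [Λ.symm_apply_apply, Prod.map_apply]
  let f : (X ≃ₗ[E] X) → V ≃ₗ[E] V := fun g =>
    { f0 g with
      map_smul' := fun c => all fun x x' => by
        change f0 g _ = c • f0 g _
        rw [l3, hf0, hf0, l3, map_smul, map_smul] }
  have hf : ∀ g x x', f g (Λ (x, x')) = Λ (g x, τ g x') := hf0
  let φ : (X ≃ₗ[E] X) →* UG B := MonoidHom.mk'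
    (fun g => ⟨f g, all fun x x' => all fun y y' => by rw [hf, hf, l4, l4, hτ', hτ']⟩)
    fun g g' => Subtype.ext (LinearEquiv.ext (all fun x x' => by simp [hf]))
  have hφ : ∀ g x x', (φ g : V ≃ₗ[E] V) (Λ (x, x')) = Λ (g x, τ g x') := hf
  let t : V →+ V := (Λ.symm.trans (AddEquiv.prodComm.trans Λ)).toAddMonoidHom
  have ht : ∀ x x', t (Λ (x, x')) = Λ (x', x) := fun x x' => by simp [t]
  have sp : ∀ x x', Λ (x, x') = x + Λ (0, x') := fun x x' => by rw [← l1, ← map_add]; simp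
  refine ⟨X, γ, τ, φ, t, ?_, hγ, hτ, ⟨fun c => all fun x x' => ?_, all fun x x' => ?_, all fun x x' => all fun y y' => ?_⟩,
    fun g => all fun x x' => ?_, fun k hk => ?_, fun g x hx => ?_, fun x hx h1 => ?_, hX, fun Q hQ => ?_⟩
  · apply Nat.pow_right_injective (Finite.one_lt_card (α := E))
    have h1 := Nat.card_congr Λ.toEquiv
    rw [Nat.card_prod, natCard_eq_pow_finrank (K := E) (V := V), natCard_eq_pow_finrank (K := E) (V := X)] at h1
    simpa only [two_mul, pow_add] using h1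
  · rw [l3, ht, ht, l3, hB.invol]
  · rw [ht, ht]
  · rw [ht, ht, l4, l4, map_add, hB.invol, hγ.symm x, hγ.symm y, add_comm]
  · rw [ht, hφ, hφ, ht, hτ.invol hγ]
  · obtain ⟨k1, k2⟩ := hc k hk
    refine ⟨resEq k.1 X k1, Subtype.ext (LinearEquiv.ext (all fun x x' => ?_))⟩
    obtain ⟨y', hy⟩ := (l2 _).1 (k2 _ ((l2 _).2 ⟨x', rfl⟩))
    have h1 : τ (resEq k.1 X k1) x' = y' := hγ.ext fun z => by
      obtain ⟨z, rfl⟩ := (resEq k.1 X k1).surjective z
      have h2 := k.2 (Λ (0, x')) z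
      rw [← hy, ← resEq_apply k.1 X k1, ← l1, ← l1, l4, l4] at h2
      rw [hτ, hγ.symm, hγ.symm _ y']
      simpa using h2.symm
    rw [hφ, h1, sp, sp x, map_add, hy, resEq_apply]
  · rw [show x = Λ (⟨x, hx⟩, 0) from (l1 ⟨x, hx⟩).symm, hφ, map_zero, l1]
    exact (g _).2
  · have h2 : t x = Λ (0, ⟨x, hx⟩) := by rw [← ht, l1]
    have h3 := Submodule.disjoint_def.1 h.1 _ h1 ((l2 _).2 ⟨_, h2.symm⟩)
    rw [h2, Λ.map_eq_zero_iff] at h3
    exact congrArg (fun z : X × X => (z.2 : V)) h3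
  · have q1 := hQ.zero hb (hc b rfl).1 hX
    have q2 := hQ.zero hb (hc b rfl).2 hY
    have q : ∀ x x', Q (Λ (x, x')) = s (γ x' x) := fun x x' => by
      rw [sp, hQ.1, q1 _ x.2, q2 _ ((l2 _).2 ⟨x', rfl⟩), ← l1, l4]
      simp
    exact ⟨q1, all fun x x' => by rw [ht, q, q, hγ.symm], fun g => all fun x x' => by rw [hφ, q, q, hτ']⟩

end Pair

theorem tri_field {E V A : Type u} [Field E] [Finite E] [CharP E 2] [AddCommGroup V] [Module E V]
    [FiniteDimensional E V] {s : E →+* E} {B : V →ₛₗ[s] V →ₗ[E] E} {b : V ≃ₗ[E] V} [Field A] [Finite A] [Algebra E A]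
    [Module A V] [IsScalarTower E A V] {β : A} {σ : A →+* A} (hB : Herm s B) (h : GA b β) (hσ : Star B β σ)
    (hb : ¬ ∃ c : E, ∀ x, b x = c • x) :
    (∀ x, b x = x → x = 0) ∧
      ∃ (E' : Type u) (_ : Field E') (_ : Finite E') (_ : CharP E' 2) (_ : Module E' V) (_ : FiniteDimensional E' V)
        (s' : E' →+* E') (B' : V →ₛₗ[s'] V →ₗ[E'] E') (φ : UG B' →* UG B) (b' : E'),
        Herm s' B' ∧ s' ≠ RingHom.id E' ∧ finrank E' V < finrank E V ∧
        (∀ x, b x = b' • x) ∧ b' * s' b' = 1 ∧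
        (∀ g x, (φ g : V ≃ₗ[E] V) x = (g : V ≃ₗ[E'] V) x) ∧
        (∀ k : UG B, (k : V ≃ₗ[E] V) * b = b * k → k ∈ φ.range) ∧
        (∀ t, IsCj B' t → IsCj B t ∧ ∀ Q, Ref B b Q → ∀ x, Q (t x) = Q x) ∧
        (s = RingHom.id E → ∃ d, Nat.card E' = Nat.card E ^ (2 * d)) ∧
        ∀ Q, Ref B b Q → ∀ g x, Q ((φ g : V ≃ₗ[E] V) x) = Q x := by
  have : FiniteDimensional A V := Module.Finite.of_restrictScalars_finite E A V
  have : CharP A 2 := charP_of_injective_algebraMap (algebraMap E A).injective 2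
  have h1 : β ≠ 1 := fun e => hb ⟨1, fun x => by rw [h.act, e, one_smul, one_smul]⟩
  have fpf : ∀ x, b x = x → x = 0 := fun x hx =>
    (smul_eq_zero.1 (show (β - 1) • x = 0 by rw [sub_smul, ← h.act, hx, one_smul, sub_self])).resolve_left
      (sub_ne_zero.2 h1)
  have hne : σ ≠ RingHom.id A := fun e => h1 (by
    have h2 := hσ.inv
    rw [e, RingHom.id_apply] at h2
    exact (mul_self_eq_one_iff.1 h2).elim id fun h3 => h3.trans (CharTwo.neg_eq 1))
  have hT : ∀ a, Algebra.trace E A (σ a) = s (Algebra.trace E A a) := fun a => by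
    have h2 := Algebra.trace_eq_of_equiv_equiv (RingEquiv.ofRingHom s s (RingHom.ext hB.invol) (RingHom.ext hB.invol))
      (RingEquiv.ofRingHom σ σ (RingHom.ext hσ.invol) (RingHom.ext hσ.invol))
      (RingHom.ext fun c => (hσ.alg c).symm) a
    rw [h2]
    exact (hB.invol _).symm
  have ex : ∀ x y : V, ∃ a : A, ∀ c, Algebra.trace E A (c * a) = B x (c • y) := fun x y =>
    exists_trace_repr (B x ∘ₗ (LinearMap.toSpanSingleton A V y).restrictScalars E)
  choose F hF using ex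
  let B' : V →ₛₗ[σ] V →ₗ[A] A := LinearMap.mk₂'ₛₗ σ (RingHom.id A) F
    (fun x x' y => trace_ext (E := E) fun c => by simp [mul_add, hF])
    (fun a x y => trace_ext (E := E) fun c => by
      rw [hF, hσ.adj, smul_smul, smul_eq_mul, ← mul_assoc, hF, mul_comm])
    (fun x y y' => trace_ext (E := E) fun c => by simp [mul_add, hF])
    (fun a x y => trace_ext (E := E) fun c => by
      rw [hF, smul_smul, smul_eq_mul, ← mul_assoc, hF, RingHom.id_apply])
  have hB' : ∀ x y c, Algebra.trace E A (c * B' x y) = B x (c • y) := hF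
  have hB1 : ∀ x y, B x y = Algebra.trace E A (B' x y) := fun x y => by simpa using (hB' x y 1).symm
  let φ : UG B' →* UG B := MonoidHom.mk' (fun g => ⟨resHom E A V g, fun x y => by
    rw [hB1, hB1]
    exact congrArg _ (g.2 x y)⟩) fun _ _ => rfl
  have dec : ∀ x, ∃ y, x = b y + y := fun x =>
    let ⟨y, _, e⟩ := exists_fpf fpf ⊤ (fun _ _ => trivial) (Submodule.mem_top (x := x)); ⟨y, e⟩
  refine ⟨fpf, A, inferInstance, inferInstance, inferInstance, inferInstance, inferInstance, σ, B', φ, β,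
    ⟨hσ.invol, fun x y => trace_ext (E := E) fun c => ?_, fun x hx => hB.nd x fun y => ?_⟩, hne, h.finrank_lt hb,
    h.act, hσ.inv, fun _ _ => rfl, fun k hk => ⟨⟨h.lin hk, fun x y => trace_ext (E := E) fun c => ?_⟩, rfl⟩,
    fun t ht => ?_, fun hs => ?_, fun Q hQ g x => ?_⟩
  · rw [← hσ.invol c, ← map_mul, hT, hB', ← hσ.adj, hB.symm, hB', hσ.invol]
  · rw [hB1, hx, map_zero]
  · rw [hB', hB', ← map_smul]
    exact k.2 _ _
  · have h2 : IsCj B t := ⟨fun c x => by rw [← algebraMap_smul A c, ht.smul, hσ.alg, algebraMap_smul], ht.invol,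
      fun x y => by rw [hB1, hB1, ht.form, hT]⟩
    refine ⟨h2, fun Q hQ x => ?_⟩
    obtain ⟨y, rfl⟩ := dec x
    have h3 : b (t (b y)) = t y := by rw [h.act, h.act, ht.smul, smul_smul, hσ.inv, one_smul]
    rw [map_add, add_comm, ← h3, hQ.app, hQ.app, h3, h2.form, hB.symm]
  · let τ : A ≃ₐ[E] A := { RingEquiv.ofRingHom σ σ (RingHom.ext hσ.invol) (RingHom.ext hσ.invol) with
      commutes' := fun c => (hσ.alg c).trans (by rw [hs, RingHom.id_apply]) }
    have h2 : orderOf τ = 2 := orderOf_eq_prime (AlgEquiv.ext hσ.invol) fun e =>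
      hne (RingHom.ext fun a => AlgEquiv.congr_fun e a)
    obtain ⟨d, hd⟩ := orderOf_dvd_natCard τ
    exact ⟨d, by rw [← h2, ← hd, IsGalois.card_aut_eq_finrank, natCard_eq_pow_finrank (K := E)]⟩
  · obtain ⟨y, rfl⟩ := dec x
    have h2 : (φ g : V ≃ₗ[E] V) (b y) = b ((φ g : V ≃ₗ[E] V) y) := by
      rw [h.act, h.act]
      exact g.1.map_smul β y
    rw [map_add, h2, hQ.app, hQ.app, ← h2, (φ g).2]

theorem triThm : TriThm.{u} := by
  intro E V _ _ _ _ _ _ s B hB b hb ho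
  refine or_iff_not_imp_left.2 fun hs => ?_
  have : Nontrivial V := by
    by_contra h0
    rw [not_nontrivial_iff_subsingleton] at h0
    exact hs ⟨0, fun _ => Subsingleton.elim _ _⟩
  obtain ⟨A, _, _, _, _, _, β, h⟩ := exists_GA b
  obtain ⟨σ, hσ⟩ := h.exists_star hB hb ho
  have orth : ∀ p q : A, σ p + q = 1 → ∀ a ∈ kr E V (1 - p), ∀ c ∈ kr E V (1 - q), B a c = 0 := fun p q e a ha c hc => by
    rw [mem_kr, sub_smul, one_smul, sub_eq_zero] at ha
    rw [ha, hσ.adj, eq_sub_of_add_eq e, mem_kr.1 hc, map_zero]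
  have c0 : ∀ p q : A, p + q = 1 → p * q = 0 → (1 - p) + (1 - q) = 1 ∧ (1 - p) * (1 - q) = 0 := fun p q e1 e2 =>
    ⟨by linear_combination -e1, by linear_combination e2 - e1⟩
  have c1 : ∀ p q : A, p + q = 1 → p * q = 0 → σ p = p → p ≠ 0 → q ≠ 0 → (∀ x, b x = x → p • x = x) →
      ∃ A C : Submodule E V, IsCompl A C ∧ A ≠ ⊥ ∧ C ≠ ⊥ ∧ (∀ a ∈ A, ∀ c ∈ C, B a c = 0) ∧ (∀ x, b x = x → x ∈ A) ∧
        ∀ g : V ≃ₗ[E] V, g * b = b * g → (∀ a ∈ A, g a ∈ A) ∧ ∀ c ∈ C, g c ∈ C := fun p q e1 e2 e3 hp hq hx =>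
    ⟨_, _, isCompl_kr (c0 p q e1 e2).1 (c0 p q e1 e2).2, h.kr_ne_bot (by linear_combination e2 - p * e1) hp,
      h.kr_ne_bot (by linear_combination e2 - q * e1) hq, orth p q (by rwa [e3]),
      fun x e => by rw [mem_kr, sub_smul, hx x e, one_smul, sub_self], fun g hg => ⟨h.comm_kr hg _, h.comm_kr hg _⟩⟩
  have c2 : ∀ p : A, p * p = p → σ p = p → p ≠ 0 → p ≠ 1 →
      ∃ A C : Submodule E V, IsCompl A C ∧ A ≠ ⊥ ∧ C ≠ ⊥ ∧ (∀ a ∈ A, ∀ c ∈ C, B a c = 0) ∧ (∀ x, b x = x → x ∈ A) ∧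
        ∀ g : V ≃ₗ[E] V, g * b = b * g → (∀ a ∈ A, g a ∈ A) ∧ ∀ c ∈ C, g c ∈ C := fun p e1 e2 h0 h1 => by
    rcases h.fixed_idem hσ e1 with H | H
    · exact c1 (1 - p) p (sub_add_cancel _ _) (by linear_combination -e1) (by rw [map_sub, map_one, e2])
        (sub_ne_zero.2 h1.symm) h0 fun x hx => by rw [sub_smul, one_smul, (H x hx).1, sub_zero]
    · exact c1 p (1 - p) (add_sub_cancel _ _) (by linear_combination -e1) e2 h0 (sub_ne_zero.2 h1.symm)
        fun x hx => (H x hx).1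
  rcases h.field_or_idem ho with hA | ⟨p, h1, h2, h3⟩
  · exact Or.inr (Or.inr (@tri_field E V A _ _ _ _ _ _ s B b hA.toField _ ‹_› ‹_› ‹_› β σ hB h hσ hs))
  have h4 : σ p * σ p = σ p := by rw [← map_mul, h1]
  by_cases h5 : p * σ p = 0
  · by_cases h6 : p + σ p = 1
    · refine Or.inr (Or.inl ?_)
      have fpf : ∀ x, b x = x → x = 0 := fun x hx => by
        rw [← one_smul A x, ← h6, add_smul]
        rcases h.fixed_idem hσ h1 with H | H <;> rw [(H x hx).1, (H x hx).2]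
        exacts [add_zero 0, add_self_mod E x]
      exact ⟨fpf, tri_pair hB (isCompl_kr (c0 _ _ h6 h5).1 (c0 _ _ h6 h5).2) (orth p p (by rwa [add_comm]))
        (orth _ _ (by rwa [hσ.invol])) fpf fun g hg => ⟨h.comm_kr hg _, h.comm_kr hg _⟩⟩
    · exact Or.inl (c2 (p + σ p) (by linear_combination h1 + h4 + 2 * h5) (by rw [map_add, hσ.invol, add_comm])
        (fun e => h2 (by linear_combination p * e - h1 - h5)) h6)
  · exact Or.inl (c2 (p * σ p) (by linear_combination σ p * σ p * h1 + p * h4) (by rw [map_mul, hσ.invol, mul_comm])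
      h5 fun e => h3 (by linear_combination (1 - p) * e + σ p * h1))

end CL.TOr
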