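/-
Project TO: the induction for the orthogonal groups.
-/
import Cfsg.Agent.TOr.Defs3
import Cfsg.Agent.TOr.Rep
import Cfsg.Agent.TOr.Small
import Cfsg.Agent.TOr.Tri2
import Cfsg.Agent.TOr.OMir

set_option autoImplicit false
set_option linter.unusedSectionVars false

namespace CL.TOr

open Module QuadraticMap

universe u

variable {F V : Type u} [Field F] [Finite F] [CharP F 2] [AddCommGroup V] [Module F V] [FiniteDimensional F V]
  {Q : QuadraticForm F V}

namespace OFin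

/-- Untwisted total orthogonality of a subgroup. -/
abbrev TI {G : Type*} [Group G] (K : Subgroup G) : Prop := TO K (MonoidHom.id K)

variable (F) in
/-- The induction hypothesis. -/
def Lt (n : ℕ) : Prop :=
  ∀ (V : Type u) [AddCommGroup V] [Module F V] [FiniteDimensional F V] (Q : QuadraticForm F V),
    (polarBilin Q).Nondegenerate → finrank F V < n → OP Q

variable {w u : V} {A C : Submodule F V} {n : ℕ} {X : Type} [AddCommGroup X] [Module ℂ X] [FiniteDimensional ℂ X]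
  {ω : LinearMap.BilinForm ℂ X}

theorem incl {G : Type*} [Group G] {K' K : Subgroup G} (hle : K' ≤ K) (hT : TI K') {σ : K →ₙ* End ℂ X}
    (hs : Skew (MonoidHom.id K) σ ω) {S : Subgroup K} (hS : ∀ g ∈ S, g.1 ∈ K') : EvS (σ '' insert 1 (S : Set K)) (σ 1) :=
  (hT.ev hs (Subgroup.inclusion hle) fun _ => rfl).mono (Set.image_mono (by
    rintro g (rfl | hg)
    exacts [one_mem _, ⟨⟨g.1, hS g hg⟩, rfl⟩]))

theorem mem_ug {g : V ≃ₗ[F] V} (hg : g ∈ KO Q w u) : g ∈ UG (polarBilin Q) := fun x y => by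
  have := Q_add_polar (Q := Q) (g x) (g y)
  rw [← map_add, hg.1, hg.1, hg.1, Q_add_polar] at this
  exact (add_left_cancel this).symm

theorem perp_inv (hA : ∀ g ∈ KO Q w u, ∀ a ∈ A, g a ∈ A) {g : V ≃ₗ[F] V} (hg : g ∈ KO Q w u) :
    ∀ c ∈ perp (polarBilin Q) A, g c ∈ perp (polarBilin Q) A := fun c hc a ha => by
  rw [← hc _ (hA _ (inv_mem hg) a ha), ← mem_ug hg (g⁻¹ a), ← LinearEquiv.mul_apply, mul_inv_cancel]
  rfl

theorem span_inv {g : V ≃ₗ[F] V} (hg : g ∈ KO Q w u) : ∀ a ∈ Submodule.span F {w}, g a ∈ Submodule.span F {w} := fun a ha => by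
  obtain ⟨c, rfl⟩ := Submodule.mem_span_singleton.1 ha
  rwa [map_smul, hg.2.1]

theorem ko_add (a : F) : KO Q w (u + a • w) = KO Q w u := Subgroup.ext fun g =>
  and_congr_right fun _ => and_congr_right fun h => exists_congr fun c => by
    rw [map_add, map_smul, h, add_right_comm, add_left_inj]

theorem ko_le : KO Q w u ≤ KO Q w 0 := fun _ h => ⟨h.1, h.2.1, 0, by simp⟩

theorem ko_swap : KO Q 0 u = KO Q u 0 := Subgroup.ext fun g =>
  and_congr_right fun _ => ⟨fun ⟨_, c, h⟩ => ⟨by simpa using h, 0, by simp⟩, fun h => ⟨map_zero _, 0, by simpa using h.1⟩⟩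

theorem nondeg (hQ : (polarBilin Q).Nondegenerate) (h : IsCompl A C) (ho : ∀ a ∈ A, ∀ c ∈ C, polarBilin Q a c = 0) :
    (polarBilin (Q.comp A.subtype)).Nondegenerate ∧ (polarBilin (Q.comp C.subtype)).Nondegenerate :=
  have e : ∀ A : Submodule F V, polarBilin (Q.comp A.subtype) = (polarBilin Q).domRestrict₁₂ A A := fun A => by
    ext x y; rfl
  ⟨nondeg_of_herm (e A ▸ ((herm_polar hQ).restrict h ho).1), nondeg_of_herm (e C ▸ ((herm_polar hQ).restrict h ho).2)⟩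

/-- Orthogonal splittings. -/
theorem split (h : IsCompl A C) (ho : ∀ a ∈ A, ∀ c ∈ C, polarBilin Q a c = 0) (hw : w ∈ A)
    (hu : ∀ g ∈ KO (Q.comp A.subtype) ⟨w, hw⟩ 0, ∀ k, ∃ c : F, glue A C h (g, k) u = u + c • w)
    (hA : TI (KO (Q.comp A.subtype) ⟨w, hw⟩ 0)) (hC : TI (KO (Q.comp C.subtype) 0 0)) {σ : KO Q w u →ₙ* End ℂ X}
    (hs : Skew (MonoidHom.id _) σ ω) : EvS (σ '' {g | (∀ a ∈ A, g.1 a ∈ A) ∧ ∀ c ∈ C, g.1 c ∈ C}) (σ 1) := by
  haveI := finite_equiv (E := F) (X := A)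
  haveI := finite_equiv (E := F) (X := C)
  refine ((hA.prod (fun _ => rfl) (fun _ => rfl) hC).ev hs (((glue A C h).comp
    ((Subgroup.subtype _).prodMap (Subgroup.subtype _))).codRestrict _ fun g =>
      ⟨fun x => ?_, glue_left h _ ⟨w, hw⟩ |>.trans (congrArg Subtype.val g.1.2.2.1), hu _ g.1.2 _⟩) fun _ => rfl).mono
    (Set.image_mono fun g hg => ⟨(⟨resEq g.1 A hg.1, fun x => g.2.1 x, Subtype.ext g.2.2.1, 0, by simp⟩,
      ⟨resEq g.1 C hg.2, fun x => g.2.1 x, map_zero _, 0, by simp⟩), Subtype.ext (glue_resEq h _ _ _)⟩)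
  obtain ⟨a, c, rfl⟩ := exists_add_of_isCompl h x
  rw [MonoidHom.comp_apply, glue_add, Q_add_polar, Q_add_polar, ho _ a.2 _ c.2, ho _ (Subtype.prop _) _ (Subtype.prop _)]
  exact congrArg (· + 0) (congrArg₂ (· + ·) (g.1.2.1 a) (g.2.2.1 c))

theorem split' (ih : Lt F n) (hn : finrank F V ≤ n) (hQ : (polarBilin Q).Nondegenerate) (hw : w = 0 ∨ Q w ≠ 0)
    (h : IsCompl A C) (hA : A ≠ ⊥) (hC : C ≠ ⊥) (ho : ∀ a ∈ A, ∀ c ∈ C, polarBilin Q a c = 0) (hwA : w ∈ A)
    {σ : KO Q w 0 →ₙ* End ℂ X} (hs : Skew (MonoidHom.id _) σ ω) {b : KO Q w 0} {S : Subgroup (KO Q w 0)}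
    (hS : ∀ s ∈ S, s * b = b * s) (hb : ∀ g : V ≃ₗ[F] V, g * b = b * g → (∀ a ∈ A, g a ∈ A) ∧ ∀ c ∈ C, g c ∈ C) :
    EvS (σ '' insert b (S : Set (KO Q w 0))) (σ 1) := by
  have h1 := Submodule.finrank_add_eq_of_isCompl h
  have h2 := Submodule.finrank_eq_zero.not.2 hA
  have h3 := Submodule.finrank_eq_zero.not.2 hC
  refine (split h ho hwA (fun _ _ _ => ⟨0, by simp⟩) (ih _ _ (nondeg hQ h ho).1 (by omega) _ _ (hw.imp Subtype.ext id))
    (ih _ _ (nondeg hQ h ho).2 (by omega) _ _ (Or.inl rfl)) hs).mono (Set.image_mono ?_)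
  rintro g (rfl | hg)
  exacts [hb _ rfl, hb _ (congrArg Subtype.val (hS g hg))]

/-- Twisting by a conjugation. -/
theorem tw (hQ : (polarBilin Q).Nondegenerate) {K : Type*} [Group K] {τ : K →* K} (hT : TO K τ)
    (φ : K →* UG (polarBilin Q)) {t : V →+ V} (ht : IsCj (polarBilin Q) t) (h1 : ∀ x, Q (t x) = Q x)
    (h2 : ∀ g x, Q ((φ g).1 x) = Q x) (h3 : ∀ g x, (φ (τ g)).1 (t x) = t ((φ g).1 x)) {σ : KO Q 0 0 →ₙ* End ℂ X}
    (hs : Skew (MonoidHom.id _) σ ω) {b : KO Q 0 0} {S : Subgroup (KO Q 0 0)} (hS : ∀ s ∈ S, s * b = b * s)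
    (hb : ∀ k : UG (polarBilin Q), k.1 * b = b * k → k ∈ φ.range) : EvS (σ '' insert b (S : Set (KO Q 0 0))) (σ 1) := by
  obtain ⟨k, hk⟩ := IsCj.twist (t := AddMonoidHom.id V) (herm_polar hQ) ⟨fun _ _ => rfl, fun _ => rfl, fun _ _ => rfl⟩ ht
  replace hk : ∀ x, k.1 x = t x := hk
  refine (hT.ev_tw hs ((((UG _).subtype.comp φ).codRestrict _ fun g => ⟨h2 g, map_zero _, 0, by simp⟩))
    ⟨k.1, fun x => by rw [hk, h1], map_zero _, 0, by simp⟩ (Subtype.ext (LinearEquiv.ext fun x => ?_)) fun g =>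
      eq_mul_inv_of_mul_eq (Subtype.ext (LinearEquiv.ext fun x => ?_))).mono (Set.image_mono fun g hg => ?_)
  · change k.1 (k.1 x) = x
    rw [hk, hk, ht.invol]
  · change (φ (τ g)).1 (k.1 x) = k.1 ((φ g).1 x)
    rw [hk, hk, h3]
  · obtain ⟨y, hy⟩ := hb ⟨g.1, mem_ug g.2⟩ (hg.elim (fun e => e ▸ rfl) fun hg => congrArg Subtype.val (hS g hg))
    exact ⟨y, Subtype.ext (congrArg Subtype.val hy :)⟩

section
variable (ih : Lt F n) (hn : finrank F V ≤ n) (hQ : (polarBilin Q).Nondegenerate)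
include ih hn hQ

theorem sing (hw : w = 0 ∨ Q w ≠ 0) (hu : u ≠ 0) (h0 : Q u = 0) (huw : polar Q u w = 0) : TI (KO Q w u) := by
  obtain ⟨v, H, h1, h2⟩ := exists_hyp_quad hQ hu h0 hw huw
  exact omir H h0 h1 hw huw h2 (ih _ _ H.nondeg_QW (by have := H.finrank; omega))

theorem sing' (hw : Q w ≠ 0) (hu : u ∉ Submodule.span F {w}) (huw : polar Q u w = 0) : TI (KO Q w u) := by
  obtain ⟨a, ha⟩ := Cls.isSquare_of_two_eq_zero (hyp_two_eq (E := F)) (Q u / Q w)
  rw [← ko_add a]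
  refine sing ih hn hQ (Or.inr hw) (fun e => hu ?_) ?_ ?_
  · rw [eq_neg_of_add_eq_zero_left e]
    exact neg_mem (Submodule.smul_mem _ _ (Submodule.mem_span_singleton_self w))
  · rw [Q_add_polar, polarBilin_apply_apply, polar_smul_right, huw, Q.map_smul, smul_eq_mul, ← ha, div_mul_cancel₀ _ hw,
      CharTwo.add_self_eq_zero, smul_zero, add_zero]
  · rw [polar_add_left, polar_smul_left, huw, ← polarBilin_apply_apply, polar_self_two, smul_zero, add_zero]

theorem aniso (hw : Q w ≠ 0) : TI (KO Q w 0) := by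
  haveI := finite_equiv (E := F) (X := V)
  have w0 : w ≠ 0 := fun e => hw (by rw [e, map_zero])
  have hp : ∀ y, y ∈ perp (polarBilin Q) (Submodule.span F {w}) ↔ polarBilin Q w y = 0 := fun y =>
    ⟨fun h => h w (Submodule.mem_span_singleton_self w), fun h a ha => by
      obtain ⟨c, rfl⟩ := Submodule.mem_span_singleton.1 ha
      rw [map_smul, LinearMap.smul_apply, h, smul_zero]⟩
  have hle : Submodule.span F {w} ≤ perp (polarBilin Q) (Submodule.span F {w}) :=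
    (Submodule.span_singleton_le_iff_mem _ _).2 ((hp w).2 (polar_self_two w))
  rcases hle.eq_or_lt with e | hlt
  · have k : ∀ (g : KO Q w 0) x, ∃ c : F, g.1 x = x + c • w := fun g x => by
      obtain ⟨c, hc⟩ := Submodule.mem_span_singleton.1 (e.ge ((hp (g.1 x - x)).2 (by
        rw [map_sub, ← mem_ug g.2 w x, g.2.2.1, sub_self])))
      exact ⟨c, by rw [hc, add_sub_cancel]⟩
    refine TO.of_comm (fun g h => Subtype.ext (LinearEquiv.ext fun x => ?_)) fun g =>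
      eq_inv_of_mul_eq_one_left (Subtype.ext (LinearEquiv.ext fun x => ?_))
    · obtain ⟨c, hc⟩ := k g x
      obtain ⟨d, hd⟩ := k h x
      change g.1 (h.1 x) = h.1 (g.1 x)
      rw [hc, hd, map_add, map_add, map_smul, map_smul, hc, hd, g.2.2.1, h.2.2.1, add_right_comm]
    · obtain ⟨c, hc⟩ := k g x
      change g.1 (g.1 x) = x
      rw [hc, map_add, map_smul, hc, g.2.2.1, add_assoc, hyp_add_self F, add_zero]
  refine TO.of_brauer (fun _ => rfl) fun X _ _ _ σ ω hs b S hb hS hc => ?_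
  rcases triThm F V _ _ (herm_polar hQ) b.1 (mem_ug b.2) (by rwa [Subgroup.orderOf_coe]) with
    ⟨c, h⟩ | ⟨A, C, h1, h2, h3, h4, h5, h6⟩ | ⟨h, -⟩ | ⟨h, -⟩
  · obtain rfl : c = 1 := smul_left_injective F w0 (((h w).symm.trans b.2.2.1).trans (one_smul F w).symm)
    obtain rfl : b = 1 := Subtype.ext (LinearEquiv.ext fun x => (h x).trans (one_smul F x))
    obtain ⟨x, x1, x2, x3⟩ := exists_fix_mod (KO Q w 0).subtype S hS hlt (fun g _ => span_inv g.2)
      fun g _ => perp_inv (fun _ => span_inv) g.2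
    refine incl ko_le (sing' ih hn hQ hw x2 ((polar_comm _ _ _).trans ((hp x).1 x1))) hs fun g hg => ⟨g.2.1, g.2.2.1, ?_⟩
    obtain ⟨c, hc⟩ := Submodule.mem_span_singleton.1 (x3 g hg)
    exact ⟨c, by rw [hc, add_sub_cancel]; rfl⟩
  · exact split' ih hn hQ (Or.inr hw) h1 h2 h3 h4 (h5 w b.2.2.1) hs hc h6
  · exact absurd (h w b.2.2.1) w0
  · exact absurd (h w b.2.2.1) w0

theorem full (hGL : GLAll.{u}) (hU : UAll.{u}) : TI (KO Q 0 0) := by
  haveI := finite_equiv (E := F) (X := V)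
  rcases subsingleton_or_nontrivial V with _ | _
  · exact TO.of_comm (fun _ _ => Subsingleton.elim _ _) fun _ => Subsingleton.elim _ _
  refine TO.of_brauer (fun _ => rfl) fun X _ _ _ σ ω hs b S hb hS hc => ?_
  have hR : Ref (polarBilin Q) b.1 Q := ⟨Q_add_polar, b.2.1⟩
  rcases triThm F V _ _ (herm_polar hQ) b.1 (mem_ug b.2) (by rwa [Subgroup.orderOf_coe]) with
    ⟨c, h⟩ | ⟨A, C, h1, h2, h3, h4, h5, h6⟩ | ⟨-, Y, β, τ, φ, t, -, h1, h2, h3, h4, h5, -, -, -, h6⟩ |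
    ⟨-, E, _, _, _, _, _, s, B, φ, -, h1, h2, -, -, -, h3, h4, h5, -, h6⟩
  · obtain ⟨x, hx⟩ := exists_ne (0 : V)
    obtain ⟨y, hy⟩ := not_forall.1 fun e => hx ((herm_polar hQ).nd x e)
    have e := mem_ug b.2 x y
    rw [h, h, map_smul, map_smul, LinearMap.smul_apply, smul_smul, smul_eq_mul, mul_eq_right₀ hy, mul_self_eq_one_iff,
      CharTwo.neg_eq, or_self] at e
    obtain rfl : b = 1 := Subtype.ext (LinearEquiv.ext fun x => (h x).trans (e ▸ one_smul F x))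
    obtain ⟨x, -, x2, x3⟩ := exists_fix_mod (KO Q 0 0).subtype S hS bot_lt_top (fun g _ a ha => by
      rw [(Submodule.mem_bot F).1 ha, map_zero]; exact zero_mem _) fun _ _ _ _ => trivial
    refine incl (ko_le (u := x)) ?_ hs fun g hg => ⟨g.2.1, g.2.2.1, 0, by simpa [sub_eq_zero] using x3 g hg⟩
    by_cases h0 : Q x = 0
    · exact sing ih hn hQ (Or.inl rfl) (by simpa using x2) h0 (polar_zero_right _ _)
    · exact ko_swap (Q := Q) ▸ aniso ih hn hQ h0
  · exact split' ih hn hQ (Or.inl rfl) h1 h2 h3 h4 (zero_mem _) hs hc h6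
  · exact tw hQ (hGL F Y β h1 τ h2) φ h3 (h6 Q hR).2.1 (h6 Q hR).2.2 h4 hs hc h5
  · obtain ⟨t, ht⟩ := exists_cj h1 h2
    obtain ⟨τ, hτ⟩ := exists_cjAut_UG h1 ht
    exact tw hQ ((hU E V s B h1 h2).ug h1 ht τ hτ) φ (h5 t ht).1 ((h5 t ht).2 Q hR) (h6 Q hR)
      (fun g x => by rw [h3, h3, hτ]) hs hc h4

theorem step (hGL : GLAll.{u}) (hU : UAll.{u}) : OP Q := fun w u hw => by
  by_cases huw : polar Q u w = 0
  · by_cases hu : u ∈ Submodule.span F {w}
    · obtain ⟨a, rfl⟩ := Submodule.mem_span_singleton.1 hu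
      change TI _
      rw [← zero_add (a • w), ko_add]
      exact hw.elim (fun e => e ▸ full ih hn hQ hGL hU) (aniso ih hn hQ)
    rcases hw with rfl | hw
    · by_cases h0 : Q u = 0
      · exact sing ih hn hQ (Or.inl rfl) (by simpa using hu) h0 huw
      · exact (ko_swap (Q := Q) ▸ aniso ih hn hQ h0 : TI _)
    · exact sing' ih hn hQ hw hu huw
  replace hw := hw.resolve_left fun e => huw (by rw [e, polar_zero_right])
  have hwu : polarBilin Q w u ≠ 0 := by rwa [polarBilin_apply_apply, polar_comm]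
  have m1 : u ∈ Submodule.span F {u, w} := Submodule.subset_span (by simp)
  have m2 : w ∈ Submodule.span F {u, w} := Submodule.subset_span (by simp)
  have h := (herm_polar hQ).isCompl_perp (A := Submodule.span F {u, w}) fun a ha h0 => by
    obtain ⟨α, β, rfl⟩ := Submodule.mem_span_pair.1 ha
    have a1 := h0 u m1
    have a2 := h0 w m2
    simp only [map_add, map_smul, polar_self_two, smul_eq_mul, mul_zero, zero_add, add_zero, mul_eq_zero] at a1 a2
    rw [a1.resolve_right huw, a2.resolve_right hwu, zero_smul, zero_smul, add_zero]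
  have ho : ∀ a ∈ Submodule.span F {u, w}, ∀ c ∈ perp (polarBilin Q) (Submodule.span F {u, w}), polarBilin Q a c = 0 :=
    fun a ha c hc => hc a ha
  have hA : ∀ g ∈ KO Q w u, ∀ a ∈ Submodule.span F {u, w}, g a ∈ Submodule.span F {u, w} := fun g ⟨_, g1, c, g2⟩ a ha => by
    obtain ⟨α, β, rfl⟩ := Submodule.mem_span_pair.1 ha
    rw [map_add, map_smul, map_smul, g1, g2]
    exact add_mem (Submodule.smul_mem _ _ (add_mem m1 (Submodule.smul_mem _ _ m2))) (Submodule.smul_mem _ _ m2)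
  intro X _ _ _ σ ω hs
  refine (split h ho m2 (fun g hg k => ?_) (aniso ih ((Submodule.finrank_le _).trans hn) (nondeg hQ h ho).1 hw)
    (full ih ((Submodule.finrank_le _).trans hn) (nondeg hQ h ho).2 hGL hU) hs).mono ?_
  · obtain ⟨α, β, e⟩ := Submodule.mem_span_pair.1 (g ⟨u, m1⟩).2
    have e1 : polarBilin Q w (g ⟨u, m1⟩) = polarBilin Q w u := by
      have := mem_ug hg ⟨w, m2⟩ ⟨u, m1⟩
      rwa [hg.2.1] at this
    rw [← e, map_add, map_smul, map_smul, polar_self_two, smul_zero, add_zero, smul_eq_mul, mul_eq_right₀ hwu] at e1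
    exact ⟨β, (glue_left h _ ⟨u, m1⟩).trans (by rw [← e, e1, one_smul])⟩
  · rintro _ ⟨g, rfl⟩
    exact ⟨g, ⟨hA g g.2, perp_inv hA g.2⟩, rfl⟩

end

end OFin

theorem oAll_of (hGL : GLAll.{u}) (hU : UAll.{u}) : OAll.{u} := fun F V _ _ _ _ _ _ Q hQ => by
  have key : ∀ n, OFin.Lt F n := fun n => by
    induction n with
    | zero => exact fun _ _ _ _ _ _ h => absurd h (Nat.not_lt_zero _)
    | succ n ih => exact fun _ _ _ _ _ hQ h => OFin.step ih (Nat.le_of_lt_succ h) hQ hGL hU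
  exact key _ V Q hQ (Nat.lt_succ_self _)

end CL.TOr
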