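/-
Project TO: a unipotent isometry of a quadratic space of dimension `2n` in characteristic 2 is inverted by an isometry
of Dickson invariant `n`.
-/
import Cfsg.Agent.TOr.Defs
import Cfsg.Agent.Known.Cl2C

set_option autoImplicit false

namespace CL.TOr

open Module QuadraticMap CL.Cls CL.Cl2 CL.Cl2.Quad

universe u

variable {K : Type u} [Field K]

/-- The isometry of `T` is inverted by an isometry with the right Dickson invariant. -/
def UniGood (T : Quad K) : Prop :=
  Even (finrank K T.V) ∧ ∃ t : OG T.Q, (∀ x, T.g (t.1 (T.g x)) = t.1 x) ∧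
    Even (finrank K (resid t) + finrank K T.V / 2)

theorem uni_iso {T T' : Quad K} (h : iso K True T T') (hT : UniGood T) : UniGood T' := by
  obtain ⟨e, h1, -, h3⟩ := h
  obtain ⟨k0, t, k1, k2⟩ := hT
  refine ⟨e.finrank_eq ▸ k0, OG.congr e (h3 trivial) t, fun x => ?_, ?_⟩
  · obtain ⟨x, rfl⟩ := e.surjective x
    rw [OG.congr_app, OG.congr_app, ← h1 x, e.symm_apply_apply, e.symm_apply_apply, ← h1, k1]
  · have : resid (OG.congr e (h3 trivial) t) = (resid t).map (e : T.V →ₗ[K] T'.V) := by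
      ext y
      simp only [mem_resid, Submodule.mem_map, OG.congr_app]
      constructor
      · rintro ⟨x, rfl⟩
        exact ⟨_, ⟨e.symm x, rfl⟩, by simp⟩
      · rintro ⟨_, ⟨x, rfl⟩, rfl⟩
        exact ⟨e x, by simp⟩
    rw [this, LinearEquiv.finrank_map_eq, ← e.finrank_eq]
    exact k2

theorem uni_qsum {X Y : Quad K} (hX : UniGood X) (hY : UniGood Y) : UniGood (qsum X Y) := by
  obtain ⟨a0, s, a1, a2⟩ := hX
  obtain ⟨b0, t, b1, b2⟩ := hY
  refine ⟨by rw [finrank_qsum]; exact a0.add b0, OG.prodMap X.Q Y.Q (s, t), fun x => Prod.ext (a1 _) (b1 _), ?_⟩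
  have := finrank_resid_prodMap (s, t)
  rw [finrank_qsum]
  erw [this]
  rw [Nat.even_iff] at *
  dsimp only
  omega

theorem uni_zero {T : Quad K} (h : Nil 0 T) : UniGood T := by
  have : Subsingleton T.V := ⟨fun a b => (h.2 a).trans (h.2 b).symm⟩
  rw [UniGood, finrank_zero_of_subsingleton]
  exact ⟨Even.zero, 1, fun _ => Subsingleton.elim _ _, by rw [finrank_resid_one]; exact Even.zero⟩

/-- A single Jordan block of even size. -/
theorem uni_single (h : ORealAll.{u}) [Finite K] [CharP K 2] {T : Quad K} {k : ℕ} {v : Fin 1 → T.V}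
    (hT : Gen T (2 * k + 1) v) : UniGood T := by
  have hQ : (polarBilin T.Q).Nondegenerate := nondeg_iff.2 hT.nil.1.nondeg
  have hd : finrank K T.V = 2 * k + 2 := hT.finrank.trans (mul_one _)
  let g : OG T.Q := ⟨T.g, hT.nil.1.isom⟩
  have hr : resid g = LinearMap.range T.e := rfl
  have h1 : finrank K (resid g) = 2 * k + 1 := by
    have a1 : LinearMap.range (Fintype.linearCombination K v) ⊔ resid g = ⊤ := eq_top_iff.2 fun x _ => by
      obtain ⟨c, y, rfl⟩ := hT.span x
      exact Submodule.add_mem_sup ⟨c, rfl⟩ ⟨y, rfl⟩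
    have a2 := Submodule.finrank_add_le_finrank_add_finrank (LinearMap.range (Fintype.linearCombination K v)) (resid g)
    have a3 := LinearMap.finrank_range_le (Fintype.linearCombination K v)
    rw [a1, finrank_top, hd] at a2
    rw [finrank_fin_fun] at a3
    have a4 : resid g ≠ ⊤ := fun e => by
      have hs : Function.Surjective T.e := LinearMap.range_eq_top.1 (hr ▸ e)
      have hi := LinearMap.injective_iff_surjective.2 hs
      have := hT.inj (Pi.single 0 1) (hi (by rw [e_pow, hT.nil.2, map_zero]))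
      simpa using congrFun this 0
    have a5 := Submodule.finrank_lt a4
    omega
  have h2 : dickson hQ g = -1 := by rw [dickson_apply, h1, pow_succ, pow_mul]; simp
  obtain ⟨t, ht⟩ := isConj_iff.1 (h K T.V T.Q hQ g)
  have key : ∀ s : OG T.Q, s * g * s⁻¹ = g⁻¹ → dickson hQ s = (-1) ^ (k + 1) → UniGood T := fun s a b => by
    refine ⟨hd ▸ ⟨k + 1, by ring⟩, s, fun x => ?_, ?_⟩
    · have : g * (s * g) = s := by rw [mul_inv_eq_iff_eq_mul.1 a, mul_inv_cancel_left]
      exact congrArg (fun y : OG T.Q => y.1 x) this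
    · rw [hd, show (2 * k + 2) / 2 = k + 1 by omega, ← neg_one_pow_eq_one_iff_even (R := ℤˣ) (by decide), pow_add,
        ← dickson_apply hQ, b, ← pow_add, ← two_mul, pow_mul]
      simp
  by_cases e : dickson hQ t = (-1) ^ (k + 1)
  · exact key t ht e
  · refine key (t * g) (by rw [← ht]; group) ?_
    rw [map_mul, h2]
    revert e
    rcases Int.units_eq_one_or (dickson hQ t) with a | a <;>
      rcases Int.units_eq_one_or ((-1 : ℤˣ) ^ (k + 1)) with b | b <;> rw [a, b] <;> decide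

/-- `Gen.iso` with control of the generators. -/
theorem uni_gen_iso {T T' : Quad K} {m r : ℕ} {v : Fin r → T.V} {v' : Fin r → T'.V} (h : Gen T m v) (h' : Gen T' m v')
    (hf : ∀ a b i j, T.f a b (v i) (v j) = T'.f a b (v' i) (v' j))
    (hq : ∀ a i, T.q a (v i) = T'.q a (v' i)) :
    ∃ φ : T.V ≃ₗ[K] T'.V, (∀ x, φ (T.e x) = T'.e (φ x)) ∧ (∀ x, T'.Q (φ x) = T.Q x) ∧ ∀ i, φ (v i) = v' i := by
  let G : Submodule K (T.V × T'.V) :=
    Submodule.span K (Set.range fun p : ℕ × Fin r => ((T.e ^ p.1) (v p.2), (T'.e ^ p.1) (v' p.2)))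
  have g1 : ∀ p ∈ G, ∀ p' ∈ G, polar T'.Q p.2 p'.2 = polar T.Q p.1 p'.1 := fun p hp p' hp' => by
    induction hp, hp' using Submodule.span_induction₂ with
    | mem_mem x y hx hy =>
      obtain ⟨a, rfl⟩ := hx
      obtain ⟨b, rfl⟩ := hy
      exact (hf _ _ _ _).symm
    | zero_left => simp
    | zero_right => simp
    | add_left _ _ _ _ _ _ k1 k2 => simp [k1, k2]
    | add_right _ _ _ _ _ _ k1 k2 => simp [k1, k2]
    | smul_left _ _ _ _ _ k => simp [k]
    | smul_right _ _ _ _ _ k => simp [k]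
  have g2 : ∀ p ∈ G, T'.Q p.2 = T.Q p.1 := fun p hp => by
    induction hp using Submodule.span_induction with
    | mem x hx => obtain ⟨a, rfl⟩ := hx; exact (hq _ _).symm
    | zero => simp
    | add x y hx hy k1 k2 => rw [Prod.fst_add, Prod.snd_add, map_add', map_add', k1, k2, g1 _ hx _ hy]
    | smul c x _ k => rw [Prod.smul_fst, Prod.smul_snd, map_smul', map_smul', k]
  have g3 : ∀ p ∈ G, (T.e p.1, T'.e p.2) ∈ G := fun p hp => by
    induction hp using Submodule.span_induction with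
    | mem x hx =>
      obtain ⟨a, rfl⟩ := hx
      exact Submodule.subset_span ⟨(a.1 + 1, a.2), Prod.ext (e_pow _ _).symm (e_pow _ _).symm⟩
    | zero => rw [Prod.fst_zero, Prod.snd_zero, map_zero, map_zero]; exact G.zero_mem
    | add x y _ _ k1 k2 => simpa using G.add_mem k1 k2
    | smul c x _ k => simpa using G.smul_mem c k
  have s1 : ∀ x, ∃ x', (x, x') ∈ G := fun x => by
    have : x ∈ G.map (LinearMap.fst K _ _) := by
      rw [Submodule.map_span, ← Set.range_comp]
      exact h.span_top.ge Submodule.mem_top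
    obtain ⟨p, hp, rfl⟩ := this
    exact ⟨p.2, hp⟩
  have s2 : ∀ x', ∃ x, (x, x') ∈ G := fun x => by
    have : x ∈ G.map (LinearMap.snd K _ _) := by
      rw [Submodule.map_span, ← Set.range_comp]
      exact h'.span_top.ge Submodule.mem_top
    obtain ⟨p, hp, rfl⟩ := this
    exact ⟨p.1, hp⟩
  obtain ⟨φ, hφ⟩ := Submodule.exists_equiv_eq_graph (G := G)
    ⟨((LinearMap.fst K _ _).comp G.subtype).ker_eq_bot.1 (LinearMap.ker_eq_bot'.2 fun p hp =>
      Subtype.ext (Prod.ext hp (h'.nil.1.nondeg _ fun y => let ⟨x, hx⟩ := s2 y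
        (g1 _ p.2 _ hx).trans (by rw [show p.1.1 = 0 from hp, polar_zero_left])))),
      fun x => let ⟨x', hx⟩ := s1 x; ⟨⟨_, hx⟩, rfl⟩⟩
    ⟨((LinearMap.snd K _ _).comp G.subtype).ker_eq_bot.1 (LinearMap.ker_eq_bot'.2 fun p hp =>
      Subtype.ext (Prod.ext (h.nil.1.nondeg _ fun y => let ⟨x, hx⟩ := s1 y
        (g1 _ p.2 _ hx).symm.trans (by rw [show p.1.2 = 0 from hp, polar_zero_left])) hp)),
      fun x => let ⟨x', hx⟩ := s2 x; ⟨⟨_, hx⟩, rfl⟩⟩
  have m1 : ∀ x, (x, φ x) ∈ G := fun x => hφ ▸ rfl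
  refine ⟨φ, fun x => ?_, fun x => g2 _ (m1 x), fun i => ?_⟩
  · have := g3 _ (m1 x)
    rw [hφ] at this
    exact Eq.symm this
  · have : ((T.e ^ 0) (v i), (T'.e ^ 0) (v' i)) ∈ G := Submodule.subset_span ⟨(0, i), rfl⟩
    rw [hφ] at this
    exact Eq.symm this

/-- The same space with the inverse isometry. -/
abbrev uniInv (T : Quad K) : Quad K := ⟨T.V, T.Q, T.g.symm⟩

theorem uni_g_e {T : Quad K} (x : T.V) : T.g (T.e x) = T.e (T.g x) := by
  simp [Quad.e]

theorem uni_g_pow {T : Quad K} (a : ℕ) (x : T.V) : T.g ((T.e ^ a) x) = (T.e ^ a) (T.g x) := by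
  induction a with
  | zero => rfl
  | succ a ih => rw [← e_pow, uni_g_e, ih, e_pow]

theorem uni_symm_pow {T : Quad K} (a : ℕ) (x : T.V) : T.g.symm ((T.e ^ a) x) = (T.e ^ a) (T.g.symm x) :=
  T.g.injective (by rw [uni_g_pow, T.g.apply_symm_apply, T.g.apply_symm_apply])

theorem uniInv_e {T : Quad K} (x : T.V) : (uniInv T).e x = -T.g.symm (T.e x) := by
  change T.g.symm x - x = -T.g.symm (T.g x - x)
  rw [map_sub, T.g.symm_apply_apply, neg_sub]

theorem uniInv_OK {T : Quad K} (h : T.OK) : (uniInv T).OK :=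
  ⟨h.nondeg, fun x => (h.isom _).symm.trans (congrArg T.Q (T.g.apply_symm_apply x))⟩

/-- `e' ^ a x` is the image of `e ^ a x` under an isometry which is `± 1` on fixed vectors. -/
theorem uniInv_pow {T : Quad K} (h : T.OK) (a : ℕ) : ∃ s : T.V ≃ₗ[K] T.V, (∀ x, T.Q (s x) = T.Q x) ∧
    (∀ x, s (T.e x) = T.e (s x)) ∧ (∀ x, T.g.symm (s x) = s (T.g.symm x)) ∧
    (∀ x, T.e x = 0 → s x = (-1 : K) ^ a • x) ∧ ∀ x : T.V, ((uniInv T).e ^ a) x = s ((T.e ^ a) x) := by
  induction a with
  | zero => exact ⟨1, fun _ => rfl, fun _ => rfl, fun _ => rfl, fun _ _ => by simp, fun _ => rfl⟩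
  | succ a ih =>
    obtain ⟨s, s1, s2, s3, s4, s5⟩ := ih
    refine ⟨(s.trans T.g.symm).trans (LinearEquiv.neg K), fun x => ?_, fun x => ?_, fun x => ?_, fun x hx => ?_,
      fun x => ?_⟩
    · change T.Q (-T.g.symm (s x)) = _
      rw [QuadraticMap.map_neg, ← s1 x]
      exact (uniInv_OK h).isom _
    · change -T.g.symm (s (T.e x)) = T.e (-T.g.symm (s x))
      rw [s2, map_neg]
      exact congrArg _ (uni_symm_pow 1 _)
    · change T.g.symm (-T.g.symm (s x)) = -T.g.symm (s (T.g.symm x))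
      rw [map_neg, s3]
    · change -T.g.symm (s x) = _
      have : T.g.symm x = x := T.g.symm_apply_eq.2 (by rw [g_eq, hx, zero_add])
      rw [s4 x hx, map_smul, this, pow_succ, mul_neg_one, neg_smul]
    · change _ = -T.g.symm (s ((T.e ^ (a + 1)) x))
      rw [← e_pow (T := T), s2, ← s5, ← uniInv_e]
      exact (e_pow (T := uniInv T) a x).symm

theorem uniInv_q {T : Quad K} (h : T.OK) (a : ℕ) (x : T.V) : (uniInv T).q a x = T.q a x := by
  obtain ⟨s, s1, -, -, -, s5⟩ := uniInv_pow h a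
  exact (congrArg T.Q (s5 x)).trans (s1 _)

theorem uniInv_nil {T : Quad K} {m : ℕ} (h : Nil m T) : Nil m (uniInv T) := by
  obtain ⟨s, -, -, -, -, s5⟩ := uniInv_pow h.1 m
  exact ⟨uniInv_OK h.1, fun x => (s5 x).trans (by rw [h.2, map_zero])⟩

theorem uniInv_adj {T : Quad K} (h : T.OK) (a : ℕ) (x y : T.V) :
    polar T.Q (((uniInv T).e ^ a) x : T.V) y = polar T.Q x ((T.e ^ a) y) := by
  induction a generalizing y with
  | zero => rfl
  | succ a ih =>
    rw [← pow_e1 (T := T), ← ih]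
    have e1 : (((uniInv T).e ^ (a + 1)) x : T.V) =
        T.g.symm (((uniInv T).e ^ a) x : T.V) - (((uniInv T).e ^ a) x : T.V) := (e_pow (T := uniInv T) a x).symm
    rw [e1]
    generalize (((uniInv T).e ^ a) x : T.V) = z
    change _ = polar T.Q z (T.g y - y)
    rw [polar_sub_left, polar_sub_right, ← h.polar_g (T.g.symm z), T.g.apply_symm_apply]

/-- The residual space of an involution which swaps two complementary subspaces. -/
theorem uni_swap {V : Type*} [AddCommGroup V] [Module K V] {Q : QuadraticForm K V} (t : OG Q)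
    (ht : ∀ x, t.1 (t.1 x) = x) {A B : Submodule K V} (hc : IsCompl A B) (hA : ∀ x ∈ A, t.1 x ∈ B)
    (hB : ∀ x ∈ B, t.1 x ∈ A) : finrank K (resid t) = finrank K A := by
  have : resid t = LinearMap.range (((t.1 : V →ₗ[K] V) - LinearMap.id) ∘ₗ A.subtype) := by
    refine le_antisymm ?_ (LinearMap.range_comp_le_range _ _)
    rintro _ ⟨x, rfl⟩
    obtain ⟨a, ha, b, hb, rfl⟩ := Submodule.mem_sup.1 (hc.sup_eq_top ▸ Submodule.mem_top (x := x))
    refine ⟨⟨a - t.1 b, A.sub_mem ha (hB b hb)⟩, ?_⟩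
    simp [ht]
    abel
  rw [this]
  refine LinearMap.finrank_range_of_inj (LinearMap.ker_eq_bot.1 (LinearMap.ker_eq_bot'.2 fun a ha => ?_))
  have e : t.1 a = a := by simpa [sub_eq_zero] using ha
  exact Subtype.ext (Submodule.disjoint_def.1 hc.disjoint _ a.2 (e ▸ hA _ a.2))

/-- The cyclic submodule. -/
def uniC (T : Quad K) (x : T.V) : Submodule K T.V := Submodule.span K (Set.range fun i : ℕ => (T.e ^ i) x)

theorem uniC_mem {T : Quad K} (x : T.V) (i : ℕ) : (T.e ^ i) x ∈ uniC T x := Submodule.subset_span ⟨i, rfl⟩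

theorem uniC_finrank {T : Quad K} {m : ℕ} (h : Nil m T) (x : T.V) : finrank K (uniC T x) ≤ m := by
  have : uniC T x ≤ Submodule.span K (Set.range fun i : Fin m => (T.e ^ (i : ℕ)) x) := Submodule.span_le.2 <| by
    rintro _ ⟨i, rfl⟩
    by_cases hi : i < m
    · exact Submodule.subset_span ⟨⟨i, hi⟩, rfl⟩
    · change (T.e ^ i) x ∈ _
      rw [pow_of_le (h.2 x) (not_lt.1 hi)]
      exact Submodule.zero_mem _
  exact (Submodule.finrank_mono this).trans ((finrank_range_le_card _).trans (Fintype.card_fin m).le)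

theorem uniC_inv {T : Quad K} (x : T.V) (i : ℕ) : (((uniInv T).e ^ i) x : T.V) ∈ uniC T x := by
  have h1 : ∀ y ∈ uniC T x, T.e y ∈ uniC T x := fun y hy => by
    induction hy using Submodule.span_induction with
    | mem y hy => obtain ⟨a, rfl⟩ := hy; exact e_pow a x ▸ uniC_mem x _
    | zero => simp
    | add y z _ _ k1 k2 => simpa using add_mem k1 k2
    | smul c y _ k => simpa using Submodule.smul_mem _ c k
  have h2 : (uniC T x).map (T.g : T.V →ₗ[K] T.V) = uniC T x :=
    Submodule.eq_of_le_of_finrank_eq (by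
      rintro _ ⟨y, hy, rfl⟩
      change T.g y ∈ _
      rw [g_eq]
      exact add_mem (h1 y hy) hy) (LinearEquiv.finrank_map_eq _ _)
  have h3 : ∀ y ∈ uniC T x, T.g.symm y ∈ uniC T x := fun y hy => by
    rw [← h2] at hy
    obtain ⟨z, hz, rfl⟩ := hy
    simpa using hz
  induction i with
  | zero => exact uniC_mem x 0
  | succ i ih =>
    have e1 : (((uniInv T).e ^ (i + 1)) x : T.V) =
        T.g.symm (((uniInv T).e ^ i) x : T.V) - (((uniInv T).e ^ i) x : T.V) := (e_pow (T := uniInv T) i x).symm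
    rw [e1]
    exact sub_mem (h3 _ ih) ih

/-- A pair of Jordan blocks. -/
theorem uni_pair (h2 : (2 : K) = 0) {T : Quad K} {m : ℕ} {v w : T.V} (hT : Gen T m ![v, w])
    (hq : ∀ j, T.q j v = T.q j w) : UniGood T := by
  have ok := hT.nil.1
  have hd : finrank K T.V = 2 * (m + 1) := hT.finrank.trans (mul_comm _ _)
  have hT' : Gen (uniInv T) m ![w, v] := by
    refine ⟨uniInv_nil hT.nil, fun x => ?_, fun c hc => ?_⟩
    · obtain ⟨c, y, e⟩ := hT.span x
      refine ⟨![c 1, c 0], -T.g y, ?_⟩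
      rw [lc_two (T := uniInv T)]
      rw [lc_two] at e
      refine e.trans ?_
      have : (uniInv T).e (-T.g y) = T.e y := by
        refine (uniInv_e (-T.g y)).trans ?_
        rw [map_neg, map_neg, neg_neg, ← uni_g_e, T.g.symm_apply_apply]
      rw [this, add_comm (c 0 • v)]
      rfl
    · obtain ⟨s, -, -, -, -, s5⟩ := uniInv_pow ok m
      rw [lc_two (T := uniInv T)] at hc
      have e := hT.inj ![c 1, c 0] (s.injective (by
        rw [lc_two, add_comm, map_zero]
        exact (s5 _).symm.trans hc))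
      exact funext (Fin.forall_fin_two.2 ⟨congrFun e 1, congrFun e 0⟩)
  have c := f_eq_cross hT.nil hT'.nil (x := v) (y := w) (x' := w) (y' := v) fun i =>
    (polar_comm _ _ _).trans (uniInv_adj ok i w v).symm
  obtain ⟨φ, p1, p2, p3⟩ := uni_gen_iso hT hT'
    (fun a b => Fin.forall_fin_two.2 ⟨Fin.forall_fin_two.2
      ⟨f_eq_diag h2 ok hT'.nil.1 (fun j => (hq _).trans (uniInv_q ok _ w).symm) a b, c a b⟩,
      Fin.forall_fin_two.2 ⟨(f_comm _ _ _ _).trans ((c b a).trans (f_comm _ _ _ _)),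
        f_eq_diag h2 ok hT'.nil.1 (fun j => (hq _).symm.trans (uniInv_q ok _ v).symm) a b⟩⟩)
    fun a => Fin.forall_fin_two.2 ⟨(hq _).trans (uniInv_q ok _ w).symm, (hq _).symm.trans (uniInv_q ok _ v).symm⟩
  let t : OG T.Q := ⟨φ, p2⟩
  have tv : t.1 v = w := p3 0
  have tw : t.1 w = v := p3 1
  have t1 : ∀ x, t.1 (T.e x) = T.g.symm (t.1 x) - t.1 x := p1
  have t2 : ∀ x, t.1 (T.g x) = T.g.symm (t.1 x) := fun x => by rw [g_eq, map_add, t1, sub_add_cancel]
  have t3 : ∀ x, t.1 (T.g.symm x) = T.g (t.1 x) := fun x => T.g.symm.injective (by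
    rw [← t2, T.g.apply_symm_apply, T.g.symm_apply_apply])
  have t4 : ∀ i x, t.1 ((T.e ^ i) x) = ((uniInv T).e ^ i) (t.1 x) := fun i x => by
    induction i with
    | zero => rfl
    | succ i ih => rw [← e_pow, t1, ih]; exact e_pow (T := uniInv T) i _
  have t5 : ∀ i x, t.1 (t.1 ((T.e ^ i) x)) = (T.e ^ i) (t.1 (t.1 x)) := fun i x => by
    induction i with
    | zero => rfl
    | succ i ih => rw [← e_pow, t1, map_sub, t3, ih, ← e_pow, g_eq, add_sub_cancel_right]
  have t6 : ∀ x, t.1 (t.1 x) = x := fun x => by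
    have hx : x ∈ Submodule.span K _ := hT.span_top.ge Submodule.mem_top
    induction hx using Submodule.span_induction with
    | mem x hx =>
      obtain ⟨⟨i, j⟩, rfl⟩ := hx
      revert j
      refine Fin.forall_fin_two.2 ⟨?_, ?_⟩
      · change t.1 (t.1 ((T.e ^ i) v)) = (T.e ^ i) v
        rw [t5, tv, tw]
      · change t.1 (t.1 ((T.e ^ i) w)) = (T.e ^ i) w
        rw [t5, tw, tv]
    | zero => simp
    | add x y _ _ k1 k2 => rw [map_add, map_add, k1, k2]
    | smul a x _ k => rw [map_smul, map_smul, k]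
  have t7 : ∀ x, ∀ y ∈ uniC T x, t.1 y ∈ uniC T (t.1 x) := fun x y hy => by
    induction hy using Submodule.span_induction with
    | mem y hy => obtain ⟨a, rfl⟩ := hy; exact t4 a x ▸ uniC_inv _ a
    | zero => simp
    | add y z _ _ k1 k2 => simpa using add_mem k1 k2
    | smul c y _ k => simpa using Submodule.smul_mem _ c k
  have u1 : uniC T v ⊔ uniC T w = ⊤ := eq_top_iff.2 (hT.span_top.ge.trans (Submodule.span_le.2 (by
    rintro _ ⟨⟨i, j⟩, rfl⟩
    revert j
    exact Fin.forall_fin_two.2 ⟨Submodule.mem_sup_left (uniC_mem v i), Submodule.mem_sup_right (uniC_mem w i)⟩)))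
  have u2 := Submodule.finrank_sup_add_finrank_inf_eq (uniC T v) (uniC T w)
  have u3 := uniC_finrank hT.nil v
  have u4 := uniC_finrank hT.nil w
  rw [u1, finrank_top, hd] at u2
  have u5 : uniC T v ⊓ uniC T w = ⊥ := Submodule.finrank_eq_zero.1 (by omega)
  have u6 := uni_swap t t6 ⟨disjoint_iff.2 u5, codisjoint_iff.2 u1⟩ (tv ▸ t7 v) (tw ▸ t7 w)
  refine ⟨hd ▸ even_two_mul _, t, fun x => by rw [t2, T.g.apply_symm_apply], ?_⟩
  rw [u6, hd, Nat.even_iff]
  omega

theorem uni_main (h : ORealAll.{u}) [Finite K] [CharP K 2] (n : ℕ) :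
    ∀ T : Quad K, finrank K T.V = n → ∀ m, Nil m T → UniGood T := by
  have h2 : (2 : K) = 0 := CharTwo.two_eq_zero
  induction n using Nat.strong_induction_on with
  | _ n ihn =>
  intro T hn m
  induction m with
  | zero => exact uni_zero
  | succ m ihm =>
  intro hT
  by_cases hm : Nil m T
  · exact ihm hm
  have fin : ∀ {r : ℕ} {X Y : Quad K} {v : Fin r → X.V}, 0 < r → Gen X m v → UniGood X → Nil (m + 1) Y →
      iso K True (qsum X Y) T → UniGood T := fun hr g1 g2 g3 g4 => by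
    have e := iso_finrank g4
    rw [finrank_qsum, g1.finrank, hn] at e
    exact uni_iso g4 (uni_qsum g2 (ihn _ (by have := Nat.mul_pos (Nat.add_one_pos m) hr; omega) _ rfl _ g3))
  by_cases hγ : ∀ x, T.f m 0 x x = 0
  · obtain ⟨v, w, h3, h4⟩ : ∃ v w, T.f m 0 v w = 1 ∧ ∀ j, 2 * j = m → T.q j v = T.q j w := by
      obtain ⟨w, hw⟩ : ∃ w, (T.e ^ m) w ≠ 0 := not_forall.1 fun e => hm ⟨hT.1, e⟩
      rcases Nat.even_or_odd' m with ⟨k, rfl | rfl⟩
      swap
      · obtain ⟨v, hv⟩ := hT.exists_γ hw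
        exact ⟨v, w, hv, fun j hj => by omega⟩
      obtain ⟨w, hw, hq⟩ : ∃ w, (T.e ^ (2 * k)) w ≠ 0 ∧ T.q k w ≠ 0 := by
        obtain ⟨z, hz⟩ : ∃ z, T.q k z ≠ 0 := not_forall.1 fun e => hm (hT.of_q h2 e)
        by_contra! c
        have e : (T.e ^ (2 * k)) z = 0 := by_contra fun e => hz (c z e)
        have := c (z + w) (by rwa [map_add, e, zero_add])
        rw [q_add, c w hw, hT.1.f_zero e _ (by omega), add_zero, add_zero] at this
        exact hz this
      obtain ⟨v, hv⟩ := hT.exists_γ hw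
      obtain ⟨s, hs⟩ := exists_sqrt h2 (T.q k w)
      refine ⟨s • v, s • (v + (T.q k w)⁻¹ • w), ?_, fun j hj => ?_⟩
      · simp only [map_add, map_smul, LinearMap.smul_apply, smul_eq_mul, hγ, hv]
        rw [← hs] at hq ⊢
        have : s ≠ 0 := fun e => hq (by rw [e]; simp)
        field_simp
        simp
      · obtain rfl : j = k := by omega
        rw [q_smul, q_smul, q_add, q_smul, map_smul, hT.f_top h2 _ _ (two_mul j).symm, hv, smul_eq_mul]
        congr 1
        field_simp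
        linear_combination -h2
    obtain ⟨v', w', h5, h6⟩ := hT.pair_norm h2 hγ h3
    have h7 := (h5 _).trans (if_pos rfl)
    obtain ⟨U, W, hU, hW, hv', g1, g2, g3, -, -⟩ := hT.split h2 ![v', w'] fun c hc => by
      have e0 := hc 0
      have e1 := hc 1
      simp only [lc_two, map_add, map_smul, LinearMap.add_apply, LinearMap.smul_apply, Matrix.cons_val_zero,
        Matrix.cons_val_one, hγ, h7, hT.γ_comm h2 w' v', smul_eq_mul, mul_zero, mul_one, zero_add, add_zero] at e0 e1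
      exact funext (Fin.forall_fin_two.2 ⟨e1, e0⟩)
    refine fin two_pos g1 (uni_pair h2 (m := m) (v := (⟨v', hv' 0⟩ : U)) (w := (⟨w', hv' 1⟩ : U)) ?_ fun j => ?_) g2 g3
    · refine (congrArg (Gen (qres T U hU) _) (funext ?_)).mp g1
      exact Fin.forall_fin_two.2 ⟨rfl, rfl⟩
    · refine (qres_q j _).trans (((h6 j).1.trans (Eq.trans ?_ (h6 j).2.symm)).trans (qres_q (hW := hU) j ⟨w', hv' 1⟩).symm)
      split_ifs with e
      exacts [h4 j e, rfl]
  · obtain ⟨v, hv⟩ := not_forall.1 hγ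
    rcases Nat.even_or_odd' m with ⟨k, rfl | rfl⟩
    · exact absurd (hT.γ_even h2 v) hv
    obtain ⟨U, W, hU, hW, hv', g1, g2, g3, -, -⟩ := hT.split h2 ![v] fun c hc => by
      have := hc 0
      rw [lc_one, map_smul, LinearMap.smul_apply, Matrix.cons_val_zero, smul_eq_mul] at this
      exact funext fun i => (Subsingleton.elim i 0) ▸ (mul_eq_zero.1 this).resolve_right hv
    exact fin one_pos g1 (uni_single h g1) g2 g3

theorem uniReal (h : ORealAll.{u}) : UniReal.{u} := by
  intro F V _ _ _ _ _ _ Q hQ g k hk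
  let T : Quad F := ⟨V, Q, g.1⟩
  have h2 : (2 : End F V) = 0 := by
    ext x
    rw [← one_add_one_eq_two, LinearMap.add_apply, End.one_apply, ← two_smul F, CharTwo.two_eq_zero, zero_smul]
    rfl
  have e : ∀ (a : End F V) (j : ℕ), (a - 1) ^ 2 ^ j = a ^ 2 ^ j - 1 := fun a j => by
    induction j with
    | zero => simp
    | succ j ih =>
      rw [pow_succ, pow_mul, pow_mul, ih]
      generalize a ^ 2 ^ j = b
      have : (b - 1) ^ 2 = b ^ 2 - 1 + 2 * (1 - b) := by noncomm_ring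
      rw [this, h2, zero_mul, add_zero]
  have hT : Nil (2 ^ k) T := ⟨⟨nondeg_iff.1 hQ, g.2⟩, fun x => by
    change (((g.1 : End F V) - 1) ^ 2 ^ k : End F V) x = 0
    have : (g.1 : End F V) ^ 2 ^ k = 1 := by
      have := congrArg (fun y : OG Q => ((LinearEquiv.automorphismGroup.toLinearMapMonoidHom.comp (OG Q).subtype) y)) hk
      simp only [map_pow, map_one] at this
      exact this
    rw [e, this, sub_self, LinearMap.zero_apply]⟩
  obtain ⟨-, t, t1, t2⟩ := uni_main h _ T rfl _ hT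
  refine ⟨t, ?_, ?_⟩
  · have : g * (t * g) = t := OG.ext' t1
    rw [mul_inv_eq_iff_eq_mul, eq_inv_mul_iff_mul_eq]
    exact this
  · rw [dickson_apply]
    rw [← neg_one_pow_eq_one_iff_even (R := ℤˣ) (by decide), pow_add] at t2
    rw [eq_inv_of_mul_eq_one_left t2, Int.units_inv_eq_self]

end CL.TOr
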