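/-
Project TO: an isometry of a quadratic space of dimension `2n` in characteristic 2 is inverted by an isometry of
Dickson invariant `n`.
-/
import Cfsg.Agent.TOr.Defs3
import Cfsg.Agent.TOr.Rep
import Cfsg.Agent.TOr.Small
import Cfsg.Agent.TOr.Tri2
import Cfsg.Agent.TOr.Uni
import Cfsg.Agent.Cls.SympBasis

set_option autoImplicit false

namespace CL.TOr

open Module QuadraticMap CL.Cls

universe u

theorem oReal_of (h : OAll.{u}) : ORealAll.{u} := fun F V _ _ _ _ _ _ Q hQ g => by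
  have : Finite (V ≃ₗ[F] V) := finite_equiv
  exact TO.isConj (τ := MonoidHom.id _) (fun _ => rfl) (h F V Q hQ).og g

section Aux

variable {F V : Type u} [Field F] [CharP F 2] [AddCommGroup V] [Module F V] [FiniteDimensional F V]
  {Q : QuadraticForm F V}

theorem real_even (hQ : (polarBilin Q).Nondegenerate) : Even (finrank F V) :=
  even_finrank_of_alt (polarBilin Q) (herm_polar hQ).nd fun x => polar_self_two x

theorem real_half (hQ : (polarBilin Q).Nondegenerate) (h : OG Q) {X Y : Submodule F V} (hc : IsCompl X Y)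
    (hY : ∀ y ∈ Y, h.1 y ∈ Y) (iX : ∀ x ∈ X, ∀ y ∈ X, polarBilin Q x y = 0)
    (iY : ∀ x ∈ Y, ∀ y ∈ Y, polarBilin Q x y = 0) :
    finrank F X + finrank F (Y.map ((h.1 : V →ₗ[F] V) - LinearMap.id)) ≤
      finrank F Y + finrank F (X.map ((h.1 : V →ₗ[F] V) - LinearMap.id)) := by
  have hB := herm_polar hQ
  set D : V →ₗ[F] V := (h.1 : V →ₗ[F] V) - LinearMap.id with hD
  have key : ∀ z : V, (∀ x ∈ X, polarBilin Q x z = 0) → (∀ y ∈ Y, polarBilin Q y z = 0) → z = 0 := fun z h1 h2 =>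
    hB.nd_right z fun x => by
      obtain ⟨a, c, rfl⟩ := exists_add_of_isCompl hc x
      rw [map_add, LinearMap.add_apply, h1 _ a.2, h2 _ c.2, add_zero]
  have h1 : perp (polarBilin Q) (X.map D ⊔ Y) ≤ (LinearMap.ker (D.domRestrict Y)).map Y.subtype := fun z hz => by
    have hz1 : ∀ y ∈ Y, polarBilin Q y z = 0 := fun y hy => hz y (Submodule.mem_sup_right hy)
    obtain ⟨a, c, rfl⟩ := exists_add_of_isCompl hc z
    have ha : (a : V) = 0 := key a (fun x hx => iX x hx _ a.2) fun y hy => by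
      have := hz1 y hy
      rwa [map_add, iY y hy _ c.2, add_zero] at this
    rw [ha, zero_add] at hz ⊢
    refine ⟨c, ?_, rfl⟩
    have hs : Function.Surjective (resEq h.1 Y hY) := (resEq h.1 Y hY).surjective
    obtain ⟨c', hc'⟩ := hs c
    have hc'' : h.1 c' = c := congrArg Subtype.val hc'
    have : (c' : V) - c = 0 := key _ (fun x hx => by
      have := hz (D x) (Submodule.mem_sup_left ⟨x, hx, rfl⟩)
      rw [hD, LinearMap.sub_apply, map_sub, LinearMap.sub_apply, LinearMap.id_apply] at this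
      rw [map_sub, ← this]
      congr 1
      rw [← hc'']
      exact (OG.polar_app h x c').symm) fun y hy => iY y hy _ (Y.sub_mem c'.2 c.2)
    rw [sub_eq_zero] at this
    change h.1 c - c = 0
    rw [sub_eq_zero, ← this, hc'', this]
  have h2 := Submodule.finrank_mono h1
  rw [Submodule.finrank_map_subtype_eq] at h2
  have h3 := hB.finrank_perp (X.map D ⊔ Y)
  have h4 := Submodule.finrank_add_le_finrank_add_finrank (X.map D) Y
  have h5 := (D.domRestrict Y).finrank_range_add_finrank_ker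
  rw [LinearMap.range_domRestrict] at h5
  have h6 := Submodule.finrank_add_eq_of_isCompl hc
  omega

theorem real_lev (hQ : (polarBilin Q).Nondegenerate) (h : OG Q) {X Y : Submodule F V} (hc : IsCompl X Y)
    (hX : ∀ y ∈ X, h.1 y ∈ X) (hY : ∀ y ∈ Y, h.1 y ∈ Y) (iX : ∀ x ∈ X, ∀ y ∈ X, polarBilin Q x y = 0)
    (iY : ∀ x ∈ Y, ∀ y ∈ Y, polarBilin Q x y = 0) : dickson hQ h = 1 := by
  have h1 := real_half hQ h hc hY iX iY
  have h2 := real_half hQ h hc.symm hX iY iX
  have h3 := real_even hQ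
  have h6 := Submodule.finrank_add_eq_of_isCompl hc
  set D : V →ₗ[F] V := (h.1 : V →ₗ[F] V) - LinearMap.id with hD
  have h4 : resid h = X.map D ⊔ Y.map D := by
    rw [← Submodule.map_sup, hc.sup_eq_top, Submodule.map_top]; rfl
  have h5 := Submodule.finrank_sup_add_finrank_inf_eq (X.map D) (Y.map D)
  have h7 : X.map D ⊓ Y.map D = ⊥ := by
    refine eq_bot_iff.2 (le_trans (inf_le_inf ?_ ?_) hc.inf_eq_bot.le)
    · rintro _ ⟨x, hx, rfl⟩
      exact X.sub_mem (hX x hx) hx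
    · rintro _ ⟨x, hx, rfl⟩
      exact Y.sub_mem (hY x hx) hx
  rw [h7, finrank_bot, ← h4] at h5
  rw [dickson_eq_one_iff, Nat.even_iff] at *
  omega

omit [CharP F 2] [FiniteDimensional F V] in
/-- A conjugation for the identity that preserves `Q` is an isometry. -/
theorem real_T {t : V →+ V} (ht : IsCj (polarBilin Q) t) (hq : ∀ x, Q (t x) = Q x) :
    ∃ T : OG Q, ∀ x, T.1 x = t x :=
  ⟨⟨{ toFun := t, map_add' := t.map_add, map_smul' := ht.smul, invFun := t, left_inv := ht.invol,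
      right_inv := ht.invol }, hq⟩, fun _ => rfl⟩

omit [CharP F 2] [FiniteDimensional F V] in
theorem real_inv {G : Type*} [Group G] (φ : G →* OG Q) (τ : G →* G) (T : OG Q)
    (hT : ∀ g, φ (τ g) * T = T * φ g) {g : G} (hg : IsConj (τ g) g⁻¹) :
    ∃ c, φ c * T * φ g * (φ c * T)⁻¹ = (φ g)⁻¹ := by
  obtain ⟨c, hc⟩ := isConj_iff.1 hg
  refine ⟨c, ?_⟩
  rw [← map_inv, ← hc, map_mul, map_mul, map_inv, mul_assoc (φ c) T, ← hT]
  group

theorem real_res {A C : Submodule F V} (hQ : (polarBilin Q).Nondegenerate) (h : IsCompl A C)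
    (ho : ∀ a ∈ A, ∀ c ∈ C, polarBilin Q a c = 0) :
    (polarBilin (Q.comp A.subtype)).Nondegenerate ∧ (polarBilin (Q.comp C.subtype)).Nondegenerate := by
  have e : ∀ A : Submodule F V, polarBilin (Q.comp A.subtype) = (polarBilin Q).domRestrict₁₂ A A := fun A => by
    ext x y; rfl
  have := (herm_polar hQ).restrict h ho
  exact ⟨nondeg_of_herm (by rw [e]; exact this.1), nondeg_of_herm (by rw [e]; exact this.2)⟩

theorem real_split {A C : Submodule F V} (hQ : (polarBilin Q).Nondegenerate) (h : IsCompl A C)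
    (ho : ∀ a ∈ A, ∀ c ∈ C, polarBilin Q a c = 0) (g : OG Q) (hA : ∀ a ∈ A, g.1 a ∈ A) (hC : ∀ a ∈ C, g.1 a ∈ C)
    (iA : ∀ g : OG (Q.comp A.subtype), ∃ t : OG (Q.comp A.subtype), t * g * t⁻¹ = g⁻¹ ∧
      dickson (real_res hQ h ho).1 t = (-1) ^ (finrank F A / 2))
    (iC : ∀ g : OG (Q.comp C.subtype), ∃ t : OG (Q.comp C.subtype), t * g * t⁻¹ = g⁻¹ ∧
      dickson (real_res hQ h ho).2 t = (-1) ^ (finrank F C / 2)) :
    ∃ t : OG Q, t * g * t⁻¹ = g⁻¹ ∧ dickson hQ t = (-1) ^ (finrank F V / 2) := by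
  have he : ∀ v, Q (A.prodEquivOfIsCompl C h v) = ((Q.comp A.subtype).prod (Q.comp C.subtype)) v := fun v => by
    change Q (v.1 + v.2) = Q v.1 + Q v.2
    rw [Q_add_polar, ho _ v.1.2 _ v.2.2, add_zero]
  let gA : OG (Q.comp A.subtype) := ⟨resEq g.1 A hA, fun a => g.2 a⟩
  let gC : OG (Q.comp C.subtype) := ⟨resEq g.1 C hC, fun a => g.2 a⟩
  obtain ⟨tA, a1, a2⟩ := iA gA
  obtain ⟨tC, c1, c2⟩ := iC gC
  let ψ : OG (Q.comp A.subtype) × OG (Q.comp C.subtype) →* OG Q :=
    (OG.congr (A.prodEquivOfIsCompl C h) he).toMonoidHom.comp (OG.prodMap _ _)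
  have hg : ψ (gA, gC) = g := Subtype.ext (glue_resEq h g.1 hA hC)
  refine ⟨ψ (tA, tC), ?_, ?_⟩
  · rw [← hg, ← map_inv, ← map_inv, ← map_mul, ← map_mul]
    exact congrArg ψ (Prod.ext a1 c1)
  · have : resid (ψ (tA, tC)) =
        (resid (OG.prodMap _ _ (tA, tC))).map (A.prodEquivOfIsCompl C h : A × C →ₗ[F] V) := by
      ext y
      simp only [mem_resid, Submodule.mem_map]
      constructor
      · rintro ⟨x, rfl⟩
        refine ⟨_, ⟨(A.prodEquivOfIsCompl C h).symm x, rfl⟩, ?_⟩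
        rw [map_sub, LinearEquiv.coe_coe, LinearEquiv.apply_symm_apply]; rfl
      · rintro ⟨_, ⟨x, rfl⟩, rfl⟩
        refine ⟨A.prodEquivOfIsCompl C h x, ?_⟩
        rw [map_sub, LinearEquiv.coe_coe]
        congr 1
        change A.prodEquivOfIsCompl C h ((OG.prodMap _ _ (tA, tC)).1
          ((A.prodEquivOfIsCompl C h).symm (A.prodEquivOfIsCompl C h x))) = _
        rw [LinearEquiv.symm_apply_apply]
    rw [dickson_apply] at a2 c2 ⊢
    rw [this, LinearEquiv.finrank_map_eq, finrank_resid_prodMap, pow_add, a2, c2, ← pow_add]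
    obtain ⟨m, hm⟩ := real_even (real_res hQ h ho).1
    obtain ⟨n, hn⟩ := real_even (real_res hQ h ho).2
    have := Submodule.finrank_add_eq_of_isCompl h
    congr 1
    omega

end Aux

theorem realThm_of (hGL : GLAll.{u}) (hU : UAll.{u}) (hO : ORealAll.{u}) : RealThm.{u} := by
  intro F V _ _ _ _ _ _ Q hQ g
  induction hn : finrank F V using Nat.strong_induction_on generalizing V with
  | _ n ih =>
  subst hn
  have hB := herm_polar hQ
  have : Finite (V ≃ₗ[F] V) := finite_equiv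
  obtain ⟨k, m, hm, hk⟩ := Nat.exists_eq_two_pow_mul_odd (orderOf_pos g).ne'
  have hbo : Odd (orderOf (g ^ 2 ^ k).1) := by
    rw [Subgroup.orderOf_coe]
    refine Odd.of_dvd_nat hm (orderOf_dvd_of_pow_eq_one ?_)
    rw [← pow_mul, ← hk, pow_orderOf_eq_one]
  have hU' : ∀ h : OG Q, h.1 ∈ UG (polarBilin Q) := fun h x y => OG.polar_app h x y
  have hgb : g.1 * (g ^ 2 ^ k).1 = (g ^ 2 ^ k).1 * g.1 := congrArg Subtype.val (Commute.self_pow g _)
  have hR : Ref (polarBilin Q) (g ^ 2 ^ k).1 Q := ⟨Q_add_polar, (g ^ 2 ^ k).2⟩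
  rcases triThm F V (RingHom.id F) _ hB _ (hU' _) hbo with ⟨c, hc⟩ | ⟨A, C, h, hA, hC, ho, -, hp⟩ |
    ⟨-, X, β, τ, φ, t, hX, hβ, hτ, ht, hφ, hr, hXX, hd, iX, hq⟩ |
    ⟨-, E', _, _, _, _, _, s', B', φ, b', hB', hs', -, -, -, hφ, hr, htt, hcard, hq⟩
  · refine uniReal hO F V Q hQ g k (OG.ext' fun x => ?_)
    rw [OG.one_app, hc, ← sub_eq_zero]
    refine hB.nd _ fun y => ?_
    have h1 := hU' (g ^ 2 ^ k) x y
    rw [hc, hc] at h1
    simp only [map_smul, LinearMap.smul_apply, smul_eq_mul, map_sub, LinearMap.sub_apply] at h1 ⊢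
    have h2 : (2 : F) = 0 := hyp_two_eq
    have : (c - 1) ^ 2 * polarBilin Q x y = 0 := by linear_combination h1 + (1 - c) * polarBilin Q x y * h2
    rcases mul_eq_zero.1 this with h | h
    · rw [sub_eq_zero.1 (pow_eq_zero_iff two_ne_zero |>.1 h), one_mul, sub_self]
    · rw [h, mul_zero, sub_self]
  · have h6 := Submodule.finrank_add_eq_of_isCompl h
    have hA' : finrank F A ≠ 0 := fun e => hA (Submodule.finrank_eq_zero.1 e)
    have hC' : finrank F C ≠ 0 := fun e => hC (Submodule.finrank_eq_zero.1 e)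
    exact real_split hQ h ho g (hp _ hgb).1 (hp _ hgb).2 (fun g => ih _ (by omega) A _ _ g rfl)
      (fun g => ih _ (by omega) C _ _ g rfl)
  · obtain ⟨-, q2, q3⟩ := hq Q hR
    obtain ⟨T, hT⟩ := real_T ht q2
    let φ' : (X ≃ₗ[F] X) →* OG Q := ((UG _).subtype.comp φ).codRestrict _ q3
    obtain ⟨g0, hg0⟩ := hr ⟨g.1, hU' g⟩ hgb
    have hg : φ' g0 = g := OG.ext' fun x => congrArg (fun k : UG (polarBilin Q) => k.1 x) hg0
    have : Finite (X ≃ₗ[F] X) := finite_equiv
    have hcomm : ∀ c, φ' (τ c) * T = T * φ' c := fun c => OG.ext' fun x => by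
      rw [OG.mul_app, OG.mul_app, hT, hT]; exact hφ c x
    obtain ⟨c, hc⟩ := real_inv φ' τ T hcomm (TO.isConj (hτ.invol hβ) (hGL F X β hβ τ hτ) g0)
    rw [hg] at hc
    refine ⟨_, hc, ?_⟩
    have hTT : ∀ x, T.1 (T.1 x) = x := fun x => by rw [hT, hT, ht.invol]
    have hY : IsCompl X (X.map (T.1 : V →ₗ[F] V)) := by
      refine (Submodule.isCompl_iff_disjoint _ _ ?_).2 (Submodule.disjoint_def.2 ?_)
      · rw [LinearEquiv.finrank_map_eq]; omega
      · rintro _ hx ⟨x, hx', rfl⟩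
        rw [hd x hx' (hT x ▸ hx), map_zero]
    have h1 : dickson hQ (φ' c) = 1 := by
      refine real_lev hQ _ hY (hXX c) ?_ iX ?_
      · rintro _ ⟨x, hx, rfl⟩
        refine ⟨(φ (τ c)).1 x, hXX _ x hx, ?_⟩
        have := hcomm (τ c)
        rw [hτ.invol hβ] at this
        exact (congrArg (fun k : OG Q => k.1 x) this).symm
      · rintro _ ⟨x, hx, rfl⟩ _ ⟨y, hy, rfl⟩
        exact (hU' T x y).trans (iX x hx y hy)
    rw [map_mul, h1, one_mul, dickson_apply, uni_swap T hTT hY (fun x hx => ⟨x, hx, rfl⟩)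
      (by rintro _ ⟨x, hx, rfl⟩; exact (hTT x).symm ▸ hx)]
    congr 1
    omega
  · obtain ⟨t, ht⟩ := exists_cj hB' hs'
    obtain ⟨T, hT⟩ := real_T (htt t ht).1 ((htt t ht).2 Q hR)
    obtain ⟨τ, hτ⟩ := exists_cjAut_UG hB' ht
    let φ' : UG B' →* OG Q := ((UG _).subtype.comp φ).codRestrict _ (hq Q hR)
    have hφ' : ∀ c x, (φ' c).1 x = c.1 x := hφ
    obtain ⟨g0, hg0⟩ := hr ⟨g.1, hU' g⟩ hgb
    have hg : φ' g0 = g := OG.ext' fun x => congrArg (fun k : UG (polarBilin Q) => k.1 x) hg0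
    have : Finite (V ≃ₗ[E'] V) := finite_equiv
    have hcomm : ∀ c, φ' (τ c) * T = T * φ' c := fun c => OG.ext' fun x => by
      rw [OG.mul_app, OG.mul_app, hT, hT, hφ', hφ']; exact hτ c x
    obtain ⟨c, hc⟩ := real_inv φ' τ T hcomm (TO.isConj (hτ.invol ht) ((hU E' V s' B' hB' hs').ug hB' ht τ hτ) g0)
    rw [hg] at hc
    refine ⟨_, hc, ?_⟩
    have h1 : dickson hQ (φ' c) = 1 := by
      obtain ⟨d, hd⟩ := hcard rfl
      have e1 := Module.natCard_eq_pow_finrank (K := F) (V := fixS (φ' c))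
      have e2 := Module.natCard_eq_pow_finrank (K := E') (V := LinearMap.ker ((c.1 : V →ₗ[E'] V) - LinearMap.id))
      have e3 : Nat.card (fixS (φ' c)) = Nat.card (LinearMap.ker ((c.1 : V →ₗ[E'] V) - LinearMap.id)) :=
        Nat.card_congr (Equiv.subtypeEquivRight fun x => by
          rw [mem_fixS, hφ', LinearMap.mem_ker, LinearMap.sub_apply, sub_eq_zero]; rfl)
      rw [e3, e2, hd, ← pow_mul] at e1
      have e4 := Nat.pow_right_injective (Finite.one_lt_card (α := F)) e1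
      have e5 := finrank_resid_add_fixS (φ' c)
      obtain ⟨n, hn⟩ := real_even hQ
      rw [dickson_eq_one_iff, Nat.even_iff]
      rw [mul_assoc] at e4
      omega
    obtain ⟨γ, hγ⟩ := exists_gamma hB'.invol hs'
    have h2 : resid T = fixS T := by
      ext x
      rw [mem_resid, mem_fixS, hT]
      constructor
      · rintro ⟨y, rfl⟩
        rw [hT, map_sub, ht.invol, sub_eq_add_neg, sub_eq_add_neg, neg_eq_of_add_eq_zero_left (hyp_add_self F y),
          neg_eq_of_add_eq_zero_left (hyp_add_self F (t y)), add_comm]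
      · intro hx
        refine ⟨γ • x, ?_⟩
        rw [hT, ht.smul, hx, sub_eq_add_neg, neg_eq_of_add_eq_zero_left (hyp_add_self F (γ • x)), ← add_smul,
          add_comm, hγ, one_smul]
    have h3 := finrank_resid_add_fixS T
    rw [← h2] at h3
    rw [map_mul, h1, one_mul, dickson_apply]
    congr 1
    omega

end CL.TOr
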