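/-
Project TO: the induction for unitary groups, with the two mirabolic steps as hypotheses.
-/
import Cfsg.Agent.TOr.Defs3
import Cfsg.Agent.TOr.Small
import Cfsg.Agent.TOr.Tri2
import Cfsg.Agent.TOr.Rep

set_option autoImplicit false

namespace CL.TOr

open Module

universe u

/-- The induction hypothesis. -/
def UfinIH (n : ℕ) : Prop :=
  ∀ (E V : Type u) [Field E] [Finite E] [CharP E 2] [AddCommGroup V] [Module E V] [FiniteDimensional E V]
    (s : E →+* E) (B : V →ₛₗ[s] V →ₗ[E] E), finrank E V < n → Herm s B → s ≠ RingHom.id E → UP B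

/-- The mirabolic step for the trivial central character. -/
def UfinM1 : Prop :=
  ∀ (E V : Type u) [Field E] [Finite E] [CharP E 2] [AddCommGroup V] [Module E V] [FiniteDimensional E V]
    (s : E →+* E) (B : V →ₛₗ[s] V →ₗ[E] E) (v v' : V), Hyp B v v' → s ≠ RingHom.id E → UP (BW B v v') →
    ∀ ζ : E → ℂ, (∀ c, s c = c → ζ c = 1) → UMir B v ζ

/-- The mirabolic step for a non-trivial central character. -/
def UfinM2 : Prop :=
  ∀ (E V : Type u) [Field E] [Finite E] [CharP E 2] [AddCommGroup V] [Module E V] [FiniteDimensional E V]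
    (s : E →+* E) (B : V →ₛₗ[s] V →ₗ[E] E) (v v' : V), Hyp B v v' → s ≠ RingHom.id E → UP (BW B v v') →
    ∀ ζ : E → ℂ, (∀ a b, s a = a → s b = b → ζ (a + b) = ζ a * ζ b) → ζ 0 = 1 → (∃ c, s c = c ∧ ζ c ≠ 1) →
      UMir B v ζ

variable {E V : Type u} [Field E] [Finite E] [CharP E 2] [AddCommGroup V] [Module E V] [FiniteDimensional E V]
  {s : E →+* E} {B : V →ₛₗ[s] V →ₗ[E] E}

theorem ufin_A1 (IH : UfinIH.{u} (finrank E V)) (hB : Herm s B) (hs : s ≠ RingHom.id E) {w : V} (hw : B w w ≠ 0)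
    {t : V →+ V} (ht : IsCj B t) (htw : t w = w) : TOc (K0 B w) t := fun τ hτ => by
  have hc := hB.isCompl_line hw
  have ho : ∀ a ∈ Submodule.span E {w}, ∀ c ∈ perp B (Submodule.span E {w}), B a c = 0 :=
    fun a ha c hc => mem_perp.1 hc a ha
  have hm : w ∈ Submodule.span E {w} := Submodule.mem_span_singleton_self w
  have mp : ∀ y, B w y = 0 → y ∈ perp B (Submodule.span E {w}) := fun y hy => mem_perp.2 fun a ha => by
    obtain ⟨r, rfl⟩ := Submodule.mem_span_singleton.1 ha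
    rw [map_smulₛₗ, LinearMap.smul_apply, hy, smul_zero]
  have tA : ∀ a ∈ Submodule.span E {w}, t a ∈ Submodule.span E {w} := fun a ha => by
    obtain ⟨r, rfl⟩ := Submodule.mem_span_singleton.1 ha
    rw [ht.smul, htw]
    exact Submodule.smul_mem _ _ hm
  let tC : perp B (Submodule.span E {w}) →+ perp B (Submodule.span E {w}) :=
    AddMonoidHom.mk' (fun c => ⟨t c, mp _ (by
      have := ht.form w c
      rwa [htw, ho w hm _ c.2, map_zero] at this)⟩)
      fun a b => Subtype.ext (map_add t _ _)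
  have htC : IsCj (B.domRestrict₁₂ _ _) tC :=
    ⟨fun c x => Subtype.ext (ht.smul c x), fun x => Subtype.ext (ht.invol x), fun x y => ht.form x y⟩
  have hBC := (hB.restrict hc ho).2
  obtain ⟨τC, hτC⟩ := exists_cjAut_UG hBC htC
  let φ : UG (B.domRestrict₁₂ (perp B (Submodule.span E {w})) (perp B (Submodule.span E {w}))) →* K0 B w :=
    ((UG B).subtype.comp ((glueU hB hc ho).comp (MonoidHom.inr _ _))).codRestrict _ fun g =>
      ⟨(glueU hB hc ho _).2, glue_left hc _ ⟨w, hm⟩⟩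
  have hne : perp B (Submodule.span E {w}) ≠ ⊤ := fun e => hw (ho w hm w (e ▸ Submodule.mem_top))
  refine ((IH E _ s _ (Submodule.finrank_lt hne) hBC hs).ug hBC htC τC hτC).of_surj φ (fun k => ?_) fun g => (hτ.eq_of ht fun x => ?_).symm
  · have kA : ∀ a ∈ Submodule.span E {w}, k.1 a = a := fun a ha => by
      obtain ⟨r, rfl⟩ := Submodule.mem_span_singleton.1 ha
      rw [map_smul, K0_v]
    obtain ⟨⟨g1, g2⟩, e1, e2, -⟩ := mem_range_glueU hB hc ho ⟨k.1, k.2.1⟩ (fun a ha => (kA a ha).symm ▸ ha)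
      fun c hc => mp _ (by rw [K0_vl, ho w hm c hc])
    obtain rfl : g1 = 1 := Subtype.ext (LinearEquiv.ext fun a => Subtype.ext ((e2 a).trans (kA _ a.2)))
    exact ⟨g2, Subtype.ext (congrArg (fun y : UG B => y.1) e1)⟩
  · obtain ⟨a, c, rfl⟩ := exists_add_of_isCompl hc x
    have e1 := glue_add hc (1, (τC g).1) ⟨t a, tA _ a.2⟩ (tC c)
    have e2 := glue_add hc (1, g.1) a c
    refine Eq.trans (congrArg _ (map_add t _ _)) (e1.trans (Eq.trans ?_ (congrArg t e2).symm))
    rw [map_add]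
    exact congrArg (t a + ·) (congrArg Subtype.val (hτC g c))

theorem ufin_A2 (h1 : UfinM1.{u}) (h2 : UfinM2.{u}) (IH : UfinIH.{u} (finrank E V)) (hB : Herm s B)
    (hs : s ≠ RingHom.id E) {w : V} (hw0 : w ≠ 0) (hw : B w w = 0) {t : V →+ V} (ht : IsCj B t) (htw : t w = w) :
    TOc (K0 B w) t := fun τ hτ X _ _ _ σ ω h => by
  classical
  obtain ⟨v', H⟩ := exists_hyp_herm hB hs hw0 hw
  have hP := IH E _ s _ (by have := H.finrank; omega) H.hermW hs
  let E0 : AddSubgroup E :=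
    { carrier := {c | s c = c}
      zero_mem' := map_zero s
      add_mem' := fun {a b} ha hb => (map_add s a b).trans (congrArg₂ (· + ·) ha hb)
      neg_mem' := fun {a} ha => (map_neg s a).trans (congrArg Neg.neg ha) }
  let z : E0 → K0 B w := fun c => ⟨H.sieg 0 c, H.sieg_mem (by
    rw [show s c = c from c.2, CharTwo.add_self_eq_zero]; simp)⟩
  have za : ∀ (c : E0) y, (z c).1 y = y + ((c : E) * B w y) • w := fun c y => (H.sieg_apply 0 c y).trans (by simp)
  have zadd : ∀ c d, z (c + d) = z c * z d := fun c d => Subtype.ext (((H.sieg_mul 0 0 c d).trans (by simp [z])).symm)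
  have z0 : z 0 = 1 := Subtype.ext H.sieg_zero
  have zc : ∀ k c, k * z c = z c * k := fun k c => Subtype.ext (H.conj_sieg_zero k c)
  have zt : ∀ c, τ (z c)⁻¹ = z c := fun c => by
    have e : (z c)⁻¹ = z c := inv_eq_of_mul_eq_one_right (by
      rw [← zadd, show c + c = 0 from Subtype.ext (CharTwo.add_self_eq_zero (c : E)), z0])
    rw [e]
    refine hτ.eq_of ht fun x => ?_
    rw [za, za, map_add, ht.smul, htw, map_mul, ← ht.form, htw, show s c = c from c.2]
  have nadd : ∀ c d, σ (z (c + d)) = σ (z c) * σ (z d) := fun c d => by rw [zadd, map_mul]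
  have hact : ∀ k c, σ k * σ (z c) = σ (z c) * σ k := fun k c => by rw [← map_mul, zc, map_mul]
  refine fourier_central (n := fun c => σ (z c)) σ (by rw [z0]) nadd hact fun χ => ?_
  have ee := Ech_idem (n := fun c => σ (z c)) nadd χ
  have comm : ∀ k, σ k * Ech (fun c => σ (z c)) χ = Ech (fun c => σ (z c)) χ * σ k := fun k => comm_Ech χ (hact k)
  have e1 : σ 1 * Ech (fun c => σ (z c)) χ = Ech (fun c => σ (z c)) χ :=
    z0 ▸ zero_mul_Ech (n := fun c => σ (z c)) nadd χ
  have sk := h.cut _ ee comm (Adj.ech (n := fun c => σ (z c)) (n' := fun c => σ (z c)) (AddEquiv.refl _)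
    (fun c => by have := h.adj' (z c); rwa [zt] at this) fun _ => rfl)
  have mir : UMir B w fun c => if hc : s c = c then χ ⟨c, hc⟩ else 0 := by
    by_cases hz : ∀ c, s c = c → (if hc : s c = c then χ ⟨c, hc⟩ else 0) = 1
    · exact h1 E V s B w v' H hs hP _ hz
    · push Not at hz
      refine h2 E V s B w v' H hs hP _ (fun a b ha hb => ?_) ?_ hz
      · rw [dif_pos ha, dif_pos hb, dif_pos (show s (a + b) = a + b from E0.add_mem (x := a) ha hb), ← AddChar.map_add_eq_mul]; rfl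
      · rw [dif_pos (map_zero s)]; exact χ.map_zero_eq_one
  have := mir t ht htw τ hτ X _ ω sk fun k c hk => by
    have hc : s c = c := by
      have e := K0_form k v' v'
      rw [hk, H.vv', mul_one] at e
      simp only [map_add, map_smulₛₗ, LinearMap.add_apply, LinearMap.smul_apply, H.v'v', H.vv', H.v'v, H.vv,
        smul_eq_mul, mul_one, mul_zero, zero_add, add_zero, RingHom.id_apply] at e
      linear_combination e - c * (hyp_two_eq : (2 : E) = 0)
    have hz : k = z ⟨c, hc⟩ := Subtype.ext (LinearEquiv.ext fun y => (hk y).trans (za ⟨c, hc⟩ y).symm)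
    rw [cutS_apply, cutS_apply, e1, hz]
    exact (n_mul_Ech (n := fun c => σ (z c)) nadd χ _).trans (congrArg (· • _) (by simp only [dif_pos hc]))
  rwa [cutS_apply, e1] at this

theorem ufin_B (hGL : GLAll.{u}) (IH : UfinIH.{u} (finrank E V)) (hB : Herm s B) (hs : s ≠ RingHom.id E)
    (hA : ∀ w : V, w ≠ 0 → ∀ t, IsCj B t → t w = w → TOc (K0 B w) t) {t : V →+ V} (ht : IsCj B t) :
    TOc (UG B) t := fun τ hτ => by
  have := finite_equiv (E := E) (X := V)
  rcases subsingleton_or_nontrivial V with hV | hV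
  · have : Subsingleton (UG B) := ⟨fun _ _ => Subtype.ext (LinearEquiv.ext fun _ => Subsingleton.elim _ _)⟩
    exact TO.of_comm (fun _ _ => Subsingleton.elim _ _) fun _ => Subsingleton.elim _ _
  refine TO.of_brauer (hτ.invol ht) fun X _ _ _ σ ω h b S hb hS hc => ?_
  have fin : ∀ {K : Type u} [Group K] (φ : K →* UG B), (∀ k : UG B, (k : V ≃ₗ[E] V) * b = b * k → k ∈ φ.range) →
      EvS (σ '' (φ.range : Set (UG B))) (σ 1) → EvS (σ '' insert b (S : Set (UG B))) (σ 1) := fun φ h1 h2 =>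
    h2.mono (Set.image_mono (by
      rintro k (rfl | hk)
      exacts [h1 _ rfl, h1 k (congrArg Subtype.val (hc k hk))]))
  rcases triThm E V s B hB b.1 b.2 (by rwa [Subgroup.orderOf_coe]) with ⟨c, hbc⟩ | ⟨A, C, hAC, hA0, hC0, ho, -, hinv⟩ |
    ⟨-, Y, β, τY, φ, t', -, hβ, hτY, ht', hcomp, hr, -⟩ |
    ⟨-, E', _, _, _, _, _, s', B', φ, b', hB', hs', hlt, -, -, hφ, hr, hcj, -⟩
  · have h1 : c * s c = 1 := by
      obtain ⟨x, hx⟩ := exists_ne (0 : V)
      obtain ⟨y, hy⟩ : ∃ y, B x y ≠ 0 := not_forall.1 fun e => hx (hB.nd x e)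
      have := b.2 x y
      rw [hbc, hbc, map_smul, map_smulₛₗ, LinearMap.smul_apply, smul_eq_mul, smul_eq_mul, ← mul_assoc] at this
      exact mul_right_cancel₀ hy (this.trans (one_mul _).symm)
    obtain ⟨w, -, hw, hfix⟩ := exists_fix_mod (UG B).subtype S hS (A := ⊥) (C := ⊤) bot_lt_top
      (fun g _ a ha => by rw [(Submodule.mem_bot E).1 ha, map_zero]; exact Submodule.zero_mem _) fun _ _ _ _ => trivial
    obtain ⟨t', ht', htw⟩ := exists_cj_fix hB hs w
    obtain ⟨τ0, h0⟩ := exists_cjAut_fix hB ht' htw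
    refine (ev_central h (X := ((Subgroup.inclusion (inf_le_left : K0 B w ≤ UG B)).range : Set (UG B)))
      (fun g => Subtype.ext (LinearEquiv.ext fun x => ?_)) (hτ.eq_of ht fun x => b.1.injective ?_)
      fun σ' h' => ?_).mono (Set.image_mono (Set.insert_subset_insert fun g hg =>
        ⟨⟨g.1, g.2, sub_eq_zero.1 ((Submodule.mem_bot E).1 (hfix g hg))⟩, rfl⟩))
    · change g.1 (b.1 x) = b.1 (g.1 x)
      rw [hbc, hbc, map_smul]
    · rw [hbc x, ht.smul, hbc (s c • t x), smul_smul, h1, one_smul]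
      exact b.1.apply_symm_apply _
    · obtain ⟨τ', ω', hτ', h''⟩ := h'.change_UG hB ht ht' hτ
      exact (hA w (fun e => hw (e ▸ Submodule.zero_mem _)) t' ht' htw τ0 h0).ev h'' _
        fun g => (hτ'.eq_of ht' fun x => h0 g x).symm
  · obtain ⟨hBA, hBC⟩ := hB.restrict hAC ho
    obtain ⟨tA, htA⟩ := exists_cj hBA hs
    obtain ⟨tC, htC⟩ := exists_cj hBC hs
    obtain ⟨t', ht', e1, e2⟩ := glue_cj hB hAC ho htA htC
    obtain ⟨τA, hτA⟩ := exists_cjAut_UG hBA htA
    obtain ⟨τC, hτC⟩ := exists_cjAut_UG hBC htC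
    obtain ⟨τ', ω', hτ', h''⟩ := h.change_UG hB ht ht' hτ
    have := finite_equiv (E := E) (X := A)
    have := finite_equiv (E := E) (X := C)
    refine fin (glueU hB hAC ho) (fun k hk => ?_) ((TO.prod (hτA.invol htA) (hτC.invol htC)
      ((IH E _ s _ (Submodule.finrank_lt fun e => hC0 (eq_bot_of_top_isCompl (e ▸ hAC))) hBA hs).ug hBA htA τA hτA)
      ((IH E _ s _ (Submodule.finrank_lt fun e => hA0 (eq_bot_of_isCompl_top (e ▸ hAC))) hBC hs).ug hBC htC τC hτC)).ev
        h'' _ fun g => (hτ'.eq_of ht' fun x => ?_).symm)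
    · obtain ⟨g, hg, -⟩ := mem_range_glueU hB hAC ho k (hinv k.1 hk).1 (hinv k.1 hk).2
      exact ⟨g, hg⟩
    · obtain ⟨a, c, rfl⟩ := exists_add_of_isCompl hAC x
      rw [glueU_coe, glueU_coe, map_add t', e1, e2, glue_add, glue_add, map_add t', e1, e2]
      exact congrArg₂ (· + ·) (congrArg Subtype.val (hτA g.1 a)) (congrArg Subtype.val (hτC g.2 c))
  · obtain ⟨τ', ω', hτ', h''⟩ := h.change_UG hB ht ht' hτ
    exact fin φ hr ((hGL E Y β hβ τY hτY).ev h'' φ fun g => (hτ'.eq_of ht' (hcomp g)).symm)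
  · obtain ⟨t', ht'⟩ := exists_cj hB' hs'
    obtain ⟨τ1, h1⟩ := exists_cjAut_UG hB' ht'
    obtain ⟨τ', ω', hτ', h''⟩ := h.change_UG hB ht (hcj t' ht').1 hτ
    exact fin φ hr (((IH E' V s' B' hlt hB' hs').ug hB' ht' τ1 h1).ev h'' φ
      fun g => (hτ'.eq_of (hcj t' ht').1 fun x => by rw [hφ, hφ, h1]).symm)

theorem uAll_of_mir (h1 : UfinM1.{u}) (h2 : UfinM2.{u}) (hGL : GLAll.{u}) : UAll.{u} := by
  have key : ∀ n, UfinIH.{u} n := fun n => by
    induction n using Nat.strong_induction_on with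
    | _ n ih =>
    intro E V _ _ _ _ _ _ s B hn hB hs
    have IH := ih _ hn
    have hA : ∀ w : V, w ≠ 0 → ∀ t, IsCj B t → t w = w → TOc (K0 B w) t := fun w hw t ht htw => by
      by_cases h : B w w = 0
      exacts [ufin_A2 h1 h2 IH hB hs hw h ht htw, ufin_A1 IH hB hs h ht htw]
    intro w t ht htw
    by_cases hw : w = 0
    swap
    · exact hA w hw t ht htw
    subst hw
    intro τ hτ
    obtain ⟨τ', hτ'⟩ := exists_cjAut_UG hB ht
    exact (ufin_B hGL IH hB hs hA ht τ' hτ').of_surj (Subgroup.inclusion (le_inf le_rfl fun g _ => map_zero g))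
      (fun g => ⟨⟨g.1, g.2.1⟩, rfl⟩) fun g => (hτ.eq_of ht fun x => hτ' g x).symm
  exact fun E V _ _ _ _ _ _ s B => key _ E V s B (Nat.lt_succ_self _)

end CL.TOr
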