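/-
Project TO: the stabiliser of an isotropic vector of a unitary space, trivial central character.
-/
import Cfsg.Agent.TOr.Defs3
import Cfsg.Agent.TOr.Small

set_option autoImplicit false
set_option linter.unusedSectionVars false

namespace CL.TOr

open Module

universe u

variable {E V : Type u} [Field E] [Finite E] [CharP E 2] [AddCommGroup V] [Module E V] [FiniteDimensional E V]
  {s : E →+* E} {B : V →ₛₗ[s] V →ₗ[E] E} {v v' : V}

/-- The parameter of a Siegel transformation which is an isometry. -/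
theorem umir1_of_mem (H : Hyp B v v') {k : K0 B v} {x : hW B v v'} {c : E} (hk : k.1 = H.sieg x c) :
    c + s c = B x x := by
  have h := K0_form k v' v'
  have e : v' + x + c • v = c • v + (1 : E) • v' + x := by rw [one_smul]; abel
  rw [hk, H.sieg_v', e, H.form_sum, H.v'v', map_one] at h
  linear_combination h - B x x * hyp_two_eq (E := E)

theorem umir1_inv (H : Hyp B v v') (x : hW B v v') (c : E) : (H.sieg x c)⁻¹ = H.sieg x (c + B x x) :=
  inv_eq_of_mul_eq_one_right (by
    rw [H.sieg_mul, hyp_add_self E x, ← H.sieg_zero]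
    congr 1
    linear_combination (c + B x x) * hyp_two_eq (E := E))

/-- The adapted conjugation on Siegel transformations. -/
theorem umir1_cj (H : Hyp B v v') {t : V →+ V} {tW : hW B v v' →+ hW B v v'} (ht : IsCj B t) (h1 : t v = v)
    (h2 : t v' = v') (hW' : ∀ y : hW B v v', t y = tW y) {τ : K0 B v →* K0 B v} (hτ : IsCjAut t τ) {k : K0 B v}
    {x : hW B v v'} {c : E} (hk : k.1 = H.sieg x c) : (τ k).1 = H.sieg (tW x) (s c) :=
  LinearEquiv.ext fun y => by rw [← ht.invol y, hτ k, hk, H.cj_sieg ht h1 h2 hW']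

theorem umir_one (H : Hyp B v v') (hs : s ≠ RingHom.id E) (hP : UP (BW B v v')) {ζ : E → ℂ}
    (hζ : ∀ c, s c = c → ζ c = 1) : UMir B v ζ := by
  intro t ht htv τ hτ X _ _ _ σ ω hω hz
  obtain ⟨γ, hγ⟩ := exists_gamma H.herm.invol hs
  have : Finite V := Module.finite_of_finite E
  have h2 : (2 : E) = 0 := hyp_two_eq
  have hmem : ∀ x : hW B v v', γ * B x x + s (γ * B x x) = B x x := fun x => by
    rw [map_mul, H.herm.symm, ← add_mul, hγ, one_mul]
  obtain ⟨el, hel⟩ : ∃ el : hW B v v' → K0 B v, ∀ x, (el x).1 = H.sieg x (γ * B x x) :=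
    ⟨fun x => ⟨_, H.sieg_mem (hmem x)⟩, fun _ => rfl⟩
  have key : ∀ (k : K0 B v) x c, k.1 = H.sieg x c → σ k = σ (el x) := fun k x c hk => by
    have hc := umir1_of_mem H hk
    have hd : s (c + γ * B x x) = c + γ * B x x := by
      rw [map_add]
      linear_combination hc + hmem x + (B x x - c - γ * B x x) * h2
    have hm : c + γ * B x x + s (c + γ * B x x) = B (0 : hW B v v') (0 : hW B v v') := by
      rw [hd, Submodule.coe_zero, map_zero]
      linear_combination (c + γ * B x x) * h2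
    have e : k = ⟨_, H.sieg_mem hm⟩ * el x := Subtype.ext (by
      rw [hk, Subgroup.coe_mul, hel, H.sieg_mul, zero_add, Submodule.coe_zero, map_zero, LinearMap.zero_apply]
      congr 1
      linear_combination (-(γ * B x x)) * h2)
    rw [e, map_mul, hz _ (c + γ * B x x) fun y => by simp [H.sieg_apply], hζ _ hd, one_smul, sig_one_mul]
  have n0 : σ (el 0) = σ 1 := (key 1 0 0 H.sieg_zero.symm).symm
  have nadd : ∀ x y, σ (el (x + y)) = σ (el x) * σ (el y) := fun x y => by
    rw [← map_mul, key (el x * el y) (x + y) _ (by rw [Subgroup.coe_mul, hel, hel, H.sieg_mul])]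
  have hact : ∀ (k : K0 B v) x, σ k * σ (el x) = σ (el ((H.pi k).1 x)) * σ k := fun k x => by
    obtain ⟨d, -, hd⟩ := H.conj_sieg k (hmem x)
    rw [← key (k * el x * k⁻¹) ((H.pi k).1 x) (γ * B x x + d) (by
      rw [Subgroup.coe_mul, Subgroup.coe_mul, hel, hd, Subgroup.coe_inv, mul_inv_cancel_right]), ← map_mul, ← map_mul,
      inv_mul_cancel_right]
  refine fourier' (n := fun x => σ (el x)) σ n0 nadd (fun k => (H.pi k).1.toLinearMap.toAddMonoidHom)
    (fun x => by rw [map_one]; rfl) (fun g h x => by rw [map_mul]; rfl) hact fun χ => ?_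
  obtain ⟨ψ, hψ, hψs⟩ := exists_psi s H.herm.invol
  obtain ⟨l, hl⟩ := char_dual hψ χ
  obtain ⟨w, hw⟩ := H.hermW.exists_repr ⊤ (l ∘ₗ Submodule.subtype ⊤)
  have hw' : ∀ x, l x = BW B v v' w x := fun x => hw ⟨x, Submodule.mem_top⟩
  obtain ⟨tW, htW, htw⟩ := exists_cj_fix H.hermW hs w
  obtain ⟨t', ht', h1', h2', hW'⟩ := H.cj_ext htW
  obtain ⟨τ', ω', hτ', hω'⟩ := hω.change_K0 H.herm ht ht' htv h1' hτ
  obtain ⟨τ0, hτ0⟩ := exists_cjAut_fix H.hermW htW htw
  have hadj : Adj ω' (Ech (fun x => σ (el x)) χ) (Ech (fun x => σ (el x)) χ) :=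
    Adj.ech { tW with invFun := tW, left_inv := htW.invol, right_inv := htW.invol } (fun x => by
      have := hω'.adj' (el x)
      rwa [key _ _ _ (umir1_cj H ht' h1' h2' hW' hτ' (k := (el x)⁻¹)
        (by rw [Subgroup.coe_inv, hel, umir1_inv]))] at this) fun x => by
      change χ (tW x) = χ x
      rw [hl, hl, hw', hw', ← hψs (BW B v v' w x), ← htW.form, htw]
  let φ : K0 (BW B v v') w →* K0 B v := H.iotaU.comp (Subgroup.inclusion inf_le_left)
  have hφ : ∀ g, (H.pi (φ g)).1 = g.1 := fun g => congrArg Subtype.val (H.pi_iotaU _)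
  have hf : ∀ g, σ (φ g) * Ech (fun x => σ (el x)) χ = Ech (fun x => σ (el x)) χ * σ (φ g) := fun g =>
    mul_Ech_equiv g.1.toAddEquiv (fun x => by rw [hact, hφ]; rfl) fun x => by
      change χ (g.1 x) = χ x
      rw [hl, hl, hw', hw', K0_vl]
  refine (TO.ev_cut (hP w tW htW htw τ0 hτ0) hω' φ
    (fun g => (hτ'.eq_of ht' fun y => H.cj_iota ht' h1' h2' hW' (hτ0 g) y).symm) (Ech_idem nadd χ)
    (by rw [← n0]; exact zero_mul_Ech (n := fun x => σ (el x)) nadd χ) hf hadj).of_smul ?_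
  rintro _ ⟨k, hk, rfl⟩
  have h3 : ∀ x, BW B v v' w ((H.pi k).1 x) = BW B v v' w x := fun x => by
    rw [← hw', ← hw']
    exact LinearMap.congr_fun (psi_inj hψ (l := l ∘ₗ (H.pi k).1.toLinearMap) (l' := l) fun y => by
      rw [← hl y, ← hk y, hl]; rfl) x
  have h4 : (H.pi k).1 w = w := sub_eq_zero.1 (H.hermW.nd _ fun y => by
    obtain ⟨y, rfl⟩ := (H.pi k).1.surjective y
    rw [map_sub, LinearMap.sub_apply, (H.pi k).2, h3, sub_self])
  obtain ⟨x, c, hc, e, -⟩ := H.exists_decomp k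
  have e' : k = ⟨_, H.sieg_mem hc⟩ * φ ⟨(H.pi k).1, (H.pi k).2, h4⟩ := Subtype.ext e
  refine ⟨χ x, _, ⟨⟨(H.pi k).1, (H.pi k).2, h4⟩, rfl⟩, ?_⟩
  generalize (⟨(H.pi k).1, (H.pi k).2, h4⟩ : K0 (BW B v v') w) = g at e'
  rw [e']
  beta_reduce
  rw [map_mul, key _ x c rfl, mul_assoc, hf, ← mul_assoc, n_mul_Ech (n := fun x => σ (el x)) nadd, smul_mul_assoc]

end CL.TOr
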