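/-
Project TO, job WEIL: the Weil representation of a unitary group of characteristic 2 inside a module of the Jacobi group.
-/
import Cfsg.Agent.TOr.Defs
import Cfsg.Agent.Blk.JordanP

set_option autoImplicit false
set_option linter.unusedSectionVars false

namespace CL.TOr

open Module MulOpposite

universe u

namespace Weil

section Abs

variable {W K A : Type*} [AddCommGroup W] [Group K] [DistribMulAction K W] [Ring A] [Algebra ℂ A]

/-- a Heisenberg system with operators -/
structure Hs (c : W → W → ℂ) (N : W → A) (G : K → A) : Prop where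
  two : ∀ x : W, x + x = 0
  cl : ∀ x x' y, c (x + x') y = c x y * c x' y
  cr : ∀ x y y', c x (y + y') = c x y * c x y'
  cc : ∀ x y, c x y * c x y = 1
  inv : ∀ (g : K) x y, c (g • x) (g • y) = c x y
  perp : ∀ (k : K) w, (∀ y, k • y = y → c y w * c w y = 1) → ∃ u, u + k • u = w
  NN : ∀ x y, N x * N y = c x y • N (x + y)
  GG : ∀ g h, G (g * h) = G g * G h
  N0 : N 0 = G 1
  GN : ∀ g x, G g * N x = N (g • x) * G g

variable [Fintype W] [DecidableEq W]

/-- the average over the Heisenberg group -/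
noncomputable def av (c : W → W → ℂ) (N : W → A) (X : A) : A := ∑ y, c y y • (N y * X * N y)

/-- the number of fixed points -/
noncomputable def fx (W : Type*) {K : Type*} [Group K] [MulAction K W] (k : K) : ℕ := Nat.card {x : W // k • x = x}

/-- the Gauss sum -/
noncomputable def gam (c : W → W → ℂ) (g k : K) : ℂ :=
  ∑ x, ∑ u, if u + k • u = x + g • x then c x (x + g • x) * c u (x + g • x) else 0

namespace Hs

variable {c : W → W → ℂ} {N : W → A} {G : K → A} (h : Hs c N G)
include h

omit [Fintype W] [DecidableEq W]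

theorem c0r (x : W) : c x 0 = 1 := by rw [← h.two 0, h.cr, h.cc]

theorem cmul (x y : W) (a : ℂ) : c x y * (c x y * a) = a := by rw [← mul_assoc, h.cc, one_mul]

theorem add_add (x y : W) : x + y + y = x := by rw [add_assoc, h.two, add_zero]

theorem add_eq_zero {x y : W} : x + y = 0 ↔ y = x := by
  rw [← add_right_inj x, ← add_assoc, h.two, zero_add, add_zero]

theorem op : Hs c (fun x => op (c x x • N x)) fun g => op (G g⁻¹) where
  two := h.two
  cl := h.cl
  cr := h.cr
  cc := h.cc
  inv := h.inv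
  perp := h.perp
  NN x y := by
    rw [← op_mul, ← op_smul, smul_mul_smul_comm, h.NN, smul_smul, smul_smul, add_comm y x, h.cl, h.cr, h.cr]
    congr 2
    linear_combination (-c x x * c y x * c y y) * h.cc x y
  GG g k := by rw [← op_mul, ← h.GG, mul_inv_rev]
  N0 := by rw [h.c0r, one_smul, inv_one, h.N0]
  GN g x := by rw [← op_mul, ← op_mul, mul_smul_comm, h.GN, inv_smul_smul, h.inv, smul_mul_assoc]

theorem conj (u : W) (k : K) : c u u • (N u * G k * N u) = c u (u + k • u) • (N (u + k • u) * G k) := by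
  rw [mul_assoc, h.GN, ← mul_assoc, h.NN, smul_mul_assoc, smul_smul, h.cr]

variable [Fintype W]

omit h in
theorem av_smul (a : ℂ) (X : A) : av c N (a • X) = a • av c N X := by
  simp only [av, Finset.smul_sum, mul_smul_comm, smul_mul_assoc, smul_comm a]

omit h in
theorem av_sum (f : W → A) : av c N (∑ x, f x) = ∑ x, av c N (f x) := by
  simp only [av, Finset.smul_sum, Finset.mul_sum, Finset.sum_mul]
  exact Finset.sum_comm

omit h in
theorem av_mul {Z : A} (hZ : ∀ x, N x * Z = Z * N x) (X : A) : av c N (Z * X) = Z * av c N X := by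
  simp only [av, Finset.mul_sum, mul_smul_comm, ← mul_assoc, hZ]

theorem av_conj (u : W) (X : A) : av c N (c u u • (N u * X * N u)) = av c N X := by
  refine Fintype.sum_equiv (Equiv.addRight u) _ _ fun y => ?_
  rw [mul_smul_comm, smul_mul_assoc, ← mul_assoc, ← mul_assoc, mul_assoc _ (N u), h.NN, h.NN, Equiv.coe_addRight,
    add_comm u y, h.cl, h.cr, h.cr]
  simp only [mul_smul_comm, smul_mul_assoc, smul_smul]
  congr 1
  ring

theorem N_av (u : W) (X : A) : N u * av c N X = av c N X * N u := by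
  rw [av, Finset.mul_sum, Finset.sum_mul]
  refine Fintype.sum_equiv (Equiv.addRight u) _ _ fun y => ?_
  rw [mul_smul_comm, smul_mul_assoc, ← mul_assoc, ← mul_assoc, mul_assoc _ (N _) (N u), h.NN, h.NN, Equiv.coe_addRight,
    h.add_add, add_comm u y, h.cl, h.cl, h.cr, h.cr]
  simp only [mul_smul_comm, smul_mul_assoc, smul_smul]
  congr 1
  linear_combination (-c y y * c u y) * h.cc y u - c y y * c u y * c y u * c y u * h.cc u u

theorem av_G (g : K) : av c N (G g) = (∑ x, c x (x + g • x) • N (x + g • x)) * G g := by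
  rw [av, Finset.sum_mul]
  exact Finset.sum_congr rfl fun x _ => by rw [h.conj, smul_mul_assoc]

variable [DecidableEq W]

theorem av_NG (k : K) (w : W) :
    (fx W k : ℂ) • av c N (N w * G k) = (∑ u, if u + k • u = w then c u w else 0) • av c N (G k) := by
  have e : ∀ u, u + k • u = w → c u w • av c N (G k) = av c N (N w * G k) := fun u hu => by
    rw [← h.av_conj u (G k), h.conj, hu, av_smul, smul_smul, h.cc, one_smul]
  rw [Finset.sum_smul, Finset.sum_congr rfl (g := fun u => if u + k • u = w then av c N (N w * G k) else 0)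
    fun u _ => by split_ifs with hu; exacts [e u hu, zero_smul _ _], ← Finset.sum_filter, Finset.sum_const,
    ← Nat.cast_smul_eq_nsmul ℂ]
  by_cases hw : ∃ u, u + k • u = w
  · obtain ⟨v, rfl⟩ := hw
    congr 2
    rw [fx, Nat.card_eq_fintype_card, Fintype.card_subtype]
    refine Finset.card_equiv (Equiv.addRight v) fun x => ?_
    simp only [Finset.mem_filter, Finset.mem_univ, true_and, Equiv.coe_addRight, smul_add]
    rw [add_add_add_comm, add_eq_right, h.add_eq_zero]
  · obtain ⟨y, hy, ne⟩ : ∃ y, k • y = y ∧ c y w * c w y ≠ 1 := by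
      by_contra! hc
      exact hw (h.perp k w hc)
    have e1 := h.av_conj y (N w * G k)
    rw [mul_assoc, mul_assoc, h.GN, hy, ← mul_assoc, ← mul_assoc, h.NN, smul_mul_assoc, h.NN, add_comm y w, h.add_add,
      h.cl, smul_smul, smul_mul_assoc, smul_smul, av_smul, show c y y * (c y w * (c w y * c y y)) = c y w * c w y by
        linear_combination c y w * c w y * h.cc y y] at e1
    have e2 : av c N (N w * G k) = 0 := by
      have := sub_eq_zero.2 e1
      nth_rw 2 [← one_smul ℂ (av c N (N w * G k))] at this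
      rw [← sub_smul] at this
      simpa [smul_smul, sub_ne_zero.2 ne] using congrArg ((c y w * c w y - 1)⁻¹ • ·) this
    rw [e2, smul_zero, smul_zero]

theorem prod (g k : K) : (fx W (g * k) : ℂ) • (av c N (G g) * av c N (G k)) = gam c g (g * k) • av c N (G (g * k)) := by
  rw [← av_mul fun x => h.N_av x _, h.av_G g, mul_assoc, ← h.GG, Finset.sum_mul, av_sum, Finset.smul_sum, gam,
    Finset.sum_smul]
  refine Finset.sum_congr rfl fun x _ => ?_
  rw [smul_mul_assoc, av_smul, smul_comm, h.av_NG, smul_smul, Finset.mul_sum]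
  simp only [mul_ite, mul_zero]

omit h in
theorem fx_one : fx W (1 : K) = Fintype.card W := by simp [fx]

omit h in
theorem fx_ne (g : K) : (fx W g : ℂ) ≠ 0 :=
  have : Nonempty {x : W // g • x = x} := ⟨⟨0, smul_zero g⟩⟩
  Nat.cast_ne_zero.2 Nat.card_pos.ne'

theorem av_one : av c N (G 1) = (fx W (1 : K) : ℂ) • G 1 := by
  rw [h.av_G, fx_one]
  simp [h.two, h.c0r, h.N0, mul_assoc, ← h.GG, Nat.cast_smul_eq_nsmul]

theorem av_e (g : K) : av c N (G g) * G 1 = av c N (G g) := by rw [h.av_G, mul_assoc, ← h.GG, mul_one]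

theorem av_inv (g : K) : av c N (G g) * av c N (G g⁻¹) = ((fx W g : ℂ) * fx W (1 : K)) • G 1 := by
  have e := h.prod g g⁻¹
  have e2 : gam c g (1 : K) = fx W g * fx W (1 : K) := by
    rw [gam, fx_one, fx, Nat.card_eq_fintype_card, Fintype.card_subtype, Finset.card_filter, Nat.cast_sum, Finset.sum_mul]
    refine Finset.sum_congr rfl fun x _ => ?_
    simp only [one_smul, h.two, eq_comm (a := (0 : W)), h.add_eq_zero]
    split_ifs with hx <;> simp [hx, h.two, h.c0r]
  rw [mul_inv_cancel, e2, h.av_one, smul_comm] at e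
  simpa only [inv_smul_smul₀ (fx_ne (W := W) (1 : K))] using congrArg ((fx W (1 : K) : ℂ)⁻¹ • ·) e

theorem av_op (g : K) : av c (fun x => MulOpposite.op (c x x • N x)) (MulOpposite.op (G g)) =
    MulOpposite.op (av c N (G g)) := by
  rw [av, av, Finset.op_sum]
  refine Finset.sum_congr rfl fun x _ => ?_
  rw [← op_mul, ← op_mul, ← op_smul]
  simp only [mul_smul_comm, smul_mul_assoc, smul_smul, h.cc, mul_assoc, mul_one]

theorem gam_sq (he : G 1 ≠ 0) (g k : K) :
    gam c g (g * k) ^ 2 = (fx W (g * k) : ℂ) * fx W g * fx W k * fx W (1 : K) := by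
  have e1 := h.prod g k
  have e2 := h.op.prod g k
  rw [h.av_op, h.av_op, h.av_op, ← op_mul, ← op_smul, ← op_smul, op_inj] at e2
  have e3 := congrArg₂ (· * ·) e1 e2
  simp only [smul_mul_smul_comm] at e3
  rw [h.av_inv, mul_assoc, ← mul_assoc (av c N (G k)), h.av_inv, smul_mul_assoc, ← h.N0, h.N_av, h.N0, h.av_e,
    mul_smul_comm, h.av_inv, smul_smul, smul_smul, smul_smul] at e3
  refine mul_right_cancel₀ (mul_ne_zero (fx_ne (W := W) (g * k)) (fx_ne (W := W) (1 : K))) ?_
  linear_combination -smul_left_injective ℂ he e3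

variable {r : ℕ → ℤ} {m : ℤ} (hm : 2 < m) (hr : ∀ g : K, r (fx W g) ^ 2 = fx W g ∧ m ∣ r (fx W g) - 1)
  (hg : ∀ g k : K, ∃ z : ℤ, gam c g k = z ∧ m ∣ z - 1)
include hm hr hg

theorem gam_eq (he : G 1 ≠ 0) (g k : K) :
    gam c g (g * k) = (r (fx W (g * k)) : ℂ) * r (fx W g) * r (fx W k) * r (fx W (1 : K)) := by
  obtain ⟨z, hz, dz⟩ := hg g (g * k)
  have e := h.gam_sq he g k
  have e1 : z ^ 2 = (r (fx W (g * k)) * r (fx W g) * r (fx W k) * r (fx W (1 : K))) ^ 2 := by
    rw [mul_pow, mul_pow, mul_pow, (hr _).1, (hr _).1, (hr _).1, (hr _).1]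
    rw [hz] at e
    exact_mod_cast e
  have k1 : ∀ g : K, r (fx W g) ≡ 1 [ZMOD m] := fun g => (Int.modEq_iff_dvd.2 (hr g).2).symm
  have k2 := (((k1 (g * k)).mul (k1 g)).mul (k1 k)).mul (k1 1)
  rw [hz]
  rcases sq_eq_sq_iff_eq_or_eq_neg.1 e1 with e2 | e2
  · exact_mod_cast e2
  · have k3 := dvd_add dz k2.symm.dvd
    rw [e2, show ∀ x : ℤ, -x - 1 + (x - 1 * 1 * 1 * 1) = -2 from fun x => by ring, dvd_neg] at k3
    have := Int.le_of_dvd two_pos k3
    omega

theorem mul (g k : K) : ((r (fx W (g * k)) : ℂ) * r (fx W (1 : K)))⁻¹ • av c N (G (g * k)) =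
    ((r (fx W g) : ℂ) * r (fx W (1 : K)))⁻¹ • av c N (G g) * ((r (fx W k) : ℂ) * r (fx W (1 : K)))⁻¹ • av c N (G k) := by
  by_cases he : G 1 = 0
  · rw [← h.av_e (g * k), ← h.av_e k, he]; simp
  have sq : ∀ g : K, (r (fx W g) : ℂ) ^ 2 = fx W g := fun g => by exact_mod_cast (hr g).1
  have ne : ∀ g : K, (r (fx W g) : ℂ) ≠ 0 := fun g e => fx_ne (W := W) g (by rw [← sq, e, zero_pow two_ne_zero])
  have e := congrArg ((fx W (g * k) : ℂ)⁻¹ • ·) (h.prod g k)
  simp only [inv_smul_smul₀ (fx_ne (W := W) (g * k))] at e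
  rw [smul_mul_smul_comm, e, smul_smul, smul_smul, h.gam_eq hm hr hg he, ← sq]
  have := ne (g * k)
  have := ne g
  have := ne k
  have := ne 1
  congr 1
  field_simp

end Hs

/-- the Gauss sum modulo the order of a group of scalars -/
theorem gam_int {c : W → W → ℂ} (cc : ∀ x y, c x y * c x y = 1) (c0 : c 0 0 = 1) (M : Type*) [Group M]
    [DistribMulAction M W] [SMulCommClass K M W] (free : ∀ (a : M) (x : W), a • x = x → a = 1 ∨ x = 0)
    (inv : ∀ (a : M) x y, c (a • x) (a • y) = c x y) (g k : K) : ∃ z : ℤ, gam c g k = z ∧ (Nat.card M : ℤ) ∣ z - 1 := by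
  classical
  let f : W × W → ℤ := fun d => if d.2 + k • d.2 = d.1 + g • d.1 then
    if c d.1 (d.1 + g • d.1) * c d.2 (d.1 + g • d.1) = 1 then 1 else -1 else 0
  have hf : ∀ (a : M) d, f (a • d) = f d := fun a d => by
    simp only [f, Prod.smul_fst, Prod.smul_snd, smul_comm g a, smul_comm k a, ← smul_add, inv, smul_left_cancel_iff]
  have key : ∀ φ : ℤ → ℕ, Nat.card M ∣ ∑ d, if d = 0 then 0 else φ (f d) := fun φ => by
    have := Blk.Jor.card_dvd_sum (G := M) (fun d => if d = 0 then 0 else φ (f d))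
      (fun a d => by simp only [hf, smul_eq_zero_iff_eq]) 1 fun d => by
        split_ifs with hd
        · simp
        · rw [show MulAction.stabilizer M d = ⊥ from eq_bot_iff.2 fun a ha => ?_, Subgroup.card_bot]
          · exact one_dvd _
          by_contra a1
          exact hd (Prod.ext ((free a _ (congrArg Prod.fst ha)).resolve_left a1)
            ((free a _ (congrArg Prod.snd ha)).resolve_left a1))
    rwa [one_mul] at this
  refine ⟨∑ d, f d, ?_, ?_⟩
  · rw [gam, ← Fintype.sum_prod_type', Int.cast_sum]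
    refine Finset.sum_congr rfl fun d _ => ?_
    simp only [f]
    split_ifs with h1 h2
    · rw [h2, Int.cast_one]
    · refine (mul_self_eq_one_iff.1 ?_).resolve_left h2 |>.trans (by simp)
      rw [mul_mul_mul_comm, cc, cc, one_mul]
    · simp
  · have := dvd_sub (Int.natCast_dvd_natCast.2 (key Int.toNat)) (Int.natCast_dvd_natCast.2 (key fun z => (-z).toNat))
    rw [Nat.cast_sum, Nat.cast_sum, ← Finset.sum_sub_distrib] at this
    refine this.trans (dvd_of_eq (Eq.symm ?_))
    rw [show (1 : ℤ) = ∑ d : W × W, if d = 0 then 1 else 0 by simp, ← Finset.sum_sub_distrib]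
    refine Finset.sum_congr rfl fun d _ => ?_
    split_ifs with hd
    · simp [hd, f, c0]
    · rw [Int.toNat_sub_toNat_neg, sub_zero]

end Abs

section Con

variable {E : Type*} [Field E] [Finite E] [CharP E 2] {s : E →+* E} (hs : ∀ a, s (s a) = a) {γ : E}
  (hγ : γ + s γ = 1)
include hs hγ

/-- the order of the field and a group of scalars of norm one -/
theorem exists_norm_one : ∃ (Q : ℕ) (M : Subgroup Eˣ), 2 ≤ Q ∧ Nat.card E = Q ^ 2 ∧ Nat.card M = Q + 1 ∧
    ∀ a ∈ M, s a * a = 1 := by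
  classical
  let t : E →+ E := AddMonoidHom.id E + s.toAddMonoidHom
  have ht : ∀ a, t a = a + s a := fun _ => rfl
  have k1 : ∀ a, a ∈ t.ker ↔ s a = a := fun a => by rw [AddMonoidHom.mem_ker, ht, CharTwo.add_eq_zero, eq_comm]
  have k2 : t.range = t.ker := AddSubgroup.ext fun a => by
    rw [k1]
    exact ⟨fun ⟨b, e⟩ => by rw [← e, ht, map_add, hs, add_comm],
      fun e => ⟨γ * a, by rw [ht, map_mul, e, ← add_mul, hγ, one_mul]⟩⟩
  have c1 : Nat.card E = Nat.card t.ker ^ 2 := by
    rw [← t.ker.card_mul_index, AddSubgroup.index_ker, k2, sq]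
  let φ : Eˣ →* Eˣ := MonoidHom.id Eˣ / Units.map s.toMonoidHom
  have hφ : ∀ a, (φ a : E) = a / s a := fun a => Units.val_div_eq_div_val _ _
  have ne : ∀ a : Eˣ, s a ≠ 0 := fun a => (map_ne_zero s).2 a.ne_zero
  have c2 : Nat.card φ.ker + 1 = Nat.card t.ker := by
    rw [← Finite.card_option]
    refine Nat.card_eq_of_bijective (fun o => o.elim 0 fun a => ⟨a.1, (k1 _).2 ?_⟩) ⟨?_, fun b => ?_⟩
    · exact ((div_eq_one_iff_eq (ne a.1)).1 ((hφ a.1).symm.trans (congrArg Units.val a.2))).symm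
    · rintro (_ | a) (_ | b) e
      · rfl
      · exact absurd (congrArg Subtype.val e).symm b.1.ne_zero
      · exact absurd (congrArg Subtype.val e) a.1.ne_zero
      · exact congrArg some (Subtype.ext (Units.ext (congrArg Subtype.val e)))
    · by_cases hb : b.1 = 0
      · exact ⟨none, Subtype.ext hb.symm⟩
      · exact ⟨some ⟨Units.mk0 b.1 hb, Units.ext (by rw [hφ, Units.val_mk0, (k1 _).1 b.2, div_self hb]; rfl)⟩, rfl⟩
  have c3 := φ.ker.card_mul_index
  have c4 : 0 < Nat.card φ.ker := Nat.card_pos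
  rw [Subgroup.index_ker, Nat.card_units, c1, ← c2] at c3
  refine ⟨_, φ.range, by omega, c1, Nat.eq_of_mul_eq_mul_left c4 ?_, ?_⟩
  · rw [c3, ← c2, Nat.sub_eq_iff_eq_add (Nat.one_le_pow _ _ (Nat.add_one_pos _))]; ring
  · rintro _ ⟨a, rfl⟩
    rw [hφ, map_div₀, hs, div_mul_div_cancel₀ a.ne_zero, div_self (ne a)]

end Con

end Weil

open Weil in
/-- **The Weil representation.** -/
theorem weilThm : WeilThm.{u} := by
  intro E W _ _ _ _ _ _ s B hB _ γ hγ ζ hζ ζ0 ⟨c₀, sc, nc⟩ V _ _ N G N0 NN GN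
  classical
  have : Finite W := Module.finite_of_finite E
  have := Fintype.ofFinite W
  have fix : ∀ x y, s (kap B γ x y) = kap B γ x y := fun x y => by
    simp only [kap, map_add, map_mul, hB.invol, hB.symm, add_comm]
  have two : ∀ x : W, x + x = 0 := fun x => by rw [← two_smul E, show (2 : E) = 0 from CharTwo.two_eq_zero, zero_smul]
  have kx : ∀ x, kap B γ x x = B x x := fun x => by rw [kap, ← add_mul, hγ, one_mul]
  have cc : ∀ x y, ζ (kap B γ x y) * ζ (kap B γ x y) = 1 := fun x y => by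
    rw [← hζ _ _ (fix x y) (fix x y), CharTwo.add_self_eq_zero, ζ0]
  have h : Hs (fun x y => ζ (kap B γ x y)) N G := ⟨two, fun x x' y => by
      rw [← hζ _ _ (fix _ _) (fix _ _)]; simp only [kap, map_add, LinearMap.add_apply]; congr 1; ring,
    fun x y y' => by rw [← hζ _ _ (fix _ _) (fix _ _)]; simp only [kap, map_add, LinearMap.add_apply]; congr 1; ring,
    cc, fun g x y => by rw [kap, kap, ← g.2 x y, ← g.2 y x]; rfl, fun k w hw => by
      by_contra hn
      obtain ⟨f, f1, f2⟩ := Submodule.exists_le_ker_of_notMem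
        (p := LinearMap.range (LinearMap.id + (k.1 : W →ₗ[E] W))) (v := w) fun ⟨u, e⟩ => hn ⟨u, e⟩
      obtain ⟨y, rfl⟩ := Cls.exists_repr_of_nondeg hB.invol B hB.nd f
      have hy : k.1 y = y := eq_of_sub_eq_zero (hB.nd _ fun u => by
        obtain ⟨u, rfl⟩ := k.1.surjective u
        have := f2 ⟨u, rfl⟩
        rw [LinearMap.mem_ker, LinearMap.add_apply, map_add, CharTwo.add_eq_zero] at this
        rw [map_sub, LinearMap.sub_apply, k.2, sub_eq_zero]
        exact this)
      have e1 : B (s (γ * c₀ / B y w) • y) w = γ * c₀ := by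
        rw [map_smulₛₗ, hB.invol, LinearMap.smul_apply, smul_eq_mul, div_mul_cancel₀ _ f1]
      have := hw (s (γ * c₀ / B y w) • y) ((k.1.map_smul _ _).trans (by rw [hy]))
      rw [← hζ _ _ (fix _ _) (fix _ _), kap, kap, ← hB.symm _ w, e1, map_mul, sc] at this
      exact nc (by rw [← this]; congr 1; linear_combination (-c₀ * (1 + γ + s γ)) * hγ),
    NN, G.map_mul, N0, GN⟩
  obtain ⟨Q, M, Q2, cE, cM, hM⟩ := exists_norm_one hB.invol hγ
  let r : ℕ → ℤ := fun n => (-Q) ^ Nat.log (Q ^ 2) n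
  have hr : ∀ g : UG B, r (fx W g) ^ 2 = fx W g ∧ (Nat.card M : ℤ) ∣ r (fx W g) - 1 := fun g => by
    have e : fx W g = (Q ^ 2) ^ finrank E (LinearMap.eqLocus (g.1 : W →ₗ[E] W) LinearMap.id) := by
      rw [← cE, ← Module.natCard_eq_pow_finrank]; rfl
    simp only [r]
    rw [e, Nat.log_pow (Nat.one_lt_pow two_ne_zero Q2), ← pow_mul, mul_comm, pow_mul, neg_sq, cM]
    refine ⟨by push_cast; rfl, ?_⟩
    have := sub_one_dvd_pow_sub_one (-Q : ℤ) (finrank E (LinearMap.eqLocus (g.1 : W →ₗ[E] W) LinearMap.id))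
    rwa [← neg_add', neg_dvd] at this
  have hm : (2 : ℤ) < Nat.card M := by omega
  have : SMulCommClass (UG B) M W := ⟨fun g a x => g.1.map_smul (a.1 : E) x⟩
  have hg := gam_int (K := UG B) cc (h.c0r 0) M (fun a x e => by
      rw [or_iff_not_imp_right]
      exact fun hx => Subtype.ext (Units.ext (smul_left_injective E hx (e.trans (one_smul E x).symm))))
    fun a x y => by
      have : ∀ x y, B (a • x) (a • y) = B x y := fun x y => by
        change B ((a.1 : E) • x) ((a.1 : E) • y) = _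
        rw [map_smul, map_smulₛₗ, LinearMap.smul_apply, smul_smul, mul_comm, hM _ a.2, one_smul]
      rw [kap, kap, this, this]
  have sq : ∀ g : UG B, (r (fx W g) : ℂ) ^ 2 = fx W g := fun g => by exact_mod_cast (hr g).1
  have ne : ∀ g : UG B, (r (fx W g) : ℂ) ≠ 0 := fun g e =>
    Hs.fx_ne (W := W) g (by rw [← sq, e, zero_pow two_ne_zero])
  refine ⟨⟨fun g => ((r (fx W g) : ℂ) * r (fx W (1 : UG B)))⁻¹ • av _ N (G g), h.mul hm hr hg⟩,
    fun n => ((r n : ℂ) * r (fx W (1 : UG B)))⁻¹, ?_, fun g x => ?_, fun g => ?_, fun a e1 e2 hN hS g => ?_⟩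
  · rw [MulHom.coe_mk, h.av_one, ← pow_two, sq, inv_smul_smul₀ (Hs.fx_ne _)]
  · rw [MulHom.coe_mk, smul_mul_assoc, mul_smul_comm, h.N_av]
  · rw [finsum_eq_sum_of_fintype]
    simp only [← kx]
    rfl
  · have h1 : Commute (av (fun x y => ζ (kap B γ x y)) N (G g)) a := by
      have := hS g
      rw [MulHom.coe_mk, smul_mul_assoc, mul_smul_comm] at this
      exact smul_right_injective _ (inv_ne_zero (mul_ne_zero (ne g) (ne 1))) this
    have h2 := congrArg (· * G g) (h.av_inv g)
    simp only [h.av_G g⁻¹, mul_assoc, smul_mul_assoc, ← h.GG, inv_mul_cancel, one_mul] at h2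
    have h3 := (h1.mul_left ((Commute.sum_left Finset.univ _ _ fun x _ => Commute.smul_left (hN (x + g⁻¹ • x))
      (ζ (kap B γ x (x + g⁻¹ • x)))).mul_left (e1.trans e2.symm : Commute (G 1) a))).eq
    rw [h2, smul_mul_assoc, mul_smul_comm] at h3
    exact smul_right_injective _ (mul_ne_zero (Hs.fx_ne g) (Hs.fx_ne 1)) h3

end CL.TOr
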