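/-
Project TO: the stabiliser of an isotropic vector of a unitary group, on a module where its centre acts
non-trivially.
-/
import Cfsg.Agent.TOr.Defs3
import Cfsg.Agent.TOr.Small
import Cfsg.Agent.TOr.Weil

set_option autoImplicit false
set_option linter.unusedSectionVars false

namespace CL.TOr

open Module

universe u

section Aux

variable {E V : Type*} [Field E] [Finite E] [CharP E 2] [AddCommGroup V] [Module E V] [FiniteDimensional E V]
  {s : E →+* E} {B : V →ₛₗ[s] V →ₗ[E] E} {v v' : V}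

theorem umir2_inv (H : Hyp B v v') (x : hW B v v') (c : E) : (H.sieg x c)⁻¹ = H.sieg x (c + B x x) := by
  rw [inv_eq_iff_mul_eq_one, H.sieg_mul, hyp_add_self E x, ← H.sieg_zero]
  congr 1
  linear_combination (c + B x x) * hyp_two_eq (E := E)

theorem umir2_zero_mul (H : Hyp B v v') (x : hW B v v') (c d : E) :
    H.sieg 0 d * H.sieg x c = H.sieg x (d + c) := by
  rw [H.sieg_mul, zero_add]
  simp

theorem umir2_comm (H : Hyp B v v') (x y : hW B v v') (c d : E) :
    H.sieg y d * H.sieg x c = H.sieg 0 (B y x + B x y) * H.sieg x c * H.sieg y d := by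
  rw [umir2_zero_mul, H.sieg_mul, H.sieg_mul, add_comm y x]
  congr 1
  linear_combination (-B x y) * hyp_two_eq (E := E)

theorem umir2_cond (H : Hyp B v v') {x y : hW B v v'} {c d : E} (h : c + s c = B x x) (h' : d + s d = B y y) :
    c + d + B x y + s (c + d + B x y) = B (x + y : hW B v v') (x + y : hW B v v') := by
  simp only [map_add, Submodule.coe_add, LinearMap.add_apply, H.herm.symm]
  linear_combination h + h'

/-- The Siegel transformations of `t`-fixed vectors. -/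
def umir2R (H : Hyp B v v') (t : hW B v v' →+ hW B v v') : Subgroup (K0 B v) where
  carrier := {k | ∃ (x : hW B v v') (c : E), t x = x ∧ c + s c = B x x ∧ k.1 = H.sieg x c}
  one_mem' := ⟨0, 0, map_zero _, by simp, H.sieg_zero.symm⟩
  mul_mem' := by
    rintro a b ⟨x, c, h1, h2, h3⟩ ⟨y, d, h4, h5, h6⟩
    exact ⟨x + y, c + d + B x y, by rw [map_add, h1, h4], umir2_cond H h2 h5,
      by rw [Subgroup.coe_mul, h3, h6, H.sieg_mul]⟩
  inv_mem' := by
    rintro a ⟨x, c, h1, h2, h3⟩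
    refine ⟨x, c + B x x, h1, ?_, by rw [Subgroup.coe_inv, h3, umir2_inv]⟩
    rw [map_add, H.herm.symm]
    linear_combination h2 + B x x * hyp_two_eq (E := E)

theorem umir2_le (H : Hyp B v v') (t : hW B v v' →+ hW B v v') : umir2R H t ≤ umir2R H (AddMonoidHom.id _) := by
  rintro k ⟨x, c, -, h2, h3⟩
  exact ⟨x, c, rfl, h2, h3⟩

theorem umir2_z (H : Hyp B v v') {a : E} (ha : s a = a) : a + s a = B (0 : hW B v v') (0 : hW B v v') := by
  rw [ha, ZeroMemClass.coe_zero, map_zero]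
  linear_combination a * hyp_two_eq (E := E)

theorem umir2_sa (H : Hyp B v v') (x y : V) : s (B y x + B x y) = B y x + B x y := by
  rw [map_add, H.herm.symm, H.herm.symm, add_comm]

theorem umir2_conj (H : Hyp B v v') (t : hW B v v' →+ hW B v v') (r : umir2R H (AddMonoidHom.id _))
    (m : umir2R H t) : r.1 * m.1 * r.1⁻¹ ∈ umir2R H t := by
  obtain ⟨r, y, d, -, -, hr⟩ := r
  obtain ⟨m, x, c, h1, h2, h3⟩ := m
  have hz : (⟨H.sieg 0 (B y x + B x y), H.sieg_mem (umir2_z H (umir2_sa H x y))⟩ : K0 B v) ∈ umir2R H t :=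
    ⟨0, _, map_zero _, umir2_z H (umir2_sa H x y), rfl⟩
  have := mul_mem hz (show m ∈ umir2R H t from ⟨x, c, h1, h2, h3⟩)
  convert this using 1
  rw [mul_inv_eq_iff_eq_mul]
  apply Subtype.ext
  simp only [Subgroup.coe_mul, hr, h3]
  exact umir2_comm H x y c d

/-- Conjugation by a Siegel transformation. -/
def umir2Act (H : Hyp B v v') (t : hW B v v' →+ hW B v v') (r : umir2R H (AddMonoidHom.id _)) :
    umir2R H t →* umir2R H t :=
  ((MulAut.conj r.1).toMonoidHom.comp (umir2R H t).subtype).codRestrict _ (umir2_conj H t r)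

theorem umir2Act_coe (H : Hyp B v v') (t : hW B v v' →+ hW B v v') (r : umir2R H (AddMonoidHom.id _))
    (m : umir2R H t) : (umir2Act H t r m).1 = r.1 * m.1 * r.1⁻¹ := rfl

theorem umir2_fixed {W : Type*} [AddCommGroup W] [Module E W] {C : W →ₛₗ[s] W →ₗ[E] E} (hC : Herm s C)
    {γ : E} (hγ : γ + s γ = 1) {t : W →+ W} (ht : IsCj C t) {ζ : E → ℂ} (hne : ∃ c, s c = c ∧ ζ c ≠ 1) {y : W}
    (hy : ∀ x, t x = x → ζ (C y x + C x y) = 1) : t y = y := by
  obtain ⟨c, hc, hc1⟩ := hne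
  have h1 : ∀ x, t x = x → C y x + C x y = 0 := fun x hx => by
    by_contra ha
    have hsa : s (c / (C y x + C x y)) = c / (C y x + C x y) := by
      rw [map_div₀, hc, map_add, hC.symm, hC.symm, add_comm]
    have h2 := hy ((c / (C y x + C x y)) • x) (by rw [ht.smul, hsa, hx])
    rw [map_smul, LinearMap.map_smulₛₗ, LinearMap.smul_apply, hsa, smul_eq_mul, smul_eq_mul, ← mul_add,
      div_mul_cancel₀ _ ha] at h2
    exact hc1 h2
  have h2 : ∀ x, t x = x → C (y + t y) x = 0 := fun x hx => by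
    rw [map_add, LinearMap.add_apply, ← h1 x hx]
    congr 1
    conv_lhs => rw [← hx]
    rw [ht.form, hC.symm]
  have h3 : ∀ u, t (u + t u) = u + t u := fun u => by rw [map_add, ht.invol, add_comm]
  have h4 : y + t y = 0 := hC.nd _ fun u => by
    have hu : u = s γ • (u + t u) + (γ • u + t (γ • u)) := by
      rw [ht.smul, smul_add]
      have h5 := hyp_add_self E (s γ • t u)
      have h6 : γ • u + s γ • u = u := by rw [← add_smul, hγ, one_smul]
      conv_lhs => rw [← h6, ← add_zero (γ • u + s γ • u), ← h5]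
      abel
    rw [hu, map_add, map_smul, h2 _ (h3 u), h2 _ (h3 _), smul_zero, add_zero]
  rw [← add_zero (t y), ← hyp_add_self E y, ← add_assoc, add_comm (t y), h4, zero_add]

theorem umir2_core (H : Hyp B v v') {γ : E} (hγ : γ + s γ = 1) {tW : hW B v v' →+ hW B v v'}
    (htW : IsCj (BW B v v') tW) {ζ : E → ℂ} (hne : ∃ c, s c = c ∧ ζ c ≠ 1)
    {X : Type} [AddCommGroup X] [Module ℂ X] [FiniteDimensional ℂ X] {σ : K0 B v →ₙ* End ℂ X}
    {ω : LinearMap.BilinForm ℂ X} {τW : UG (BW B v v') →* UG (BW B v v')} {S : UG (BW B v v') →ₙ* End ℂ X}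
    (hT : TO (UG (BW B v v')) τW) (hS : Skew τW S ω) (h1 : S 1 = σ 1)
    (hζ : ∀ (k : K0 B v) (c : E), k.1 = H.sieg 0 c → σ k = ζ c • σ 1)
    (hc : ∀ g, ∀ r ∈ umir2R H (AddMonoidHom.id _), S g * σ r = σ r * S g)
    (hadj : ∀ m ∈ umir2R H tW, Adj ω (σ m) (σ m)) :
    EvS (σ '' (umir2R H (AddMonoidHom.id _) : Set (K0 B v)) ∪ Set.range S) (σ 1) := by
  haveI : Finite (V ≃ₗ[E] V) := finite_equiv
  letI : CommGroup (umir2R H tW) :=
    { (inferInstance : Group (umir2R H tW)) with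
      mul_comm := by
        rintro ⟨a, x, c, a1, -, a3⟩ ⟨b, y, d, b1, -, b3⟩
        apply Subtype.ext
        apply Subtype.ext
        show a.1 * b.1 = b.1 * a.1
        have h2 : B y x + B x y = 0 := by
          have h3 := htW.form x y
          rw [a1, b1, BW_apply, H.herm.symm] at h3
          rw [h3]
          linear_combination B y x * hyp_two_eq (E := E)
        rw [a3, b3, umir2_comm H x y c d, h2, H.sieg_zero, one_mul] }
  let n : Additive (umir2R H tW) → End ℂ X := fun m => σ (Additive.toMul m).1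
  have nadd : ∀ x y, n (x + y) = n x * n y := fun x y => map_mul σ _ _
  have hSn : ∀ g m, S g * n m = n m * S g := fun g m => hc g _ (umir2_le H tW (Additive.toMul m).2)
  let σH : umir2R H (AddMonoidHom.id _) × UG (BW B v v') →ₙ* End ℂ X :=
    ⟨fun p => σ p.1.1 * S p.2, fun p q => by
      show σ (p.1.1 * q.1.1) * S (p.2 * q.2) = _
      rw [map_mul, map_mul, mul_assoc, mul_assoc, ← mul_assoc (σ q.1.1), ← hc _ _ q.1.2, mul_assoc]⟩
  have hσH : ∀ p, σH p = σ p.1.1 * S p.2 := fun _ => rfl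
  have hσ1 : σH 1 = σ 1 := by
    show σ 1 * S 1 = _
    rw [h1, sig_one_mul]
  have key : EvS (Set.range σH) (σH 1) := by
    refine fourier' (n := n) σH hσ1.symm nadd (fun p => MonoidHom.toAdditive (umir2Act H tW p.1))
      (fun m => ?_) (fun p q m => ?_) (fun p m => ?_) fun χ => ?_
    · apply Additive.toMul.injective
      apply Subtype.ext
      show (1 : K0 B v) * _ * 1⁻¹ = _
      rw [one_mul, inv_one, mul_one]
      rfl
    · apply Additive.toMul.injective
      apply Subtype.ext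
      show p.1.1 * q.1.1 * _ * (p.1.1 * q.1.1)⁻¹ = p.1.1 * (q.1.1 * _ * q.1.1⁻¹) * p.1.1⁻¹
      simp only [mul_inv_rev, mul_assoc]
    · rw [hσH, mul_assoc, hSn, ← mul_assoc, ← mul_assoc]
      congr 1
      show σ _ * σ _ = σ (p.1.1 * _ * p.1.1⁻¹) * σ _
      rw [← map_mul, ← map_mul, inv_mul_cancel_right]
      rfl
    by_cases he : Ech n χ = 0
    · rw [he]; exact evS_zero _
    have hee := Ech_idem nadd χ
    have he1 : σ 1 * Ech n χ = Ech n χ := zero_mul_Ech nadd χ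
    have hχ : ∀ (m : umir2R H tW) (c : E), m.1.1 = H.sieg 0 c → χ (Additive.ofMul m) = ζ c := fun m c hm => by
      have h2 : σ m.1 * Ech n χ = _ := n_mul_Ech nadd χ (Additive.ofMul m)
      rw [hζ _ c hm, smul_mul_assoc, he1] at h2
      exact (smul_left_injective ℂ he h2).symm
    have hce : ∀ g, S g * Ech n χ = Ech n χ * S g := fun g => comm_Ech χ (hSn g)
    have hae : Adj ω (Ech n χ) (Ech n χ) :=
      Adj.ech (n := n) (n' := n) (AddEquiv.refl _) (fun m => hadj _ (Additive.toMul m).2) fun _ => rfl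
    refine (hT.ev_cut hS (MonoidHom.id _) (fun _ => rfl) hee (by rw [h1, he1]) hce hae).of_smul ?_
    rintro _ ⟨⟨⟨r, y, d, hy0, hd, hr⟩, g⟩, hp, rfl⟩
    have hy : tW y = y := by
      refine umir2_fixed H.hermW hγ htW hne fun x hx => ?_
      have hx2 : γ * B x x + s (γ * B x x) = B x x := by
        rw [map_mul, H.herm.symm, ← add_mul, hγ, one_mul]
      let m : umir2R H tW := ⟨⟨_, H.sieg_mem hx2⟩, x, _, hx, hx2, rfl⟩
      let z : umir2R H tW := ⟨⟨_, H.sieg_mem (umir2_z H (umir2_sa H x y))⟩, 0, _, map_zero _,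
        umir2_z H (umir2_sa H x y), rfl⟩
      have h2 : umir2Act H tW ⟨r, y, d, hy0, hd, hr⟩ m = z * m := by
        apply Subtype.ext
        rw [umir2Act_coe, mul_inv_eq_iff_eq_mul]
        apply Subtype.ext
        simp only [Subgroup.coe_mul, hr]
        exact umir2_comm H x y _ d
      have h3 : χ (Additive.ofMul (umir2Act H tW ⟨r, y, d, hy0, hd, hr⟩ m)) = χ (Additive.ofMul m) :=
        hp (Additive.ofMul m)
      rw [h2, ofMul_mul, AddChar.map_add_eq_mul, hχ z _ rfl] at h3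
      exact mul_right_cancel₀ (χ.val_isUnit _).ne_zero (h3.trans (one_mul _).symm)
    refine ⟨χ (Additive.ofMul ⟨r, y, d, hy, hd, hr⟩), _, ⟨g, rfl⟩, ?_⟩
    have h2 : σ r * Ech n χ = _ := n_mul_Ech nadd χ (Additive.ofMul ⟨r, y, d, hy, hd, hr⟩)
    show σ r * S g * Ech n χ = _ • (S g * Ech n χ)
    rw [← hc g r ⟨y, d, hy0, hd, hr⟩, mul_assoc, h2, mul_smul_comm]
  rw [hσ1] at key
  refine key.mono ?_
  rintro _ (⟨r, hr, rfl⟩ | ⟨g, rfl⟩)
  · exact ⟨(⟨r, hr⟩, 1), by rw [hσH, h1, sig_mul_one]⟩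
  · refine ⟨(1, g), ?_⟩
    show σ 1 * S g = S g
    rw [← h1, sig_one_mul]

theorem umir2_adj {t : V →+ V} (hB : Herm s B) (ht : IsCj B t) {τ : UG B →* UG B} (hτ : IsCjAut t τ)
    {X : Type*} [AddCommGroup X] [Module ℂ X] {ω : LinearMap.BilinForm ℂ X} {N : V → End ℂ X}
    {G S : UG B →ₙ* End ℂ X} {lam : ℕ → ℂ} {ζ : E → ℂ} (hN : ∀ x, Adj ω (N x) (N (t x)))
    (hG : ∀ g, Adj ω (G g) (G (τ g⁻¹)))
    (hS : ∀ g, S g = lam (Nat.card {x : V // (g : V ≃ₗ[E] V) x = x}) • ∑ᶠ x : V, ζ (B x x) • (N x * G g * N x))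
    (g : UG B) : Adj ω (S g) (S (τ g⁻¹)) := by
  haveI : Finite V := Module.finite_of_finite E
  letI := Fintype.ofFinite V
  let e : Equiv.Perm V := Function.Involutive.toPerm t ht.invol
  have hcard : Nat.card {x : V // (g : V ≃ₗ[E] V) x = x} =
      Nat.card {x : V // ((τ g⁻¹ : UG B) : V ≃ₗ[E] V) x = x} := by
    refine Nat.card_congr (e.subtypeEquiv fun x => ?_)
    show _ ↔ ((τ g⁻¹ : UG B) : V ≃ₗ[E] V) (t x) = t x
    rw [hτ, (show Function.Injective t from e.injective).eq_iff]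
    show _ ↔ (g : V ≃ₗ[E] V).symm x = x
    rw [LinearEquiv.symm_apply_eq, eq_comm]
  rw [hS, hS, hcard, finsum_eq_sum_of_fintype, finsum_eq_sum_of_fintype,
    ← Equiv.sum_comp e fun x => ζ (B x x) • (N x * G (τ g⁻¹) * N x)]
  refine (Adj.sum _ fun x _ => ?_).smul _
  show Adj ω _ (ζ (B (t x) (t x)) • (N (t x) * G (τ g⁻¹) * N (t x)))
  rw [ht.form, hB.symm, mul_assoc (N (t x))]
  exact (((hN x).mul (hG g)).mul (hN x)).smul _

end Aux

variable {E V : Type u} [Field E] [Finite E] [CharP E 2] [AddCommGroup V] [Module E V] [FiniteDimensional E V]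
  {s : E →+* E} {B : V →ₛₗ[s] V →ₗ[E] E} {v v' : V}

theorem umir_ne (H : Hyp B v v') (hs : s ≠ RingHom.id E) (hP : UP (BW B v v')) {ζ : E → ℂ}
    (hadd : ∀ a b, s a = a → s b = b → ζ (a + b) = ζ a * ζ b) (h0 : ζ 0 = 1) (hne : ∃ c, s c = c ∧ ζ c ≠ 1) :
    UMir B v ζ := by
  intro t ht htv τ hτ X _ _ _ σ ω hσ hζ
  obtain ⟨γ, hγ⟩ := exists_gamma H.herm.invol hs
  obtain ⟨tW, htW⟩ := exists_cj H.hermW hs
  obtain ⟨τW, hτW⟩ := exists_cjAut_UG H.hermW htW
  obtain ⟨t', ht', h1, h2, h3⟩ := H.cj_ext htW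
  obtain ⟨τ', ω', hτ', hσ'⟩ := Skew.change_K0 H.herm ht ht' htv h1 hτ hσ
  have hζ' : ∀ (k : K0 B v) (c : E), k.1 = H.sieg 0 c → σ k = ζ c • σ 1 := fun k c hk =>
    hζ k c fun y => by rw [hk, H.sieg_apply]; simp
  have hmem : ∀ x : hW B v v', γ * B x x + s (γ * B x x) = B x x := fun x => by
    rw [map_mul, H.herm.symm, ← add_mul, hγ, one_mul]
  let el : hW B v v' → K0 B v := fun x => ⟨H.sieg x (γ * B x x), H.sieg_mem (hmem x)⟩
  let N : hW B v v' → End ℂ X := fun x => σ (el x)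
  have hdec : ∀ (k : K0 B v) (x : hW B v v') (c : E), c + s c = B x x → k.1 = H.sieg x c →
      σ k = ζ (c + γ * B x x) • N x := fun k x c hc hk => by
    have hd : s (c + γ * B x x) = c + γ * B x x := by
      rw [map_add]
      linear_combination hc + hmem x + (B x x - c - γ * B x x) * hyp_two_eq (E := E)
    have h4 : k = ⟨_, H.sieg_mem (umir2_z H hd)⟩ * el x := by
      apply Subtype.ext
      show k.1 = H.sieg 0 _ * H.sieg x _
      rw [hk, umir2_zero_mul]
      congr 1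
      linear_combination (-γ * B x x) * hyp_two_eq (E := E)
    rw [h4, map_mul, hζ' _ _ rfl, smul_mul_assoc, sig_one_mul]
  let G := cmp σ H.iotaU
  have G1 : G 1 = σ 1 := cmp_one _ _
  have N0 : N 0 = G 1 := by
    rw [G1]
    refine congrArg σ (Subtype.ext ?_)
    show H.sieg 0 _ = 1
    rw [ZeroMemClass.coe_zero, map_zero, mul_zero, H.sieg_zero]
  have NN : ∀ x y, N x * N y = ζ (kap (BW B v v') γ x y) • N (x + y) := fun x y => by
    rw [← map_mul, hdec _ (x + y) _ (umir2_cond H (hmem x) (hmem y)) (H.sieg_mul _ _ _ _)]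
    congr 2
    simp only [kap, BW_apply, map_add, Submodule.coe_add, LinearMap.add_apply]
    linear_combination (γ * B x x + γ * B y y + γ * B x y) * hyp_two_eq (E := E) - B x y * hγ
  have GN : ∀ (g : UG (BW B v v')) (x : hW B v v'), G g * N x = N (g.1 x) * G g := fun g x => by
    show σ _ * σ _ = σ _ * σ _
    rw [← map_mul, ← map_mul]
    refine congrArg σ (Subtype.ext ?_)
    show H.iota g.1 * H.sieg x _ = H.sieg (g.1 x) (γ * BW B v v' (g.1 x) (g.1 x)) * H.iota g.1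
    rw [g.2, H.iota_sieg g.2]
    rfl
  obtain ⟨S, lam, S1, SN, hS, hfin⟩ :=
    weilThm E (hW B v v') s (BW B v v') H.hermW hs γ hγ ζ hadd h0 hne X N G N0 NN GN
  have hτk : ∀ (k k' : K0 B v) (x : hW B v v') (c : E), c + s c = B x x → k.1 = H.sieg x c →
      k'.1 = H.sieg (tW x) c → Adj ω' (σ k) (σ k') := fun k k' x c hc hk hk' => by
    have h4 : τ' k⁻¹ = k' := hτ'.eq_of ht' fun y => by
      have h5 : c = s (c + B x x) := by
        rw [map_add, H.herm.symm]
        linear_combination hc - s c * hyp_two_eq (E := E)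
      rw [Subgroup.coe_inv, hk, hk', umir2_inv, ← H.cj_sieg ht' h1 h2 h3, ← h5]
    rw [← h4]
    exact hσ'.adj' k
  have hN : ∀ x, Adj ω' (N x) (N (tW x)) := fun x => hτk _ _ x _ (hmem x) rfl (by
    show H.sieg (tW x) (γ * BW B v v' (tW x) (tW x)) = _
    rw [htW.form, H.hermW.symm]
    rfl)
  have hG : Skew τW G ω' := hσ'.cmp H.iotaU fun g =>
    (hτ'.eq_of ht' fun y => H.cj_iota ht' h1 h2 h3 (hτW g) y).symm
  have hSk : Skew τW S ω' :=
    hG.sub (by rw [S1, sig_one_mul]) (umir2_adj H.hermW htW hτW hN hG.adj' hS)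
  have key := umir2_core H hγ htW hne (hP.ug H.hermW htW τW hτW) hSk (S1.trans G1) hζ'
    (by
      rintro g r ⟨x, c, -, hc, hr⟩
      rw [hdec r x c hc hr, mul_smul_comm, smul_mul_assoc, SN])
    (by
      rintro m ⟨x, c, hx, hc, hm⟩
      exact hτk m m x c hc hm (by rw [hx, hm]))
  refine key.of_comm fun a ha ha' hcm => ?_
  rintro _ ⟨k, rfl⟩
  obtain ⟨x, c, hc, hk, -⟩ := H.exists_decomp k
  have h4 : k = ⟨_, H.sieg_mem hc⟩ * H.iotaU (H.pi k) := Subtype.ext hk
  have h5 := hfin a (by rw [G1, ha]) (by rw [G1, ha'])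
    (fun y => hcm _ (Or.inl ⟨el y, ⟨y, _, rfl, hmem y, rfl⟩, rfl⟩)) (fun g => hcm _ (Or.inr ⟨g, rfl⟩)) (H.pi k)
  have h6 := hcm _ (Or.inl ⟨⟨_, H.sieg_mem hc⟩, ⟨x, c, rfl, hc, rfl⟩, rfl⟩)
  rw [h4, map_mul, mul_assoc]
  rw [cmp_apply] at h5
  rw [h5, ← mul_assoc, h6, mul_assoc]

end CL.TOr
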