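/-
Project TO: the induction for unitary groups.
-/
import Cfsg.Agent.TOr.UFin0
import Cfsg.Agent.TOr.UMir1
import Cfsg.Agent.TOr.UMir2

set_option autoImplicit false

namespace CL.TOr

universe u

theorem uAll_of (hGL : GLAll.{u}) : UAll.{u} :=
  uAll_of_mir (fun _ _ _ _ _ _ _ _ _ _ _ _ H hs hP _ hζ => umir_one H hs hP hζ)
    (fun _ _ _ _ _ _ _ _ _ _ _ _ H hs hP _ h1 h2 h3 => umir_ne H hs hP h1 h2 h3) hGL

end CL.TOr
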