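/-
Project TO: assembly.
-/
import Cfsg.Agent.TOr.GLFin
import Cfsg.Agent.TOr.GLPar
import Cfsg.Agent.TOr.GLMir
import Cfsg.Agent.TOr.UFin
import Cfsg.Agent.TOr.OFin
import Cfsg.Agent.TOr.Real

set_option autoImplicit false

namespace CL.TOr

universe u

theorem glAllThm : GLAll.{u} :=
  glAll_of (fun _ _ _ _ _ _ _ h => par_ev h) (fun _ _ _ _ _ _ _ _ h => mir_ev h)

theorem uAllThm : UAll.{u} := uAll_of glAllThm

theorem oAllThm : OAll.{u} := oAll_of glAllThm uAllThm

theorem realThm : RealThm.{u} := realThm_of glAllThm uAllThm (oReal_of oAllThm)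

end CL.TOr
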