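/-
Tate–Oliver style argument for `GL`: the unconditional statement `GLAll`.
-/
import Cfsg.Agent.TOr.GLFin
import Cfsg.Agent.TOr.GLPar
import Cfsg.Agent.TOr.GLMir

set_option autoImplicit false

namespace CL.TOr

universe u

theorem glAll : GLAll.{u} :=
  glAll_of (fun _ _ _ _ _ _ _ h => par_ev h) (fun _ _ _ _ _ _ _ _ h => mir_ev h)

end CL.TOr
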